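import Cfsg.Agent.H492.IMTools3
import Cfsg.Agent.H33.RD

/-!
# Tools for the sporadic rows of the Itô-Michler theorem, 4 (helper492)

* `IM_of_cent_char` : `x` of order `p`, and `C_G(x)` has a character whose degree has the right
  `p`-part.
* `IM_of_cent_quot` : the case of a character of defect zero of a quotient of `C_G(x)`.
* `IM_of_pair` : `x`, `y` commute, generate a group of order `p ^ 2` which contains the
  centralizer of `⟨x, y⟩`, and `|C_G(x)| = p ^ 2 * m`.
-/

set_option autoImplicit false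

open Cfsg Cfsg.Agent.Characters.Core Cfsg.Agent.Blocks.Basic
open Cfsg.Agent.H713 Cfsg.Agent.H713.Count Cfsg.Agent.H33 Cfsg.Agent.H665.NoPQ

namespace Cfsg.Agent.H492.IMTools

universe u v

variable {G : Type u} [Group G] {p : ℕ} [hp : Fact p.Prime]

theorem centralizer_zpowers (x : G) :
    Subgroup.centralizer ((Subgroup.zpowers x : Subgroup G) : Set G) =
      Subgroup.centralizer ({x} : Set G) := by
  rw [Subgroup.zpowers_eq_closure, Subgroup.centralizer_closure]

/-- A `p`-element normalising a group of order `p` centralizes it. -/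
theorem mem_centralizer_of_norm {x g : G} (hx : orderOf x = p)
    (hg : g ∈ Subgroup.normalizer ((Subgroup.zpowers x : Subgroup G) : Set G)) {k : ℕ}
    (hk : orderOf g = p ^ k) : g ∈ Subgroup.centralizer ({x} : Set G) := by
  have hxp : x ^ p = 1 := by rw [← hx]; exact pow_orderOf_eq_one x
  obtain ⟨j, hj⟩ : ∃ j : ℕ, g * x * g⁻¹ = x ^ j := by
    have h1 : g * x * g⁻¹ ∈ Subgroup.zpowers x :=
      (Subgroup.mem_normalizer_iff.1 hg x).1 (Subgroup.mem_zpowers x)
    have hfin : IsOfFinOrder x := by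
      rw [← orderOf_pos_iff, hx]; exact hp.out.pos
    rw [← hfin.mem_powers_iff_mem_zpowers] at h1
    obtain ⟨j, hj⟩ := h1
    exact ⟨j, hj.symm⟩
  have hn : ∀ n : ℕ, g ^ n * x * (g ^ n)⁻¹ = x ^ (j ^ n) := by
    intro n
    induction n with
    | zero => simp
    | succ n ih =>
      calc g ^ (n + 1) * x * (g ^ (n + 1))⁻¹ = g ^ n * (g * x * g⁻¹) * (g ^ n)⁻¹ := by
            rw [pow_succ]; group
        _ = (g ^ n * x * (g ^ n)⁻¹) ^ j := by rw [hj, conj_pow]
        _ = x ^ (j ^ (n + 1)) := by rw [ih, ← pow_mul, pow_succ]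
  have hjp : ¬ p ∣ j := by
    intro hd
    obtain ⟨c, rfl⟩ := hd
    rw [pow_mul, hxp, one_pow, mul_inv_eq_one] at hj
    have h1 : x = 1 := by
      have := mul_left_cancel (hj.trans (mul_one g).symm)
      exact this
    rw [h1, orderOf_one] at hx
    exact hp.out.one_lt.ne hx
  have h1 : g ^ (p - 1) ∈ Subgroup.centralizer ({x} : Set G) := by
    rw [Subgroup.mem_centralizer_singleton_iff]
    have h2 := hn (p - 1)
    have h3 : x ^ (j ^ (p - 1)) = x := by
      have h4 : j ^ (p - 1) ≡ 1 [MOD p] := by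
        have := Nat.ModEq.pow_totient ((Nat.Prime.coprime_iff_not_dvd hp.out).2 hjp).symm
        rwa [Nat.totient_prime hp.out] at this
      have h5 : x ^ (j ^ (p - 1)) = x ^ 1 := by
        rw [pow_eq_pow_iff_modEq, hx]; exact h4
      rw [h5, pow_one]
    rw [h3] at h2
    exact mul_inv_eq_iff_eq_mul.1 h2
  have hcop : Nat.Coprime (p - 1) (p ^ k) := by
    apply Nat.Coprime.pow_right
    have h2 := hp.out.two_le
    rw [Nat.coprime_comm, Nat.Prime.coprime_iff_not_dvd hp.out]
    intro hd
    have := Nat.le_of_dvd (by omega) hd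
    omega
  have h2 : g ^ (p ^ k) ∈ Subgroup.centralizer ({x} : Set G) := by
    rw [← hk, pow_orderOf_eq_one]; exact one_mem _
  have h3 : g ^ (1 : ℤ) = (g ^ (p - 1)) ^ (Nat.gcdA (p - 1) (p ^ k)) *
      (g ^ (p ^ k)) ^ (Nat.gcdB (p - 1) (p ^ k)) := by
    rw [← zpow_natCast, ← zpow_natCast, ← zpow_mul, ← zpow_mul, ← zpow_add, ← Nat.gcd_eq_gcd_ab,
      hcop, Nat.cast_one]
  rw [zpow_one] at h3
  rw [h3]
  exact mul_mem (zpow_mem h1 _) (zpow_mem h2 _)

theorem IM_of_cent_char [Finite G] {x : G} (hx : orderOf x = p) (hG : p ^ 2 ∣ Nat.card G)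
    (θ : IrrCharacter (Subgroup.centralizer ((Subgroup.zpowers x : Subgroup G) : Set G)))
    (hθ : (Nat.card (Subgroup.centralizer ({x} : Set G))).factorization p ≤
      (charDegree (θ : Subgroup.centralizer ((Subgroup.zpowers x : Subgroup G) : Set G) → ℂ)).factorization
        p + 1) : IM p G := by
  have hD : IsPGroup p (Subgroup.zpowers x) := by
    apply IsPGroup.of_card (n := 1)
    rw [Nat.card_zpowers, hx, pow_one]
  have hle : Subgroup.zpowers x ≤
      Subgroup.centralizer ((Subgroup.zpowers x : Subgroup G) : Set G) := by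
    rw [centralizer_zpowers, Subgroup.zpowers_le]
    exact Subgroup.mem_centralizer_singleton_iff.2 rfl
  refine IM.of_local (Subgroup.zpowers x) hD ?_ θ ?_ ?_
  · have h1 := (Subgroup.zpowers x).card_mul_index
    rw [Nat.card_zpowers, hx] at h1
    rw [← h1, pow_two] at hG
    exact Nat.dvd_of_mul_dvd_mul_left hp.out.pos hG
  · have hcd : Nat.card (Subgroup.centralizer ((Subgroup.zpowers x : Subgroup G) : Set G)) =
        Nat.card (Subgroup.centralizer ({x} : Set G)) := by rw [centralizer_zpowers]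
    rw [inf_eq_left.2 hle, Nat.card_zpowers, hx, hp.out.factorization_self, hcd]
    exact hθ
  · rintro g hg ⟨k, hk⟩
    apply Subgroup.mem_sup_right
    rw [centralizer_zpowers]
    exact mem_centralizer_of_norm hx hg hk

/-- `C_G(x) / K` has a character of defect zero, and `|K|_p = p`. -/
theorem IM_of_cent_quot [Finite G] {x : G} (hx : orderOf x = p) (hG : p ^ 2 ∣ Nat.card G)
    {H : Type v} [Group H] (f : Subgroup.centralizer ({x} : Set G) →* H)
    (hf : Function.Surjective f)
    (hH : (Nat.card (Subgroup.centralizer ({x} : Set G))).factorization p ≤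
      (Nat.card H).factorization p + 1) (h : HasDZ p H) : IM p G := by
  obtain ⟨χ, hχ⟩ := h
  have e : Subgroup.centralizer ((Subgroup.zpowers x : Subgroup G) : Set G) ≃*
      Subgroup.centralizer ({x} : Set G) := MulEquiv.subgroupCongr (centralizer_zpowers x)
  have hfe : Function.Surjective (f.comp e.toMonoidHom) := hf.comp e.surjective
  refine IM_of_cent_char hx hG ⟨(χ : H → ℂ) ∘ (f.comp e.toMonoidHom),
    isIrr_comp (f.comp e.toMonoidHom) hfe χ.2⟩ ?_
  have h2 : charDegree ((χ : H → ℂ) ∘ (f.comp e.toMonoidHom)) = charDegree (χ : H → ℂ) := by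
    unfold charDegree
    rw [Function.comp_apply, map_one]
  show _ ≤ (charDegree ((χ : H → ℂ) ∘ (f.comp e.toMonoidHom))).factorization p + 1
  rw [h2, hχ]
  exact hH

section quot

variable {C : Type u} [Group C]

/-- Centralizers modulo a central subgroup of order `p`. -/
theorem isPGroup_centralizer_mk [Finite C] {z y : C} (hz : z ^ p = 1)
    (hzc : ∀ c : C, c * z = z * c) [(Subgroup.zpowers z).Normal]
    (hy : ∀ q : ℕ, q.Prime → q ≠ p → ¬ q ∣ Nat.card (Subgroup.centralizer ({y} : Set C))) :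
    IsPGroup p (Subgroup.centralizer
      ({(QuotientGroup.mk y : C ⧸ Subgroup.zpowers z)} : Set (C ⧸ Subgroup.zpowers z))) := by
  rw [IsPGroup.iff_card]
  set K := Subgroup.centralizer
      ({(QuotientGroup.mk y : C ⧸ Subgroup.zpowers z)} : Set (C ⧸ Subgroup.zpowers z)) with hK
  have key : ∀ q : ℕ, q.Prime → q ∣ Nat.card K → q = p := by
    intro q hq hd
    by_contra hne
    have : Fact q.Prime := ⟨hq⟩
    obtain ⟨⟨c', hc'⟩, hord⟩ := exists_prime_orderOf_dvd_card' q hd
    rw [Subgroup.orderOf_mk] at hord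
    obtain ⟨c, rfl⟩ := QuotientGroup.mk_surjective c'
    rw [hK, Subgroup.mem_centralizer_singleton_iff] at hc'
    -- `c y = y c z ^ k`
    have h1 : (QuotientGroup.mk (c * y) : C ⧸ Subgroup.zpowers z) = QuotientGroup.mk (y * c) := hc'
    rw [eq_comm, QuotientGroup.eq] at h1
    obtain ⟨k, hk⟩ := h1
    have hk' : c * y * c⁻¹ = y * z ^ k := by
      have h2 : z ^ k = (y * c)⁻¹ * (c * y) := hk
      have h3 : c⁻¹ * z ^ k = z ^ k * c⁻¹ :=
        ((show Commute c⁻¹ z from (show Commute c z from hzc c).inv_left).zpow_right k).eq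
      calc c * y * c⁻¹ = y * c * ((y * c)⁻¹ * (c * y)) * c⁻¹ := by group
        _ = y * c * z ^ k * c⁻¹ := by rw [h2]
        _ = y * c * (z ^ k * c⁻¹) := by group
        _ = y * z ^ k := by rw [← h3]; group
    -- `c ^ p` commutes with `y`
    have hn : ∀ n : ℕ, c ^ n * y * (c ^ n)⁻¹ = y * z ^ (k * n) := by
      intro n
      induction n with
      | zero => simp
      | succ n ih =>
        have h3 : c ^ n * z ^ k * (c ^ n)⁻¹ = z ^ k := by
          have : Commute (c ^ n) (z ^ k) :=
            ((show Commute c z from hzc c).pow_left n).zpow_right k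
          rw [this.eq]; group
        calc c ^ (n + 1) * y * (c ^ (n + 1))⁻¹ = c ^ n * (c * y * c⁻¹) * (c ^ n)⁻¹ := by
              rw [pow_succ]; group
          _ = (c ^ n * y * (c ^ n)⁻¹) * (c ^ n * z ^ k * (c ^ n)⁻¹) := by rw [hk']; group
          _ = y * z ^ (k * n) * z ^ k := by rw [ih, h3]
          _ = y * z ^ (k * (n + 1 : ℕ)) := by
              rw [mul_assoc, ← zpow_add]; congr 2; push_cast; ring
    have h4 : c ^ p ∈ Subgroup.centralizer ({y} : Set C) := by
      rw [Subgroup.mem_centralizer_singleton_iff]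
      have h5 := hn p
      rw [mul_comm k, zpow_mul, zpow_natCast, hz, one_zpow, mul_one] at h5
      exact mul_inv_eq_iff_eq_mul.1 h5
    -- its order is divisible by `q`
    have h5 : q ∣ orderOf (c ^ p) := by
      have h6 : orderOf (QuotientGroup.mk (c ^ p) : C ⧸ Subgroup.zpowers z) ∣ orderOf (c ^ p) :=
        orderOf_map_dvd (QuotientGroup.mk' (Subgroup.zpowers z)) (c ^ p)
      refine dvd_trans ?_ h6
      have h7 : (QuotientGroup.mk (c ^ p) : C ⧸ Subgroup.zpowers z) =
          (QuotientGroup.mk c : C ⧸ Subgroup.zpowers z) ^ p := rfl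
      rw [h7, orderOf_pow, hord, (Nat.coprime_primes hq hp.out).2 hne, Nat.div_one]
    refine hy q hq hne (h5.trans ?_)
    rw [← Subgroup.orderOf_mk _ h4]
    exact orderOf_dvd_natCard _
  refine ⟨(Nat.card K).factorization p, ?_⟩
  have hne : Nat.card K ≠ 0 := Nat.card_pos.ne'
  conv_lhs => rw [← Nat.prod_factorization_pow_eq_self hne]
  rw [Finsupp.prod]
  rw [Finset.prod_eq_single p]
  · intro q hq hqp
    exact absurd (key q (Nat.prime_of_mem_primeFactors hq) (Nat.dvd_of_mem_primeFactors hq)) hqp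
  · intro h
    rw [Nat.support_factorization] at h
    have : (Nat.card K).factorization p = 0 := by
      apply Nat.factorization_eq_zero_of_not_dvd
      intro hd
      exact h (Nat.mem_primeFactors.2 ⟨hp.out, hd, hne⟩)
    rw [this, pow_zero]

end quot

/-- **T3 for two commuting elements of order `p`.** -/
theorem IM_of_pair [Finite G] {x y : G} (hx : orderOf x = p) (hy : orderOf y = p)
    (hcomm : y * x = x * y) (hyx : y ∉ Subgroup.zpowers x)
    (hxy : ∀ q : ℕ, q.Prime → q ≠ p →
      ¬ q ∣ Nat.card ↥(Subgroup.centralizer ({x} : Set G) ⊓ Subgroup.centralizer ({y} : Set G)))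
    {m : ℕ} (hC : Nat.card (Subgroup.centralizer ({x} : Set G)) = p ^ 2 * m) (hpm : ¬ p ∣ m)
    (s : Finset ℕ) (hs : ∀ n ∈ s, ¬ p ∣ n ∧ ∃ g : G, g * x = x * g ∧ orderOf g = n)
    (hcard : m % p ∣ p - 1 → m % p < s.card) : IM p G := by
  classical
  set C := Subgroup.centralizer ({x} : Set G) with hCdef
  have hG : p ^ 2 ∣ Nat.card G :=
    (Dvd.intro m hC.symm).trans (Subgroup.card_subgroup_dvd_card C)
  set z : C := ⟨x, Subgroup.mem_centralizer_singleton_iff.2 rfl⟩ with hz
  set y' : C := ⟨y, Subgroup.mem_centralizer_singleton_iff.2 hcomm⟩ with hy'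
  have hzo : orderOf z = p := by rw [hz, Subgroup.orderOf_mk, hx]
  have hyo : orderOf y' = p := by rw [hy', Subgroup.orderOf_mk, hy]
  have hzc : ∀ c : C, c * z = z * c := fun c =>
    Subtype.ext (Subgroup.mem_centralizer_singleton_iff.1 c.2)
  have hnorm : (Subgroup.zpowers z).Normal := by
    refine ⟨fun n hn g => ?_⟩
    obtain ⟨k, rfl⟩ := hn
    have : g * z ^ k * g⁻¹ = z ^ k := by
      rw [((show Commute g z from hzc g).zpow_right k).eq, mul_inv_cancel_right]
    show g * z ^ k * g⁻¹ ∈ _
    rw [this]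
    exact ⟨k, rfl⟩
  have hm : m ≠ 0 := by rintro rfl; exact hpm (dvd_zero _)
  -- the quotient
  have hH : Nat.card (C ⧸ Subgroup.zpowers z) = p * m := by
    have h1 := Subgroup.card_eq_card_quotient_mul_card_subgroup (Subgroup.zpowers z)
    rw [hC, Nat.card_zpowers, hzo] at h1
    have h2 : p * (p * m) = p * Nat.card (C ⧸ Subgroup.zpowers z) := by
      rw [mul_comm p (Nat.card _), ← h1]; ring
    exact (Nat.eq_of_mul_eq_mul_left hp.out.pos h2).symm
  have hHf : (Nat.card (C ⧸ Subgroup.zpowers z)).factorization p = 1 := by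
    rw [hH, Nat.factorization_mul hp.out.ne_zero hm, Finsupp.add_apply,
      hp.out.factorization_self, Nat.factorization_eq_zero_of_not_dvd hpm]
  have hyb : orderOf (QuotientGroup.mk y' : C ⧸ Subgroup.zpowers z) = p := by
    apply orderOf_eq_prime
    · have : (QuotientGroup.mk y' : C ⧸ Subgroup.zpowers z) ^ p = QuotientGroup.mk (y' ^ p) := rfl
      rw [this, ← hyo, pow_orderOf_eq_one]
      rfl
    · intro h
      rw [QuotientGroup.eq_one_iff] at h
      obtain ⟨k, hk⟩ := h
      apply hyx
      refine ⟨k, ?_⟩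
      have := congrArg Subtype.val hk
      exact this
  have hq : ∀ q : ℕ, q.Prime → q ≠ p → ¬ q ∣ Nat.card (Subgroup.centralizer ({y'} : Set C)) := by
    intro q hq hne hd
    refine hxy q hq hne (hd.trans (dvd_of_eq ?_))
    apply Nat.card_congr
    refine
      { toFun := fun c => ⟨c.1.1, c.1.2, ?_⟩
        invFun := fun c => ⟨⟨c.1, c.2.1⟩, ?_⟩
        left_inv := fun _ => rfl
        right_inv := fun _ => rfl }
    · have h1 := Subgroup.mem_centralizer_singleton_iff.1 c.2
      exact Subgroup.mem_centralizer_singleton_iff.2 (congrArg Subtype.val h1)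
    · rw [Subgroup.mem_centralizer_singleton_iff]
      exact Subtype.ext (Subgroup.mem_centralizer_singleton_iff.1 c.2.2)
  have hpg := isPGroup_centralizer_mk (p := p) (by rw [← hzo]; exact pow_orderOf_eq_one z) hzc hq
  have hcb : Nat.card (Subgroup.centralizer
      ({(QuotientGroup.mk y' : C ⧸ Subgroup.zpowers z)} : Set (C ⧸ Subgroup.zpowers z))) = p := by
    obtain ⟨k, hk⟩ := IsPGroup.iff_card.1 hpg
    have h1 : p ∣ p ^ k := by
      rw [← hk, ← hyb, ← Subgroup.orderOf_mk _ (Subgroup.mem_centralizer_singleton_iff.2 rfl)]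
      exact orderOf_dvd_natCard _
    have h2 : p ^ k ∣ p * m := by rw [← hk, ← hH]; exact Subgroup.card_subgroup_dvd_card _
    have h3 : k = 1 := by
      rcases Nat.lt_trichotomy k 1 with h | h | h
      · have : k = 0 := by omega
        rw [this, pow_zero] at h1
        exact absurd (Nat.le_of_dvd one_pos h1) (by have := hp.out.one_lt; omega)
      · exact h
      · exfalso
        apply hpm
        have h4 : p ^ 2 ∣ p * m := (pow_dvd_pow p h).trans h2
        rw [pow_two] at h4
        exact Nat.dvd_of_mul_dvd_mul_left hp.out.pos h4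
    rw [hk, h3, pow_one]
  have hdiv : Nat.card (C ⧸ Subgroup.zpowers z) / p = m := by
    rw [hH, Nat.mul_div_cancel_left _ hp.out.pos]
  have hlt : m % p < s.card := by
    apply hcard
    have h1 := card_fus_eq hHf hyb (c := 1) (by rw [hcb, mul_one]) (e := m % p) (by
      intro k hk h
      rw [mul_one, hdiv, Nat.mod_eq_of_lt hk] at h
      exact h)
    exact Dvd.intro _ h1.2
  refine IM_of_cent_quot hx hG (QuotientGroup.mk' (Subgroup.zpowers z))
    (QuotientGroup.mk'_surjective _) ?_ (hasDZ_of_orders hHf hyb hcb s ?_ (by rw [hdiv]; exact hlt))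
  · rw [← hCdef, hHf, hC, Nat.factorization_mul (pow_ne_zero _ hp.out.ne_zero) hm,
      Finsupp.add_apply, Nat.factorization_eq_zero_of_not_dvd hpm, hp.out.factorization_pow,
      Finsupp.single_eq_same]
  · intro n hn
    obtain ⟨h1, g, hg, hgn⟩ := hs n hn
    refine ⟨h1, QuotientGroup.mk ⟨g, Subgroup.mem_centralizer_singleton_iff.2 hg⟩, ?_⟩
    set g' : C := ⟨g, Subgroup.mem_centralizer_singleton_iff.2 hg⟩ with hg'
    have hgo : orderOf g' = n := by rw [hg', Subgroup.orderOf_mk, hgn]
    have h2 : orderOf (QuotientGroup.mk g' : C ⧸ Subgroup.zpowers z) ∣ n := by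
      rw [← hgo]
      exact orderOf_map_dvd (QuotientGroup.mk' (Subgroup.zpowers z)) g'
    apply Nat.dvd_antisymm h2
    set o := orderOf (QuotientGroup.mk g' : C ⧸ Subgroup.zpowers z) with ho
    have h3 : g' ^ o ∈ Subgroup.zpowers z := by
      rw [← QuotientGroup.eq_one_iff]
      have : (QuotientGroup.mk (g' ^ o) : C ⧸ Subgroup.zpowers z) =
        (QuotientGroup.mk g' : C ⧸ Subgroup.zpowers z) ^ o := rfl
      rw [this, ho, pow_orderOf_eq_one]
    have h4 : (g' ^ o) ^ p = 1 := by
      obtain ⟨k, hk⟩ := h3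
      rw [← hk]
      show (z ^ k) ^ p = 1
      rw [← zpow_natCast, ← zpow_mul, mul_comm, zpow_mul, zpow_natCast, ← hzo, pow_orderOf_eq_one,
        one_zpow]
    rw [← pow_mul] at h4
    have h5 := orderOf_dvd_of_pow_eq_one h4
    rw [hgo] at h5
    have hcop : Nat.Coprime n p := by
      rw [Nat.coprime_comm, Nat.Prime.coprime_iff_not_dvd hp.out]; exact h1
    exact hcop.dvd_of_dvd_mul_right h5

end Cfsg.Agent.H492.IMTools
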