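import Cfsg.Agent.H492.IMJ4
import Cfsg.Agent.H492.SphVal
import Cfsg.Agent.H601.K4.Defs

/-!
# Odd degree characters of the fourth Janko group (helper492)

`good5_j4` : the irreducible characters of degrees 1, 889111, 4290927, 35411145, 35411145 in the
permutation character of degree 173067389 are real, fixed by the Galois automorphism of S4547, and
in the principal 2-block.
-/

set_option autoImplicit false
set_option linter.style.longLine false
set_option linter.unusedSimpArgs false

open Cfsg

noncomputable section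

namespace Cfsg.Agent.H492.K4J4

open Cfsg.Agent.J4 Cfsg.Agent.J4.M24Hom Cfsg.Agent.J4.Rel Cfsg.Agent.J4.Index
  Cfsg.Agent.J4.Upper1 Cfsg.Agent.J4.Upper
  Cfsg.Agent.J4.Pres Cfsg.Agent.J4.Rep112 Cfsg.Agent.H492.NodeHecke Cfsg.Agent.H492.JFour
  Cfsg.Agent.H492.JFourDis Cfsg.Agent.H492.IMJ4 Cfsg.Agent.H601.K4 Cfsg.Agent.Characters.Core

universe u v

/-! ### generic -/

theorem good5_of {S : Type u} {T : Type v} [Group S] [Group T] [Finite T] (e : S ≃* T)
    (χ : Fin 5 → T → ℂ) (hinj : Function.Injective χ)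
    (h : ∀ i, OddIrr (χ i) ∧ SigFix (χ i) ∧ ∀ x, (χ i x).im = 0) : Good5 S := by
  have : Finite S := Finite.of_equiv T e.symm.toEquiv
  refine ⟨fun i g => χ i (e g), ?_, fun i => ?_⟩
  · intro i j hij
    apply hinj
    funext x
    have h2 := congrFun hij (e.symm x)
    simpa using h2
  · have hodd : OddIrr (fun g => χ i (e g)) := by
      refine ⟨isIrr_comp e.toMonoidHom e.surjective (h i).1.1, ?_⟩
      have h2 : charDegree (fun g => χ i (e g)) = charDegree (χ i) := by
        show ⌊(χ i (e 1)).re⌋₊ = ⌊(χ i 1).re⌋₊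
        rw [map_one]
      rw [h2]
      exact (h i).1.2
    refine ⟨hodd, ?_, InB0.of_real hodd fun x => (h i).2.2 _⟩
    intro k h2 h3 g
    show χ i (e (g ^ k)) = χ i (e g)
    rw [map_pow]
    refine (h i).2.1 k ?_ ?_ _
    · rintro y ⟨j, hj⟩
      have h4 := h2 (e.symm y) ⟨j, by rw [MulEquiv.orderOf_eq, hj]⟩
      have h5 := congrArg e h4
      simpa using h5
    · intro y hy
      have h4 := h3 (e.symm y) (by rw [MulEquiv.orderOf_eq]; exact hy)
      have h5 := congrArg e h4
      simpa using h5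

/-- The exponents in `SigFix` are prime to the order of the group, and `1` modulo its odd prime
divisors. -/
theorem sig_modEq {T : Type v} [Group T] [Finite T] {k : ℕ}
    (h2 : ∀ g : T, (∃ j : ℕ, orderOf g = 2 ^ j) → g ^ k = g ^ 3)
    (h3 : ∀ g : T, Odd (orderOf g) → g ^ k = g) :
    (∀ p : ℕ, p.Prime → p ∣ Nat.card T → p ≠ 2 → k ≡ 1 [MOD p]) ∧ k.Coprime (Nat.card T) := by
  have h1 : ∀ p : ℕ, p.Prime → p ∣ Nat.card T → p ≠ 2 → k ≡ 1 [MOD p] := by
    intro p hp hd hne
    have := Fact.mk hp
    obtain ⟨y, hy⟩ := exists_prime_orderOf_dvd_card' p hd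
    have h4 := h3 y (by rw [hy]; exact hp.odd_of_ne_two hne)
    rw [← hy]
    apply pow_eq_pow_iff_modEq.1
    rw [h4, pow_one]
  refine ⟨h1, ?_⟩
  rw [Nat.coprime_iff_gcd_eq_one]
  by_contra hne
  obtain ⟨p, hp, hpd⟩ := Nat.exists_prime_and_dvd hne
  have hpk : p ∣ k := hpd.trans (Nat.gcd_dvd_left _ _)
  have hpT : p ∣ Nat.card T := hpd.trans (Nat.gcd_dvd_right _ _)
  have := Fact.mk hp
  by_cases hp2 : p = 2
  · subst hp2
    obtain ⟨y, hy⟩ := exists_prime_orderOf_dvd_card' 2 hpT
    have h4 := h2 y ⟨1, by rw [hy, pow_one]⟩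
    have h5 := pow_eq_pow_iff_modEq.1 h4
    rw [hy] at h5
    unfold Nat.ModEq at h5
    omega
  · have h4 := h1 p hp hpT hp2
    unfold Nat.ModEq at h4
    rw [Nat.mod_eq_zero_of_dvd hpk, Nat.mod_eq_of_lt hp.one_lt] at h4
    omega

/-- Rational valued characters. -/
theorem sigFix_of_all {T : Type v} [Group T] [Finite T] {χ : T → ℂ} (hχ : IsCharacter T χ)
    (h : ∀ σ : ℂ →+* ℂ, ∀ g, σ (χ g) = χ g) : SigFix χ := by
  intro k h2 h3 g
  obtain ⟨σ, hσ⟩ := Cfsg.Agent.Characters.GaloisBasic.exists_ringEquiv_of_coprime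
    (sig_modEq h2 h3).2
  rw [← hσ χ hχ g]
  exact h σ _

theorem im_eq_zero {T : Type v} {χ : T → ℂ} (h : ∀ g, (starRingEnd ℂ) (χ g) = χ g) (g : T) :
    (χ g).im = 0 := Complex.conj_eq_iff_im.1 (h g)

/-! ### the square root of 33 -/

/-- A square root of `33` in the field of the `33`-rd roots of unity. -/
theorem exists_sqrt : ∃ s : ℂ, s ^ 2 = 33 ∧ (starRingEnd ℂ) s = s ∧
    ∀ (n k : ℕ), 3 ∣ n → 11 ∣ n → k ≡ 1 [MOD 3] → k ≡ 1 [MOD 11] →
      ∀ σ : ℂ →+* ℂ, (∀ z : ℂ, z ^ n = 1 → σ z = z ^ k) → σ s = s := by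
  have h3 := Complex.isPrimitiveRoot_exp 3 (by norm_num)
  have h11 := Complex.isPrimitiveRoot_exp 11 (by norm_num)
  set w : ℂ := Complex.exp (2 * Real.pi * Complex.I / (3 : ℕ)) with hw
  set z : ℂ := Complex.exp (2 * Real.pi * Complex.I / (11 : ℕ)) with hz
  have w3 : w ^ 3 = 1 := h3.pow_eq_one
  have z11 : z ^ 11 = 1 := h11.pow_eq_one
  have gw : 1 + w + w ^ 2 = 0 := by
    have h := h3.geom_sum_eq_zero (by norm_num)
    simp only [Finset.sum_range_succ, Finset.sum_range_zero] at h
    linear_combination h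
  have gz : 1 + z + z ^ 2 + z ^ 3 + z ^ 4 + z ^ 5 + z ^ 6 + z ^ 7 + z ^ 8 + z ^ 9 + z ^ 10 = 0 := by
    have h := h11.geom_sum_eq_zero (by norm_num)
    simp only [Finset.sum_range_succ, Finset.sum_range_zero] at h
    linear_combination h
  set a : ℂ := z + z ^ 3 + z ^ 4 + z ^ 5 + z ^ 9 with ha
  have hq : a ^ 2 + a + 3 = 0 := by
    rw [ha]
    linear_combination 3 * gz + (z ^ 7 + 2 * z ^ 3 + 2 * z ^ 2 + 2 * z) * z11
  have hww : (w - w ^ 2) ^ 2 = -3 := by
    linear_combination (w - 2) * w3 + gw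
  have hs : ((w - w ^ 2) * (2 * a + 1)) ^ 2 = 33 := by
    rw [mul_pow, hww]
    linear_combination (-12) * hq
  refine ⟨(w - w ^ 2) * (2 * a + 1), hs, ?_, ?_⟩
  · -- it is plus or minus the real square root
    have hr : ((Real.sqrt 33 : ℝ) : ℂ) ^ 2 = 33 := by
      rw [← Complex.ofReal_pow, Real.sq_sqrt (by norm_num)]
      norm_num
    rcases sq_eq_sq_iff_eq_or_eq_neg.1 (hs.trans hr.symm) with h | h
    · rw [h, Complex.conj_ofReal]
    · rw [h, map_neg, Complex.conj_ofReal]
  · intro n k hn3 hn11 hk3 hk11 σ hσ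
    have e1 : σ w = w := by
      obtain ⟨m, rfl⟩ := hn3
      rw [hσ w (by rw [pow_mul, w3, one_pow]), ← pow_mod_orderOf, ← h3.eq_orderOf]
      have h4 : k % 3 = 1 := hk3
      rw [h4, pow_one]
    have e2 : σ z = z := by
      obtain ⟨m, rfl⟩ := hn11
      rw [hσ z (by rw [pow_mul, z11, one_pow]), ← pow_mod_orderOf, ← h11.eq_orderOf]
      have h4 : k % 11 = 1 := hk11
      rw [h4, pow_one]
    have e3 : σ a = a := by
      rw [ha]
      simp only [map_add, map_pow, e2]
    simp only [map_mul, map_add, map_sub, map_pow, map_one, map_ofNat, e1, e3]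

/-! ### the characters -/

theorem mainV (v : Fin 7 → ℂ) (μ κ : ℂ) (hv0 : v 0 = 1)
    (hv : ∀ i, ∑ j, (PP i j : ℂ) * v j = μ * v i)
    (hu : ∀ x : Fin 7 → ℂ, (∀ i, ∑ j, (PP i j : ℂ) * x j = μ * x i) → ∀ i, x i = x 0 * v i)
    (hκ : ∑ i, (ss i : ℂ) * v i ^ 2 = κ) (hκ0 : κ ≠ 0) :
    ∃ χ : IrrCharacter Cfsg.Spor.J4, (χ : Cfsg.Spor.J4 → ℂ) 1 * κ = 173067389 ∧
      (∀ σ : ℂ →+* ℂ, (∀ i, σ (v i) = v i) → ∀ g,
        σ ((χ : Cfsg.Spor.J4 → ℂ) g) = (χ : Cfsg.Spor.J4 → ℂ) g) ∧
      ∀ (φ : Cfsg.Spor.J4 → ℂ), φ = χ → ∀ i, ∑ᶠ b : BB, φ (cc (rp i) * b) = Nat.card BB * v i := by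
  have := exact.1
  have := Fintype.ofFinite BB
  obtain ⟨χ, hχ, hσ, hsm⟩ := SphVal.exists_irr_node_val nd TrioAll.K hK AA hA hNP (by norm_num) hm hdis rp
    (by decide) (by decide) Mt hMt 4 (by norm_num) PP hP ss_inj 0 cc_zero v μ hv0 hv hu
    (κ := κ) (by rw [← hκ]; exact Finset.sum_congr rfl fun i _ => by rw [szc_eq]) hκ0
  refine ⟨χ, ?_, hσ, ?_⟩
  swap
  · rintro φ rfl i
    rw [finsum_eq_sum_of_fintype]
    exact hsm i
  rw [hχ, exact.2.2.1]
  norm_num

/-! ### degree 35411145 -/

theorem val_35411145 (s : ℂ) (hs : s ^ 2 = 33) :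
    ∃ χ : IrrCharacter Cfsg.Spor.J4, (χ : Cfsg.Spor.J4 → ℂ) 1 = (35411145 : ℕ) ∧
      (∀ σ : ℂ →+* ℂ, σ s = s → ∀ g,
        σ ((χ : Cfsg.Spor.J4 → ℂ) g) = (χ : Cfsg.Spor.J4 → ℂ) g) ∧
      ∀ (φ : Cfsg.Spor.J4 → ℂ), φ = χ → ∀ i, ∑ᶠ b : BB, φ (cc (rp i) * b) = Nat.card BB * vE s i := by
  obtain ⟨e0, e1, e2, e3, e4, e5, e6⟩ := vE_eq s
  have key := mainV (vE s) (66 + (17) * s) (11803/2415) e0 ?_ ?_ ?_ (by norm_num)
  · obtain ⟨χ, hχ, hσ, hsm⟩ := key
    refine ⟨χ, ?_, fun σ h => hσ σ fun i => ?_, hsm⟩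
    swap
    · fin_cases i
      · show σ (vE s 0) = vE s 0
        rw [e0, map_one]
      · show σ (vE s 1) = vE s 1
        rw [e1]
        simp only [map_add, map_mul, map_div₀, map_neg, map_ofNat, map_one, h]
      · show σ (vE s 2) = vE s 2
        rw [e2]
        simp only [map_add, map_mul, map_div₀, map_neg, map_ofNat, map_one, h]
      · show σ (vE s 3) = vE s 3
        rw [e3]
        simp only [map_add, map_mul, map_div₀, map_neg, map_ofNat, map_one, h]
      · show σ (vE s 4) = vE s 4
        rw [e4]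
        simp only [map_add, map_mul, map_div₀, map_neg, map_ofNat, map_one, h]
      · show σ (vE s 5) = vE s 5
        rw [e5]
        simp only [map_add, map_mul, map_div₀, map_neg, map_ofNat, map_one, h]
      · show σ (vE s 6) = vE s 6
        rw [e6]
        simp only [map_add, map_mul, map_div₀, map_neg, map_ofNat, map_one, h]
    push_cast
    linear_combination (2415/11803) * hχ
  · intro i
    obtain ⟨r0, r1, r2, r3, r4, r5, r6⟩ := rows (vE s)
    fin_cases i
    · show ∑ j, (PP 0 j : ℂ) * vE s j = (66 + (17) * s) * vE s 0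
      rw [r0, e0, e1, e2, e3, e4, e5, e6]
      linear_combination (0) * hs
    · show ∑ j, (PP 1 j : ℂ) * vE s j = (66 + (17) * s) * vE s 1
      rw [r1, e0, e1, e2, e3, e4, e5, e6]
      linear_combination (-289/15180) * hs
    · show ∑ j, (PP 2 j : ℂ) * vE s j = (66 + (17) * s) * vE s 2
      rw [r2, e0, e1, e2, e3, e4, e5, e6]
      linear_combination (323/28336) * hs
    · show ∑ j, (PP 3 j : ℂ) * vE s j = (66 + (17) * s) * vE s 3
      rw [r3, e0, e1, e2, e3, e4, e5, e6]
      linear_combination (-17/22080) * hs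
    · show ∑ j, (PP 4 j : ℂ) * vE s j = (66 + (17) * s) * vE s 4
      rw [r4, e0, e1, e2, e3, e4, e5, e6]
      linear_combination (527/1020096) * hs
    · show ∑ j, (PP 5 j : ℂ) * vE s j = (66 + (17) * s) * vE s 5
      rw [r5, e0, e1, e2, e3, e4, e5, e6]
      linear_combination (-697/6800640) * hs
    · show ∑ j, (PP 6 j : ℂ) * vE s j = (66 + (17) * s) * vE s 6
      rw [r6, e0, e1, e2, e3, e4, e5, e6]
      linear_combination (-17/161280) * hs
  · intro x hx
    obtain ⟨r0, r1, r2, r3, r4, r5, r6⟩ := rows x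
    have h0 := hx 0
    have h1 := hx 1
    have h2 := hx 2
    have h3 := hx 3
    have h4 := hx 4
    have h5 := hx 5
    have h6 := hx 6
    rw [r0] at h0
    rw [r1] at h1
    rw [r2] at h2
    rw [r3] at h3
    rw [r4] at h4
    rw [r5] at h5
    rw [r6] at h6
    intro i
    fin_cases i
    · show x 0 = x 0 * vE s 0
      rw [e0]
      ring
    · show x 1 = x 0 * vE s 1
      rw [e1]
      linear_combination (1/15180) * h0
    · show x 2 = x 0 * vE s 2
      rw [e2]
      linear_combination (1261538427151/3250935184447258 + (-62480193229/928838624127788) * s) * h0 + (-229368285555/14685195638384 + (3197586905475/1130760064155568) * s) * h1 + (4066036241657/80768576011112 + (-2152604170187/242305728033336) * s) * h2 + (-10100221397355/20192144002778 + (1839899700315/20192144002778) * s) * h3 + (12641743574820/10096072001389 + (-2377839158820/10096072001389) * s) * h4 + (-7945448825940/10096072001389 + (1519711595220/10096072001389) * s) * h5 + ((-62480193229/54637566125164) * x 0 + (3197586905475/66515297891504)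 * x 1 + (-2152604170187/14253278119608) * x 2 + (1839899700315/1187773176634) * x 3 + (-2377839158820/593886588317) * x 4 + (1519711595220/593886588317) * x 5) * hs
    · show x 3 = x 0 * vE s 3
      rw [e3]
      linear_combination (-4253489310437/156044888853468384 + (2784137806763/585168333200506440) * s) * h0 + (498777083031/411185477874752 + (-2641368980815/13569120769866816) * s) * h1 + (-1043772132101/323074304044448 + (192761161817/323074304044448) * s) * h2 + (2657740869915/80768576011112 + (-1464112356625/242305728033336) * s) * h3 + (-887513971089/10096072001389 + (157505877313/10096072001389) * s) * h4 + (576610933165/10096072001389 + (-301820975735/30288216004167) * s) * h5 + ((2784137806763/34421666658853320) * x 0 + (-2641368980815/798183574698048) * x 1 + (192761161817/19004370826144) * x 2 + (-1464112356625/14253278119608) * x 3 + (157505877313/593886588317) * x 4 + (-301820975735/1781659764951) * x 5) * hs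
    · show x 4 = x 0 * vE s 4
      rw [e4]
      linear_combination (170447051954041/29960618659865929728 + (-4941404731855/4280088379980847104) * s) * h0 + (-1352563154695/5639115125139456 + (7367889017785/144737288211912704) * s) * h1 + (8459229343555/10338377729422336 + (-4786797655225/31015133188267008) * s) * h2 + (-21792669041625/2584594432355584 + (4016549726185/2584594432355584) * s) * h3 + (7489731759363/323074304044448 + (-1295610738051/323074304044448) * s) * h4 + (-4932968991495/323074304044448 + (827356004135/323074304044448) * s) * h5 + ((-4941404731855/251769904704755712) * x 0 + (7367889017785/8513958130112512) * x 1 + (-4786797655225/1824419599309824) * x 2 + (4016549726185/152034966609152) * x 3 + (-1295610738051/19004370826144) * x 4 + (827356004135/19004370826144) * x 5) * hs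
    · show x 5 = x 0 * vE s 5
      rw [e5]
      linear_combination (-31336248610399/4993436443310988288 + (11115429061999/10700220949952117760) * s) * h0 + (202532616333/939852520856576 + (-9585463579387/217105932317869056) * s) * h1 + (-4070656530467/5169188864711168 + (748357247587/5169188864711168) * s) * h2 + (11113233550157/1292297216177792 + (-5748707247727/3876891648533376) * s) * h3 + (-3284335092207/161537152022224 + (610198469935/161537152022224) * s) * h4 + (1999281206499/161537152022224 + (-1161236913209/484611456066672) * s) * h5 + ((11115429061999/629424761761889280) * x 0 + (-9585463579387/12770937195168768) * x 1 + (748357247587/304069933218304) * x 2 + (-5748707247727/228052449913728) * x 3 + (610198469935/9502185413072) * x 4 + (-1161236913209/28506556239216) * x 5) * hs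
    · show x 6 = x 0 * vE s 6
      rw [e6]
      linear_combination (53786567006009/18947426820468572160 + (-7544868433801/18947426820468572160) * s) * h0 + (-116006123661961/1263161788031238144 + (19928583824281/1263161788031238144) * s) * h1 + (9236225254833/30075280667410432 + (-4977814212707/90225842002231296) * s) * h2 + (-26102706868203/7518820166852608 + (4310967405835/7518820166852608) * s) * h3 + (6941599680109/939852520856576 + (-1357074816285/939852520856576) * s) * h4 + (-3821563918905/939852520856576 + (855672113345/939852520856576) * s) * h5 + ((-7544868433801/1114554518851092480) * x 0 + (19928583824281/74303634590072832) * x 1 + (-4977814212707/5307402470719488) * x 2 + (4310967405835/442283539226624) * x 3 + (-1357074816285/55285442403328) * x 4 + (855672113345/55285442403328) * x 5) * hs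
  · rw [sum_ss (fun i => vE s i ^ 2), e0, e1, e2, e3, e4, e5, e6]
    linear_combination (1073/14490) * hs

/-! ### degree 889111 -/

theorem val_889111 :
    ∃ χ : IrrCharacter Cfsg.Spor.J4, (χ : Cfsg.Spor.J4 → ℂ) 1 = (889111 : ℕ) ∧
      ∀ σ : ℂ →+* ℂ, ∀ g, σ ((χ : Cfsg.Spor.J4 → ℂ) g) = (χ : Cfsg.Spor.J4 → ℂ) g := by
  obtain ⟨e0, e1, e2, e3, e4, e5, e6⟩ := vA_eq
  have key := mainV (vA) (825) (4477/23) e0 ?_ ?_ ?_ (by norm_num)
  · obtain ⟨χ, hχ, hσ, -⟩ := key
    refine ⟨χ, ?_, fun σ => hσ σ fun i => ?_⟩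
    swap
    · fin_cases i
      · show σ (vA 0) = vA 0
        rw [e0]
        simp only [map_div₀, map_neg, map_ofNat, map_one, map_zero]
      · show σ (vA 1) = vA 1
        rw [e1]
        simp only [map_div₀, map_neg, map_ofNat, map_one, map_zero]
      · show σ (vA 2) = vA 2
        rw [e2]
        simp only [map_div₀, map_neg, map_ofNat, map_one, map_zero]
      · show σ (vA 3) = vA 3
        rw [e3]
        simp only [map_div₀, map_neg, map_ofNat, map_one, map_zero]
      · show σ (vA 4) = vA 4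
        rw [e4]
        simp only [map_div₀, map_neg, map_ofNat, map_one, map_zero]
      · show σ (vA 5) = vA 5
        rw [e5]
        simp only [map_div₀, map_neg, map_ofNat, map_one, map_zero]
      · show σ (vA 6) = vA 6
        rw [e6]
        simp only [map_div₀, map_neg, map_ofNat, map_one, map_zero]
    push_cast
    linear_combination (23/4477) * hχ
  · intro i
    obtain ⟨r0, r1, r2, r3, r4, r5, r6⟩ := rows (vA)
    fin_cases i
    · show ∑ j, (PP 0 j : ℂ) * vA j = (825) * vA 0
      rw [r0, e0, e1, e2, e3, e4, e5, e6]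
      norm_num
    · show ∑ j, (PP 1 j : ℂ) * vA j = (825) * vA 1
      rw [r1, e0, e1, e2, e3, e4, e5, e6]
      norm_num
    · show ∑ j, (PP 2 j : ℂ) * vA j = (825) * vA 2
      rw [r2, e0, e1, e2, e3, e4, e5, e6]
      norm_num
    · show ∑ j, (PP 3 j : ℂ) * vA j = (825) * vA 3
      rw [r3, e0, e1, e2, e3, e4, e5, e6]
      norm_num
    · show ∑ j, (PP 4 j : ℂ) * vA j = (825) * vA 4
      rw [r4, e0, e1, e2, e3, e4, e5, e6]
      norm_num
    · show ∑ j, (PP 5 j : ℂ) * vA j = (825) * vA 5
      rw [r5, e0, e1, e2, e3, e4, e5, e6]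
      norm_num
    · show ∑ j, (PP 6 j : ℂ) * vA j = (825) * vA 6
      rw [r6, e0, e1, e2, e3, e4, e5, e6]
      norm_num
  · intro x hx
    obtain ⟨r0, r1, r2, r3, r4, r5, r6⟩ := rows x
    have h0 := hx 0
    have h1 := hx 1
    have h2 := hx 2
    have h3 := hx 3
    have h4 := hx 4
    have h5 := hx 5
    have h6 := hx 6
    rw [r0] at h0
    rw [r1] at h1
    rw [r2] at h2
    rw [r3] at h3
    rw [r4] at h4
    rw [r5] at h5
    rw [r6] at h6
    intro i
    fin_cases i
    · show x 0 = x 0 * vA 0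
      rw [e0]
      ring
    · show x 1 = x 0 * vA 1
      rw [e1]
      linear_combination (1/15180) * h0
    · show x 2 = x 0 * vA 2
      rw [e2]
      linear_combination (14972189/289005310440) * h0 + (30287/19038558) * h1 + (-376531/149588670) * h2 + (-34598/14958867) * h3 + (928304/24931445) * h4 + (-508304/14958867) * h5
    · show x 3 = x 0 * vA 3
      rw [e3]
      linear_combination (3096451/578010620880) * h0 + (5689/38077116) * h1 + (-37187/897532020) * h2 + (-23965/29917734) * h3 + (58628/24931445) * h4 + (-23852/14958867) * h5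
    · show x 4 = x 0 * vA 4
      rw [e4]
      linear_combination (2721083/3699267973632) * h0 + (119653/4873870848) * h1 + (674027/19147349760) * h2 + (304879/957367488) * h3 + (-233903/199451560) * h4 + (103325/119670936) * h5
    · show x 5 = x 0 * vA 5
      rw [e5]
      linear_combination (2401387/9248169934080) * h0 + (49033/2436935424) * h1 + (769/5744204928) * h2 + (64595/478683744) * h3 + (79091/99725780) * h4 + (-52589/59835468) * h5
    · show x 6 = x 0 * vA 6
      rw [e6]
      linear_combination (-1662959/2339458007040) * h0 + (-402667/14178533376) * h1 + (-179127/18567127040) * h2 + (-435025/2785069056) * h3 + (-65141/580222720) * h4 + (131221/348133632) * h5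
  · rw [sum_ss (fun i => vA i ^ 2), e0, e1, e2, e3, e4, e5, e6]
    norm_num

/-! ### degree 4290927 -/

theorem val_4290927 :
    ∃ χ : IrrCharacter Cfsg.Spor.J4, (χ : Cfsg.Spor.J4 → ℂ) 1 = (4290927 : ℕ) ∧
      ∀ σ : ℂ →+* ℂ, ∀ g, σ ((χ : Cfsg.Spor.J4 → ℂ) g) = (χ : Cfsg.Spor.J4 → ℂ) g := by
  obtain ⟨e0, e1, e2, e3, e4, e5, e6⟩ := vD_eq
  have key := mainV (vD) (-253) (121/3) e0 ?_ ?_ ?_ (by norm_num)
  · obtain ⟨χ, hχ, hσ, -⟩ := key
    refine ⟨χ, ?_, fun σ => hσ σ fun i => ?_⟩
    swap
    · fin_cases i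
      · show σ (vD 0) = vD 0
        rw [e0]
        simp only [map_div₀, map_neg, map_ofNat, map_one, map_zero]
      · show σ (vD 1) = vD 1
        rw [e1]
        simp only [map_div₀, map_neg, map_ofNat, map_one, map_zero]
      · show σ (vD 2) = vD 2
        rw [e2]
        simp only [map_div₀, map_neg, map_ofNat, map_one, map_zero]
      · show σ (vD 3) = vD 3
        rw [e3]
        simp only [map_div₀, map_neg, map_ofNat, map_one, map_zero]
      · show σ (vD 4) = vD 4
        rw [e4]
        simp only [map_div₀, map_neg, map_ofNat, map_one, map_zero]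
      · show σ (vD 5) = vD 5
        rw [e5]
        simp only [map_div₀, map_neg, map_ofNat, map_one, map_zero]
      · show σ (vD 6) = vD 6
        rw [e6]
        simp only [map_div₀, map_neg, map_ofNat, map_one, map_zero]
    push_cast
    linear_combination (3/121) * hχ
  · intro i
    obtain ⟨r0, r1, r2, r3, r4, r5, r6⟩ := rows (vD)
    fin_cases i
    · show ∑ j, (PP 0 j : ℂ) * vD j = (-253) * vD 0
      rw [r0, e0, e1, e2, e3, e4, e5, e6]
      norm_num
    · show ∑ j, (PP 1 j : ℂ) * vD j = (-253) * vD 1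
      rw [r1, e0, e1, e2, e3, e4, e5, e6]
      norm_num
    · show ∑ j, (PP 2 j : ℂ) * vD j = (-253) * vD 2
      rw [r2, e0, e1, e2, e3, e4, e5, e6]
      norm_num
    · show ∑ j, (PP 3 j : ℂ) * vD j = (-253) * vD 3
      rw [r3, e0, e1, e2, e3, e4, e5, e6]
      norm_num
    · show ∑ j, (PP 4 j : ℂ) * vD j = (-253) * vD 4
      rw [r4, e0, e1, e2, e3, e4, e5, e6]
      norm_num
    · show ∑ j, (PP 5 j : ℂ) * vD j = (-253) * vD 5
      rw [r5, e0, e1, e2, e3, e4, e5, e6]
      norm_num
    · show ∑ j, (PP 6 j : ℂ) * vD j = (-253) * vD 6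
      rw [r6, e0, e1, e2, e3, e4, e5, e6]
      norm_num
  · intro x hx
    obtain ⟨r0, r1, r2, r3, r4, r5, r6⟩ := rows x
    have h0 := hx 0
    have h1 := hx 1
    have h2 := hx 2
    have h3 := hx 3
    have h4 := hx 4
    have h5 := hx 5
    have h6 := hx 6
    rw [r0] at h0
    rw [r1] at h1
    rw [r2] at h2
    rw [r3] at h3
    rw [r4] at h4
    rw [r5] at h5
    rw [r6] at h6
    intro i
    fin_cases i
    · show x 0 = x 0 * vD 0
      rw [e0]
      ring
    · show x 1 = x 0 * vD 1
      rw [e1]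
      linear_combination (1/15180) * h0
    · show x 2 = x 0 * vD 2
      rw [e2]
      linear_combination (-315825/213582904612) * h0 + (315825/844201204) * h1 + (839906/331650473) * h2 + (-7534640/331650473) * h3 + (7058880/331650473) * h4 + (-466240/331650473) * h5
    · show x 3 = x 0 * vD 3
      rw [e3]
      linear_combination (-240856241/25629948553440) * h0 + (1490297/5065207224) * h1 + (-812113/7959611352) * h2 + (1235450/2984854257) * h3 + (-1734336/331650473) * h4 + (14020960/2984854257) * h5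
    · show x 4 = x 0 * vD 4
      rw [e4]
      linear_combination (410285/5125989710688) * h0 + (-410285/20260828896) * h1 + (12255/663300946) * h2 + (177295/7959611352) * h3 + (1190457/663300946) * h4 + (-3483385/1989902838) * h5
    · show x 5 = x 0 * vD 5
      rw [e5]
      linear_combination (252846071/102519794213760) * h0 + (-4179577/40521657792) * h1 + (-718127/31838445408) * h2 + (53587399/47757668112) * h3 + (102975/331650473) * h4 + (-3714646/2984854257) * h5
    · show x 6 = x 0 * vD 6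
      rw [e6]
      linear_combination (-191503363/149119700674560) * h0 + (2534149/39293728768) * h1 + (21055/1929602752) * h2 + (-35937413/46310466048) * h3 + (-82057/120600172) * h4 + (16753685/11577616512) * h5
  · rw [sum_ss (fun i => vD i ^ 2), e0, e1, e2, e3, e4, e5, e6]
    norm_num

/-! ### the theorem -/

theorem card_dvd (m : ℕ) (h : m ∣ 86775571046077562880) : m ∣ Nat.card Cfsg.Spor.J4 := by
  rw [exact.2.1]
  exact h

/-- **Five real characters of odd degree of `J4`.** -/
theorem exists_five : ∃ χ : Fin 5 → Cfsg.Spor.J4 → ℂ, Function.Injective χ ∧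
    ∀ i, OddIrr (χ i) ∧ SigFix (χ i) ∧ ∀ x, (χ i x).im = 0 := by
  have := finite_j4
  obtain ⟨s, hs, hconj, hgal⟩ := exists_sqrt
  obtain ⟨χA, hA, sA⟩ := val_889111
  obtain ⟨χD, hD, sD⟩ := val_4290927
  obtain ⟨χE, hE, sE, vE1⟩ := val_35411145 s hs
  obtain ⟨χF, hF, sF, vF1⟩ := val_35411145 (-s) (by rw [neg_sq, hs])
  have hs0 : s ≠ 0 := by
    rintro rfl
    norm_num at hs
  -- the two characters of degree 35411145 are different
  have hEF : (χE : Cfsg.Spor.J4 → ℂ) ≠ χF := by
    intro h
    have e1 := vE1 χE rfl 1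
    have e2 := vF1 χE h 1
    rw [e1] at e2
    have hc : (Nat.card BB : ℂ) ≠ 0 := by
      exact_mod_cast (Nat.card_pos (α := BB)).ne'
    have e3 := mul_left_cancel₀ hc e2
    rw [(vE_eq s).2.1, (vE_eq (-s)).2.1] at e3
    apply hs0
    linear_combination (15180 / 34) * e3
  -- the values
  have hsig : ∀ (χ : IrrCharacter Cfsg.Spor.J4), (∀ σ : ℂ →+* ℂ, σ s = s → ∀ g,
      σ ((χ : Cfsg.Spor.J4 → ℂ) g) = (χ : Cfsg.Spor.J4 → ℂ) g) →
      SigFix (χ : Cfsg.Spor.J4 → ℂ) ∧ ∀ x, ((χ : Cfsg.Spor.J4 → ℂ) x).im = 0 := by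
    intro χ h
    refine ⟨?_, im_eq_zero fun g => h _ hconj g⟩
    intro k h2 h3 g
    obtain ⟨h4, h5⟩ := sig_modEq h2 h3
    obtain ⟨σ, hσ⟩ := Cfsg.Agent.Characters.GaloisBasic.exists_ringEquiv_pow
      (Nat.card_pos (α := Cfsg.Spor.J4)).ne' h5
    rw [← Cfsg.Agent.Characters.GaloisBasic.map_apply_card σ hσ (isIrr_isCharacter χ.2) g]
    exact h σ (hgal _ k (card_dvd 3 (by norm_num)) (card_dvd 11 (by norm_num))
      (h4 3 (by norm_num) (card_dvd 3 (by norm_num)) (by norm_num))
      (h4 11 (by norm_num) (card_dvd 11 (by norm_num)) (by norm_num)) σ hσ) g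
  have hodd : ∀ (χ : IrrCharacter Cfsg.Spor.J4) (d : ℕ), (χ : Cfsg.Spor.J4 → ℂ) 1 = (d : ℂ) →
      ¬ 2 ∣ d → OddIrr (χ : Cfsg.Spor.J4 → ℂ) := by
    intro χ d h h2
    refine ⟨χ.2, ?_⟩
    rw [Cfsg.Agent.H670.PSing.charDegree_eq_of h]
    exact h2
  have ht : IsIrrCharacter Cfsg.Spor.J4 (fun _ => (1 : ℂ)) := isIrr_one
  let χ1 : IrrCharacter Cfsg.Spor.J4 := ⟨fun _ => 1, ht⟩
  have h1 : (χ1 : Cfsg.Spor.J4 → ℂ) 1 = ((1 : ℕ) : ℂ) := by
    show (1 : ℂ) = ((1 : ℕ) : ℂ)
    norm_num
  have s1 : ∀ σ : ℂ →+* ℂ, ∀ g, σ ((χ1 : Cfsg.Spor.J4 → ℂ) g) = (χ1 : Cfsg.Spor.J4 → ℂ) g := by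
    intro σ g
    show σ 1 = 1
    exact map_one σ
  refine ⟨![χ1, χA, χD, χE, χF], ?_, ?_⟩
  · have hne : ∀ (χ ψ : IrrCharacter Cfsg.Spor.J4) (a b : ℕ),
        (χ : Cfsg.Spor.J4 → ℂ) 1 = (a : ℂ) → (ψ : Cfsg.Spor.J4 → ℂ) 1 = (b : ℂ) → a ≠ b →
        (χ : Cfsg.Spor.J4 → ℂ) ≠ ψ := by
      intro χ ψ a b ha hb hab h
      apply hab
      rw [h, hb] at ha
      exact_mod_cast ha.symm
    have n1 := hne _ _ _ _ h1 hA (by norm_num)
    have n2 := hne _ _ _ _ h1 hD (by norm_num)
    have n3 := hne _ _ _ _ h1 hE (by norm_num)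
    have n4 := hne _ _ _ _ h1 hF (by norm_num)
    have n5 := hne _ _ _ _ hA hD (by norm_num)
    have n6 := hne _ _ _ _ hA hE (by norm_num)
    have n7 := hne _ _ _ _ hA hF (by norm_num)
    have n8 := hne _ _ _ _ hD hE (by norm_num)
    have n9 := hne _ _ _ _ hD hF (by norm_num)
    intro i j hij
    fin_cases i <;> fin_cases j <;> first
      | rfl
      | exact absurd hij n1
      | exact absurd hij n2
      | exact absurd hij n3
      | exact absurd hij n4
      | exact absurd hij n5
      | exact absurd hij n6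
      | exact absurd hij n7
      | exact absurd hij n8
      | exact absurd hij n9
      | exact absurd hij hEF
      | exact absurd hij n1.symm
      | exact absurd hij n2.symm
      | exact absurd hij n3.symm
      | exact absurd hij n4.symm
      | exact absurd hij n5.symm
      | exact absurd hij n6.symm
      | exact absurd hij n7.symm
      | exact absurd hij n8.symm
      | exact absurd hij n9.symm
      | exact absurd hij hEF.symm
  · intro i
    fin_cases i
    · exact ⟨hodd _ _ h1 (by norm_num), hsig _ fun σ _ => s1 σ⟩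
    · exact ⟨hodd _ _ hA (by norm_num), hsig _ fun σ _ => sA σ⟩
    · exact ⟨hodd _ _ hD (by norm_num), hsig _ fun σ _ => sD σ⟩
    · exact ⟨hodd _ _ hE (by norm_num), hsig _ sE⟩
    · exact ⟨hodd _ _ hF (by norm_num), hsig _ fun σ h => sF σ (by rw [map_neg, h])⟩

/-- **Row (A) of S4547 for `J4`.** -/
theorem good5_j4 {S : Type u} [Group S] (h : Cfsg.Spor.IsoJ4 S) : Good5 S := by
  obtain ⟨e⟩ := h
  have := finite_j4
  obtain ⟨χ, h1, h2⟩ := exists_five
  exact good5_of e χ h1 h2

/-- Row (A) of S4947 for `J4`. -/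
theorem odd5_j4 {S : Type u} [Group S] (h : Cfsg.Spor.IsoJ4 S) : Odd5 S := (good5_j4 h).odd5

end Cfsg.Agent.H492.K4J4
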