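import Cfsg.Agent.H492.ThFix
import Cfsg.Agent.H492.SmallCent
import Cfsg.Agent.H94.IMCPerm
import Cfsg.Agent.H227.IMTh
import Cfsg.Agent.H502.TO.StarB
import Cfsg.Agent.H491.PB.ThD

/-!
# The row `Th` of S4526 (helper492)

`IMC p Th` : an irreducible character of degree divisible by `p` with a vector fixed by a Sylow
`p`-subgroup.

* `p = 2` : the character of degree 61256 has a vector fixed by the centralizer of an involution;
* `p = 3` : the character of degree `4881384 = 3 ^ 9 * 248` vanishes at the central elements of a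
  Sylow 3-subgroup, because `|C(x)| < 3 ^ 18`;
* `p = 5` : the character of degree `30875 = 5 ^ 3 * 247` has defect zero;
* `p = 7` : `C(x) = 7 × L3(2)`.
-/

set_option autoImplicit false

open Cfsg

namespace Cfsg.Agent.H492.IMCTh

open Cfsg.Agent.H625.SylConst Cfsg.Agent.H794.Imc Cfsg.Agent.Blocks.Basic
open Cfsg.Agent.Th.Word Cfsg.Agent.Th.IndexUpper Cfsg.Agent.Th.COracleDef

universe u

theorem card_th : Nat.card Spor.Th = 90745943887872000 := Cfsg.Agent.Th.Main1700.final.2.1

theorem fin_th : Finite Spor.Th := Cfsg.Agent.Th.Main1700.final.1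

/-! ### `p = 2` -/

theorem sub_isC : sub gTh isC = Subgroup.centralizer ({gTh 1} : Set Spor.Th) := by
  ext x
  rw [KFacts.Th.Main.ctx.mem_C, Subgroup.mem_centralizer_singleton_iff]

theorem imc_two [Fact (Nat.Prime 2)] : IMC 2 Spor.Th := by
  have := fin_th
  obtain ⟨χ, hd, hF⟩ := Cfsg.Agent.H492.ThFix.exists_61256_fix
  refine IMC.of_le _ ?_ χ ?_ hF
  · rw [sub_isC]
    have h1 := (Subgroup.centralizer ({gTh 1} : Set Spor.Th)).card_mul_index
    rw [MonsterX.ThOneClass.card_centralizer MonsterX.ThOneClass.orderOf_a, card_th] at h1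
    omega
  · rw [charDegree_of_eq hd]
    norm_num

/-! ### `p = 3` -/

theorem dvd_of_not_pow {c m q : ℕ} (hq : q.Prime) {k j : ℕ} (h : c ∣ q ^ k * m)
    (hc : ¬ q ^ (j + 1) ∣ c) : c ∣ q ^ j * m := by
  have hc0 : c ≠ 0 := by
    rintro rfl
    exact hc (dvd_zero _)
  obtain ⟨a, c', hc', rfl⟩ := Nat.exists_eq_pow_mul_and_not_dvd hc0 q hq.ne_one
  have ha : a ≤ j := by
    by_contra hlt
    exact hc ((pow_dvd_pow q (by omega)).trans (dvd_mul_right _ _))
  have h1 : c' ∣ m := by
    refine (Nat.Coprime.pow_right k ?_).dvd_of_dvd_mul_left ((dvd_mul_left _ _).trans h)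
    exact ((Nat.Prime.coprime_iff_not_dvd hq).2 hc').symm
  exact mul_dvd_mul (pow_dvd_pow q ha) h1

/-- the central element of a Sylow 3-subgroup -/
noncomputable abbrev x3 : Spor.Th := ev gTh CpAutTh.Data.X333

theorem x3_order : orderOf x3 = 3 := by
  obtain ⟨f, F⟩ := CpAutTh.Local.exists_epi KFacts.Th.Main.ctx
  have := CpAutTh.Local.o333 KFacts.Th.Main.ctx F
  rwa [Subgroup.orderOf_mk] at this

theorem x3_real : IsConj x3 x3⁻¹ := by
  obtain ⟨f, F⟩ := CpAutTh.Local.exists_epi KFacts.Th.Main.ctx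
  have h1 := CpAutTh.Local.o333 KFacts.Th.Main.ctx F
  obtain ⟨g, hg⟩ := CpAutTh.Local.conj_rep KFacts.Th.Main.ctx F Nat.prime_three (by norm_num)
    (by rw [orderOf_inv]; exact h1) h1 (by
      rw [map_inv, Subgroup.coe_inv, Equiv.Perm.cycleType_inv]) CpAutTh.Local.ccc
      CpAutTh.Local.sccc (by
        rw [F.word _ CpAutTh.Local.c333]
        exact CpAutTh.Local.m333)
  have h2 : (g : Spor.Th) * x3⁻¹ * (g : Spor.Th)⁻¹ = x3 := congrArg Subtype.val hg
  exact (isConj_iff.2 ⟨(g : Spor.Th), h2⟩).symm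

theorem x3_cent_dvd : Nat.card (Subgroup.centralizer ({x3} : Set Spor.Th)) ∣ 264539520 := by
  have := fin_th
  have h0 : Nat.card (Subgroup.centralizer ({x3} : Set Spor.Th)) ∣ 90745943887872000 := by
    rw [← card_th]
    exact Subgroup.card_subgroup_dvd_card _
  have h2 := Cfsg.Agent.H491.PB.Th.not_256 x3_order
  have h5 := Cfsg.Agent.H491.PB.Th.not_25 x3_order
  have h7 := Cfsg.Agent.H491.PB.Th.not_49 x3_order
  have h13 := Cfsg.Agent.H502.TO.not_dvd_u1 (r := 13) (Or.inl rfl)
  have h19 := Cfsg.Agent.H502.TO.not_dvd_u1 (r := 19) (Or.inr (Or.inl rfl))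
  have h31 := Cfsg.Agent.H502.TO.not_dvd_u1 (r := 31) (Or.inr (Or.inr rfl))
  set c := Nat.card (Subgroup.centralizer ({x3} : Set Spor.Th)) with hc
  have e2 := dvd_of_not_pow (j := 7) Nat.prime_two (m := 2769346432125) (k := 15)
    (by norm_num; exact h0) h2
  have e5 := dvd_of_not_pow (j := 1) Nat.prime_five (m := 2 ^ 7 * 22154771457) (k := 3)
    (by norm_num; norm_num at e2; exact e2) (by norm_num; exact h5)
  have e7 := dvd_of_not_pow (j := 1) (q := 7) (by norm_num) (m := 2 ^ 7 * 5 * 452138193) (k := 2)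
    (by norm_num; norm_num at e5; exact e5) (by norm_num; exact h7)
  have e13 := dvd_of_not_pow (j := 0) (q := 13) (by norm_num) (m := 2 ^ 7 * 5 * 7 * 34779861)
    (k := 1) (by norm_num; norm_num at e7; exact e7) (by norm_num; exact h13)
  have e19 := dvd_of_not_pow (j := 0) (q := 19) (by norm_num) (m := 2 ^ 7 * 5 * 7 * 1830519)
    (k := 1) (by norm_num; norm_num at e13; exact e13) (by norm_num; exact h19)
  have e31 := dvd_of_not_pow (j := 0) (q := 31) (by norm_num) (m := 2 ^ 7 * 5 * 7 * 59049)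
    (k := 1) (by norm_num; norm_num at e19; exact e19) (by norm_num; exact h31)
  norm_num at e31
  exact e31

theorem x3_index : ¬ 3 ∣ (Subgroup.centralizer ({x3} : Set Spor.Th)).index := by
  have := fin_th
  intro h
  have h1 : (Cfsg.Agent.H777.Th3.thDat.Sg) ≤ Subgroup.centralizer ({x3} : Set Spor.Th) := by
    intro s hs
    have h2 := Cfsg.Agent.H777.Th3.Dat.conj_u1 hs
    have h3 : Cfsg.Agent.H777.Th3.thDat.u1 = x3 := Cfsg.Agent.H502.TO.u1_eq
    rw [Subgroup.mem_centralizer_singleton_iff, ← h3]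
    calc s * _ = s * (s⁻¹ * Cfsg.Agent.H777.Th3.thDat.u1 * s) := by rw [h2]
      _ = _ := by group
  have h2 := Subgroup.card_dvd_of_le h1
  rw [Cfsg.Agent.H777.Th3.Dat.card_Sg Cfsg.Agent.H777.Th3.th_u1_ne] at h2
  have h3 := mul_dvd_mul h2 h
  rw [(Subgroup.centralizer ({x3} : Set Spor.Th)).card_mul_index, card_th] at h3
  norm_num at h3

theorem imc_three [Fact (Nat.Prime 3)] : IMC 3 Spor.Th := by
  have := fin_th
  obtain ⟨χ, hd⟩ := Cfsg.Agent.H492.FactsTh.exists_4881384
  obtain ⟨a, ha⟩ := Cfsg.Agent.H492.SmallCent.exists_int_three χ x3_order x3_real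
  refine Cfsg.Agent.H492.SmallCent.imc_of_small_cent χ ⟨1, by rw [x3_order, pow_one]⟩ ha (m := 9) ?_
    x3_index ?_
  · rw [charDegree_of_eq hd]
    norm_num
  · refine lt_of_le_of_lt (Nat.le_of_dvd (by norm_num) x3_cent_dvd) (by norm_num)

/-! ### `p = 5` -/

theorem fac_five : (Nat.card Spor.Th).factorization 5 = 3 := by
  rw [card_th, show (90745943887872000 : ℕ) = 5 ^ 3 * 725967551102976 by norm_num,
    Nat.factorization_mul (by norm_num) (by norm_num), Nat.Prime.factorization_pow (by norm_num)]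
  simp [Nat.factorization_eq_zero_of_not_dvd (show ¬ 5 ∣ 725967551102976 by decide)]

theorem imc_five [Fact (Nat.Prime 5)] : IMC 5 Spor.Th := by
  have := fin_th
  obtain ⟨χ, hd⟩ := Cfsg.Agent.H492.FactsTh.exists_30875
  refine IMC.of_defect_zero (by rw [card_th]; norm_num) χ ?_
  rw [fac_five, charDegree_of_eq hd]
  norm_num

/-! ### `p = 7` -/

open Cfsg.Agent.H723.Spor.Th Cfsg.Agent.H227.IMTh in
theorem imc_seven [Fact (Nat.Prime 7)] : IMC 7 Spor.Th := by
  have hfin := Cfsg.Agent.H227.IMTh.fin_th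
  have h := setup Cfsg.Agent.KFacts.Th.Main.ctx hone
  set s := Cfsg.Agent.Th.IndexUpper.gTh 6 with hs
  have h7 : orderOf s = 7 := h.s7
  have h168 : Nat.card (Subgroup.centralizer ({s} : Set Spor.Th)) = 7 * 168 :=
    Cfsg.Agent.H491.PB.Th.card_seven h7
  have him : Cfsg.Agent.H33.IM 7 (Subgroup.centralizer ({s} : Set Spor.Th)) :=
    Cfsg.Agent.H33.IM.of_surjective (Cfsg.Agent.ThType.CentSeven.Setup.pr s)
      (Cfsg.Agent.ThType.CentSeven.Setup.pr_surj s) (im_of_168 (h.card_Y h168) fun u hu =>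
        h.hyp.card_cent u (by rw [← pow_two, ← hu, pow_orderOf_eq_one]) (by
          rintro rfl
          rw [orderOf_one] at hu
          omega))
  obtain ⟨θ, hθ⟩ := him
  refine Cfsg.Agent.H94.IMCPerm.imc_of_cent s h7 θ (k := 1) (by rw [pow_one]; exact hθ) ?_
    (by rw [IMCTh.card_th]; norm_num)
  rw [h168]
  by_contra hlt
  have := ((show Nat.Prime 7 by norm_num).pow_dvd_iff_le_factorization (k := 3)
    (show 7 * 168 ≠ 0 by norm_num)).2 (by omega)
  norm_num at this

/-! ### All primes -/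

theorem imc_model {p : ℕ} [hp : Fact p.Prime] (hd : p ∣ Nat.card Spor.Th) : IMC p Spor.Th := by
  have := fin_th
  have him : Cfsg.Agent.H33.IM p Spor.Th := Cfsg.Agent.H227.IMTh.im_th ⟨MulEquiv.refl _⟩ hd
  have hd' := hd
  rw [card_th] at hd
  have key : ∀ {q : ℕ}, p = q → ¬ q ^ 2 ∣ 90745943887872000 → IMC p Spor.Th := by
    intro q hq hq2
    exact imc_of_exact hd' (by rw [card_th, hq]; exact hq2) him
  rcases Cfsg.Agent.H227.IMTh.prime_cases hp.out hd with rfl | rfl | rfl | rfl | h | h | h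
  · exact imc_two
  · exact imc_three
  · exact imc_five
  · exact imc_seven
  · exact key h (by norm_num)
  · exact key h (by norm_num)
  · exact key h (by norm_num)

/-- **The row `Th` of S4526.** -/
theorem imc_th {S : Type u} [Group S] [Finite S] (h : Cfsg.Spor.IsoTh S) {p : ℕ}
    [hp : Fact p.Prime] (hd : p ∣ Nat.card S) : IMC p S := by
  obtain ⟨e⟩ := h
  rw [Nat.card_congr e.toEquiv] at hd
  exact IMC.of_equiv e (imc_model hd)

end Cfsg.Agent.H492.IMCTh
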