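import Cfsg.Agent.H492.IMHN
import Cfsg.Agent.H678.DG.Basic

/-!
# Degree graph facts for the Harada-Norton group (helper492)

From the irreducible characters of degrees `8910 = 2 * 3 ^ 4 * 5 * 11` and
`365750 = 2 * 5 ^ 3 * 7 * 11 * 19`.
-/

set_option autoImplicit false

namespace Cfsg.Agent.H492.FactsHN

open Cfsg Cfsg.Agent.H678.DG

universe u

/-- The degree graph of the Harada-Norton group. -/
theorem facts_hn {S : Type u} [Group S] (h : Cfsg.Spor.IsoHN S) : Facts S := by
  obtain ⟨e⟩ := h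
  have hc := Cfsg.Agent.H492.IMHN.card_hn
  have : Finite Cfsg.Spor.HN := Nat.finite_of_card_ne_zero (by rw [hc]; norm_num)
  refine Facts.of_equiv e ?_
  refine Facts.of_list (P := [2, 3, 5, 7, 11, 19]) (D := [8910, 365750]) ?_ (by decide)
    (mem_of_card (f := fun _ => 14) ?_ ?_) ?_ (by decide +kernel)
  · intro p hp; fin_cases hp <;> norm_num
  · rw [hc]; decide +kernel
  · intro p hp; fin_cases hp <;> norm_num
  · intro m hm
    simp only [List.mem_cons, List.not_mem_nil, or_false] at hm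
    rcases hm with rfl | rfl
    · obtain ⟨χ, hχ⟩ := Cfsg.Agent.H492.IMHN.exists_8910
      exact ⟨χ, by rw [Cfsg.Agent.H670.PSing.charDegree_eq_of hχ]⟩
    · obtain ⟨χ, hχ⟩ := Cfsg.Agent.H492.IMHN.exists_365750
      exact ⟨χ, by rw [Cfsg.Agent.H670.PSing.charDegree_eq_of hχ]⟩

end Cfsg.Agent.H492.FactsHN
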