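import Cfsg.Agent.H492.K4Th
import Cfsg.Agent.H989.TwoCSpor

/-!
# Odd degree characters of the Thompson group (helper492)

`good5_th` : row (A) of S4547 for `Th`.
-/

set_option autoImplicit false

namespace Cfsg.Agent.H492.K4ThFin

open Cfsg.Agent.H601.K4

universe u

/-- **Row (A) of S4547 for `Th`.** -/
theorem good5_th {S : Type u} [Group S] (h : Cfsg.Spor.IsoTh S) : Good5 S := by
  obtain ⟨hfin, -, -, -⟩ := Cfsg.Agent.Th.Main1700.final
  have : Finite S := Finite.of_equiv _ h.some.symm.toEquiv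
  exact K4Th.good5_th_of h (H989.TwoCSpor.twoC_th h) (H989.TwoCSpor.twoC_th ⟨MulEquiv.refl _⟩)

/-- Row (A) of S4947 for `Th`. -/
theorem odd5_th {S : Type u} [Group S] (h : Cfsg.Spor.IsoTh S) : Odd5 S := (good5_th h).odd5

end Cfsg.Agent.H492.K4ThFin
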