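import Cfsg.Agent.H492.IMHeCnt

/-!
# Centralizers in the Held group (helper492)

Upper bounds for the centralizers of some words of order 17, 5, 3 and of some pairs of commuting words
(generated file, kernel computations in the representation on 2058 points).
-/

set_option autoImplicit false
set_option maxRecDepth 100000
set_option linter.style.longLine false

namespace Cfsg.Agent.H492.IMHeDat

open Cfsg.Spor Cfsg.Spor.He Cfsg.Agent.SporadicB.HePerm
open Cfsg.Agent.FixBN.HeStab Cfsg.Agent.KFacts.He.Lv Cfsg.Agent.CpAutHe.Cnt Cfsg.Agent.H492.IMHeCnt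

/-- a word -/
def XQ : List Gen := [.f, .d, .c, .b]

/-- a word -/
def YQ : List Gen := []

/-- the words commuting with the subgroup -/
def wsQ : List (List Gen) := mkw XQ YQ [(1, 0), (2, 0), (3, 0), (4, 0), (5, 0), (6, 0), (7, 0), (8, 0), (9, 0), (10, 0), (11, 0), (12, 0), (13, 0), (14, 0), (15, 0), (16, 0)]

theorem cQ_0 : cnt 2058 (tsl wsQ [0, 1, 3] [] 7) = 17 := by decide +kernel

theorem cQ_1 : cnt 2058 (tsl wsQ [] [256, 403, 817] 0) = 1 := by decide +kernel

theorem cQ_2 : cnt 2058 (tsl wsQ [1] [7, 293] 32) = 1 := by decide +kernel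

theorem cQ_3 : cnt 2058 (tsl wsQ [2] [26, 0] 8) = 1 := by decide +kernel

theorem qQ : Q wsQ [] (17 * 1) := by
  refine Q.orb 7 [0, 1, 3] [] [7, 256, 293, 403, 817] (by decide) (by decide +kernel) (by decide +kernel) cQ_0 ?_
  refine Q.fix 0 [] [256, 403, 817] [0, 1, 7, 26, 293] (by decide) (by decide +kernel) (by decide +kernel) cQ_1 ?_
  refine Q.fix 32 [1] [7, 293] [0, 1, 26, 32] (by decide) (by decide +kernel) (by decide +kernel) cQ_2 ?_
  refine Q.fix 8 [2] [26, 0] [0, 1, 8, 32] (by decide) (by decide +kernel) (by decide +kernel) cQ_3 ?_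
  exact Q.base (by decide +kernel)

/-- a word -/
def XA3 : List Gen := [.c, .b]

/-- a word -/
def YA3 : List Gen := []

/-- the words commuting with the subgroup -/
def wsA3 : List (List Gen) := mkw XA3 YA3 [(1, 0), (2, 0)]

theorem cA3_0 : cnt 2058 (tsl wsA3 [0] [] 17) = 126 := by decide +kernel

theorem cA3_1 : cnt 2058 (tsl wsA3 [0] [34] 64) = 4 := by decide +kernel

theorem cA3_2 : cnt 2058 (tsl wsA3 [0] [124, 17, 228, 152] 0) = 1 := by decide +kernel

theorem cA3_3 : cnt 2058 (tsl wsA3 [0] [0, 2, 228, 17, 124] 8) = 1 := by decide +kernel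

theorem cA3_4 : cnt 2058 (tsl wsA3 [0] [2, 8, 64, 152, 0, 34] 32) = 1 := by decide +kernel

theorem qA3 : Q wsA3 [] (126 * (4 * 1)) := by
  refine Q.orb 17 [0] [] [17, 34, 152] (by decide) (by decide +kernel) (by decide +kernel) cA3_0 ?_
  refine Q.orb 64 [0] [34] [17, 34, 64, 124, 152, 228] (by decide) (by decide +kernel) (by decide +kernel) cA3_1 ?_
  refine Q.fix 0 [0] [124, 17, 228, 152] [0, 1, 2, 17, 34, 64, 124, 152, 228] (by decide) (by decide +kernel) (by decide +kernel) cA3_2 ?_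
  refine Q.fix 8 [0] [0, 2, 228, 17, 124] [0, 1, 2, 8, 34, 64, 152] (by decide) (by decide +kernel) (by decide +kernel) cA3_3 ?_
  refine Q.fix 32 [0] [2, 8, 64, 152, 0, 34] [0, 1, 8, 32] (by decide) (by decide +kernel) (by decide +kernel) cA3_4 ?_
  exact Q.base (by decide +kernel)

/-- a word -/
def XA5 : List Gen := [.d, .c, .d, .c]

/-- a word -/
def YA5 : List Gen := []

/-- the words commuting with the subgroup -/
def wsA5 : List (List Gen) := mkw XA5 YA5 [(1, 0), (2, 0), (3, 0), (4, 0)]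

theorem cA5_0 : cnt 2058 (tsl wsA5 [1] [] 27) = 150 := by decide +kernel

theorem cA5_1 : cnt 2058 (tsl wsA5 [0] [29, 45, 47] 2002) = 2 := by decide +kernel

theorem cA5_2 : cnt 2058 (tsl wsA5 [0] [45, 29, 1769] 1) = 1 := by decide +kernel

theorem cA5_3 : cnt 2058 (tsl wsA5 [] [2, 27, 2002] 32) = 1 := by decide +kernel

theorem cA5_4 : cnt 2058 (tsl wsA5 [0] [176, 3, 1729] 8) = 1 := by decide +kernel

theorem cA5_5 : cnt 2058 (tsl wsA5 [0] [1, 8] 0) = 1 := by decide +kernel

theorem qA5 : Q wsA5 [] (150 * (2 * 1)) := by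
  refine Q.orb 27 [1] [] [27, 29, 45, 47, 176] (by decide) (by decide +kernel) (by decide +kernel) cA5_0 ?_
  refine Q.orb 2002 [0] [29, 45, 47] [27, 29, 45, 176, 1729, 1769, 2002] (by decide) (by decide +kernel) (by decide +kernel) cA5_1 ?_
  refine Q.fix 1 [0] [45, 29, 1769] [1, 2, 3, 27, 176, 1729, 2002] (by decide) (by decide +kernel) (by decide +kernel) cA5_2 ?_
  refine Q.fix 32 [] [2, 27, 2002] [1, 3, 32, 176, 1729] (by decide) (by decide +kernel) (by decide +kernel) cA5_3 ?_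
  refine Q.fix 8 [0] [176, 3, 1729] [1, 8, 32] (by decide) (by decide +kernel) (by decide +kernel) cA5_4 ?_
  refine Q.fix 0 [0] [1, 8] [0, 1, 8, 32] (by decide) (by decide +kernel) (by decide +kernel) cA5_5 ?_
  exact Q.base (by decide +kernel)

/-- a word -/
def XB3 : List Gen := [.c, .b]

/-- a word -/
def YB3 : List Gen := [.b, .f, .d, .e, .g, .d, .c, .d, .g, .e, .d, .b, .c, .d, .g, .e, .d]

/-- the words commuting with the subgroup -/
def wsB3 : List (List Gen) := mkw XB3 YB3 [(0, 1), (0, 2), (1, 0), (1, 1), (1, 2), (2, 0), (2, 1), (2, 2)]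

theorem xB3a : allBelow 2058 (fun t => bif tsl wsB3 [0, 2, 6] [] 44 t then
    elemN t [44, 63, 125, 219, 220, 288, 496, 514, 546, 1160, 1247, 1248, 1294, 1363, 1498, 1710, 1723, 1775] else true) = true := by
  decide +kernel

theorem xB3b : cnt 2058 (fun y => bif tsl wsB3 [0, 2] [] 23 y then
    (List.any [44, 63, 125, 219, 220, 288, 496, 514, 546, 1160, 1247, 1248, 1294, 1363, 1498, 1710, 1723, 1775] fun t => List.all [6] fun j => Nat.beq (colr (act (wsB3.getD j []) y) t)
      (colr (act (wsB3.getD j []) 23) 44)) else false) = 9 := by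
  decide +kernel

theorem cB3_1 : cnt 2058 (tsl wsB3 [2, 6, 0, 3] [1987, 55, 74, 1415, 1416] 0) = 1 := by decide +kernel

theorem cB3_2 : cnt 2058 (tsl wsB3 [0, 6] [1714, 74] 8) = 1 := by decide +kernel

theorem cB3_3 : cnt 2058 (tsl wsB3 [] [350, 349, 1448, 1, 8] 32) = 1 := by decide +kernel

theorem qB3 : Q wsB3 [] (9 * 1) := by
  refine Q.orbx 23 44 [0, 2] [] [0, 2, 6] [] [6] [44, 63, 125, 219, 220, 288, 496, 514, 546, 1160, 1247, 1248, 1294, 1363, 1498, 1710, 1723, 1775] [55, 74, 349, 350, 1415, 1416, 1987] (by decide) (by decide)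
    (by decide +kernel) (by decide +kernel) (by decide +kernel) xB3a xB3b ?_
  refine Q.fix 0 [2, 6, 0, 3] [1987, 55, 74, 1415, 1416] [0, 1, 74, 349, 350, 1448, 1714] (by decide) (by decide +kernel) (by decide +kernel) cB3_1 ?_
  refine Q.fix 8 [0, 6] [1714, 74] [0, 1, 8, 349, 350, 1448] (by decide) (by decide +kernel) (by decide +kernel) cB3_2 ?_
  refine Q.fix 32 [] [350, 349, 1448, 1, 8] [0, 1, 8, 32] (by decide) (by decide +kernel) (by decide +kernel) cB3_3 ?_
  exact Q.base (by decide +kernel)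

/-- a word -/
def XB5 : List Gen := [.d, .c, .d, .c]

/-- a word -/
def YB5 : List Gen := [.b, .c, .b, .g, .f, .d, .g, .c, .d, .b, .c, .d, .f, .c, .d, .c, .d, .f]

/-- the words commuting with the subgroup -/
def wsB5 : List (List Gen) := mkw XB5 YB5 [(0, 1), (0, 2), (0, 3), (0, 4), (1, 0), (1, 1), (1, 2), (1, 3), (1, 4), (2, 0), (2, 1), (2, 2), (2, 3), (2, 4), (3, 0), (3, 1), (3, 2), (3, 3), (3, 4), (4, 0), (4, 1), (4, 2), (4, 3), (4, 4)]

theorem cB5_0 : cnt 2058 (tsl wsB5 [0, 4] [] 139) = 5 := by decide +kernel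

theorem cB5_1 : cnt 2058 (tsl wsB5 [1] [207, 973, 2026, 139, 2025] 1) = 5 := by decide +kernel

theorem cB5_2 : cnt 2058 (tsl wsB5 [4] [139] 0) = 1 := by decide +kernel

theorem cB5_3 : cnt 2058 (tsl wsB5 [] [139, 207, 200] 32) = 1 := by decide +kernel

theorem cB5_4 : cnt 2058 (tsl wsB5 [] [16, 106, 0] 8) = 1 := by decide +kernel

theorem qB5 : Q wsB5 [] (5 * (5 * 1)) := by
  refine Q.orb 139 [0, 4] [] [139, 207, 973, 2025, 2026] (by decide) (by decide +kernel) (by decide +kernel) cB5_0 ?_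
  refine Q.orb 1 [1] [207, 973, 2026, 139, 2025] [1, 16, 139, 200, 207] (by decide) (by decide +kernel) (by decide +kernel) cB5_1 ?_
  refine Q.fix 0 [4] [139] [0, 1, 16, 139, 200, 207] (by decide) (by decide +kernel) (by decide +kernel) cB5_2 ?_
  refine Q.fix 32 [] [139, 207, 200] [0, 1, 16, 32, 106] (by decide) (by decide +kernel) (by decide +kernel) cB5_3 ?_
  refine Q.fix 8 [] [16, 106, 0] [0, 1, 8, 32] (by decide) (by decide +kernel) (by decide +kernel) cB5_4 ?_
  exact Q.base (by decide +kernel)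

/-- a word -/
def XB7 : List Gen := [.d, .f, .g]

/-- a word -/
def YB7 : List Gen := [.c, .d, .f, .g, .d, .c, .b, .a, .d, .c, .d, .e, .g, .d, .f, .e, .c, .d, .g, .b, .c, .d, .c, .d, .b, .c]

/-- the words commuting with the subgroup -/
def wsB7 : List (List Gen) := mkw XB7 YB7 [(0, 1), (0, 2), (0, 3), (0, 4), (0, 5), (0, 6), (1, 0), (1, 1), (1, 2), (1, 3), (1, 4), (1, 5), (1, 6), (2, 0), (2, 1), (2, 2), (2, 3), (2, 4), (2, 5), (2, 6), (3, 0), (3, 1), (3, 2), (3, 3), (3, 4), (3, 5), (3, 6), (4, 0), (4, 1), (4, 2), (4, 3), (4, 4), (4, 5), (4, 6), (5, 0), (5, 1), (5, 2), (5, 3), (5, 4), (5, 5), (5, 6), (6, 0), (6, 1), (6, 2), (6, 3), (6, 4), (6, 5), (6, 6)]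

theorem cB7_0 : cnt 2058 (tsl wsB7 [6, 0, 8] [] 0) = 49 := by decide +kernel

theorem cB7_1 : cnt 2058 (tsl wsB7 [9] [787, 1407] 1) = 1 := by decide +kernel

theorem cB7_2 : cnt 2058 (tsl wsB7 [] [18, 1854, 22] 32) = 1 := by decide +kernel

theorem cB7_3 : cnt 2058 (tsl wsB7 [] [16, 18, 168] 8) = 1 := by decide +kernel

theorem qB7 : Q wsB7 [] (49 * 1) := by
  refine Q.orb 0 [6, 0, 8] [] [0, 18, 168, 787, 1407] (by decide) (by decide +kernel) (by decide +kernel) cB7_0 ?_
  refine Q.fix 1 [9] [787, 1407] [0, 1, 16, 18, 22, 168, 1854] (by decide) (by decide +kernel) (by decide +kernel) cB7_1 ?_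
  refine Q.fix 32 [] [18, 1854, 22] [0, 1, 16, 18, 32, 168] (by decide) (by decide +kernel) (by decide +kernel) cB7_2 ?_
  refine Q.fix 8 [] [16, 18, 168] [0, 1, 8, 32] (by decide) (by decide +kernel) (by decide +kernel) cB7_3 ?_
  exact Q.base (by decide +kernel)

end Cfsg.Agent.H492.IMHeDat
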