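import Cfsg.Agent.H33.IM
import Cfsg.Agent.H593.IMCyc
import Cfsg.Agent.H665.EvenDegree
import Cfsg.Agent.H713.Engine
import Cfsg.Agent.H713.Invol
import Cfsg.Agent.H713.Spor.Tool

/-!
# Tools for the sporadic rows of the Itô-Michler theorem (helper492)

* `IM.of_hasDZ` : a character of defect zero gives `IM p G`.
* `isConj_inv_of_even`, `IM_two_of_real` : even order of the automizer gives real elements, real
  elements with centralizer of odd order give even degrees.
* `numCls_le_quotient` : the number of classes of `p'`-elements of `C_G(x)`, for a Sylow subgroup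
  generated by `x`, is at most the number of classes of `C_G(x)/⟨x⟩`.
* `IM_of_orders_elt` : T5 for a Sylow subgroup of prime order.
* `IM_of_invol` : `p` exactly divides `|G|` and `p` does not divide the order of the centralizer of
  an involution.
-/

set_option autoImplicit false

open Cfsg Cfsg.Agent.Characters.Core Cfsg.Agent.Blocks.Basic
open Cfsg.Agent.H713.Count Cfsg.Agent.H33 Cfsg.Agent.H593.IMCyc

namespace Cfsg.Agent.H492.IMTools

universe u

variable {G : Type u} [Group G] {p : ℕ} [hp : Fact p.Prime]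

theorem IM_of_hasDZ [Finite G] (h : H665.NoPQ.HasDZ p G) (hd : p ∣ Nat.card G) : IM p G := by
  obtain ⟨χ, hχ⟩ := h
  refine ⟨χ, ?_⟩
  have h1 : 1 ≤ (Nat.card G).factorization p :=
    (hp.out.dvd_iff_one_le_factorization Nat.card_pos.ne').1 hd
  rw [← hχ] at h1
  exact (hp.out.dvd_iff_one_le_factorization (charDegree_pos χ.2).ne').2 h1

theorem IM_two_of_real [Finite G] {x : G} (hx : x ≠ 1) (hreal : IsConj x x⁻¹)
    (hodd : Odd (Nat.card (Subgroup.centralizer ({x} : Set G)))) : IM 2 G := by
  obtain ⟨χ, hχ⟩ := H665.EvenDegree.exists_even_degree hx hreal hodd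
  exact ⟨χ, hχ.two_dvd⟩

omit hp in
theorem pow_val_mul' {x : G} [Fact p.Prime] (hx : x ^ p = 1) (i j : ZMod p) :
    (x ^ i.val) ^ j.val = x ^ (i * j).val := by
  rw [← pow_mul, ZMod.val_mul]
  conv_lhs => rw [← Nat.div_add_mod (i.val * j.val) p, pow_add, pow_mul, hx, one_pow, one_mul]

theorem one_mem_fus' {x : G} : (1 : ZMod p) ∈ fus (p := p) x := one_mem_fus

/-- The automizer of a subgroup of prime order, as a subgroup of the units of `ZMod p`. -/
theorem neg_one_mem_fus {x : G} (hxp : x ^ p = 1) (hev : Even (fus (p := p) x).card) :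
    (-1 : ZMod p) ∈ fus (p := p) x := by
  classical
  by_contra hcon
  -- the fixed point free involution `m ↦ m⁻¹` of `fus \ {1}`
  have hinv : ∀ m ∈ fus (p := p) x, m⁻¹ ∈ fus (p := p) x := by
    intro m hm
    rw [mem_fus] at hm ⊢
    refine ⟨inv_ne_zero hm.1, ?_⟩
    have h1 := hm.2.pow (m⁻¹).val
    rw [pow_val_mul' hxp, mul_inv_cancel₀ hm.1] at h1
    have h2 : x ^ (1 : ZMod p).val = x := by
      have := hp.out.one_lt
      have : Fact (1 < p) := ⟨this⟩
      rw [ZMod.val_one, pow_one]
    rw [h2] at h1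
    exact h1.symm
  have h6 : ∑ m ∈ (fus (p := p) x).erase 1, (1 : ZMod 2) = 0 := by
    refine Finset.sum_involution (fun m _ => m⁻¹) (fun _ _ => by decide) ?_ ?_
      (fun m _ => inv_inv m)
    · intro m hm _ h
      rw [Finset.mem_erase] at hm
      have h0 := (mem_fus.1 hm.2).1
      have h7 : (m - 1) * (m + 1) = 0 := by
        have : m * m = 1 := by
          nth_rewrite 1 [← h]
          exact inv_mul_cancel₀ h0
        linear_combination this
      rcases mul_eq_zero.1 h7 with h8 | h8
      · exact hm.1 (sub_eq_zero.1 h8)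
      · apply hcon
        rw [← eq_neg_of_add_eq_zero_left h8]
        exact hm.2
    · intro m hm
      rw [Finset.mem_erase] at hm ⊢
      refine ⟨fun h => hm.1 ?_, hinv m hm.2⟩
      rw [← inv_inv m, h, inv_one]
  rw [Finset.sum_const, nsmul_eq_mul, mul_one, ZMod.natCast_eq_zero_iff,
    Finset.card_erase_of_mem one_mem_fus] at h6
  have h7 : 1 ≤ (fus (p := p) x).card := Finset.card_pos.2 ⟨1, one_mem_fus⟩
  obtain ⟨a, ha⟩ := hev
  obtain ⟨b, hb⟩ := h6
  omega

theorem isConj_inv_of_even {x : G} (hxp : x ^ p = 1)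
    (hev : Even (fus (p := p) x).card) : IsConj x x⁻¹ := by
  have h := (mem_fus.1 (neg_one_mem_fus hxp hev)).2
  have h1 : x ^ (-1 : ZMod p).val = x⁻¹ := by
    rw [eq_inv_iff_mul_eq_one]
    have h2 : x ^ (1 : ZMod p).val = x := by
      have : Fact (1 < p) := ⟨hp.out.one_lt⟩
      rw [ZMod.val_one, pow_one]
    nth_rewrite 2 [← h2]
    rw [pow_val_add hxp]
    simp
  rwa [h1] at h

/-! ### The quotient of the centralizer -/

section quot

variable {C : Type*} [Group C]

omit hp in
/-- Two elements of order prime to `p` that are conjugate modulo a central subgroup of order `p`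
are conjugate. -/
theorem isConj_of_mk [Fact p.Prime] {z : C} (hz : orderOf z = p) (hzc : ∀ c : C, c * z = z * c)
    [(Subgroup.zpowers z).Normal] {a b : C} (ha : ¬ p ∣ orderOf a) (hb : ¬ p ∣ orderOf b)
    (h : IsConj (QuotientGroup.mk a : C ⧸ Subgroup.zpowers z) (QuotientGroup.mk b)) :
    IsConj a b := by
  have hp' : p.Prime := Fact.out
  obtain ⟨c, hc⟩ := isConj_iff.1 h
  obtain ⟨g, rfl⟩ := QuotientGroup.mk_surjective c
  have h1 : (QuotientGroup.mk (g * a * g⁻¹) : C ⧸ Subgroup.zpowers z) = QuotientGroup.mk b := hc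
  rw [eq_comm, QuotientGroup.eq] at h1
  obtain ⟨k, hk⟩ := h1
  have hk' : g * a * g⁻¹ = b * z ^ k := by
    have : z ^ k = b⁻¹ * (g * a * g⁻¹) := hk
    rw [this, mul_inv_cancel_left]
  have hcomm : Commute b (z ^ k) := (show Commute b z from hzc b).zpow_right k
  have h2 : (z ^ k) ^ (orderOf a * orderOf b) = 1 := by
    have h3 : (g * a * g⁻¹) ^ (orderOf a * orderOf b) = 1 := by
      rw [conj_pow, pow_mul, pow_orderOf_eq_one, one_pow, mul_one, mul_inv_cancel]
    rw [hk', hcomm.mul_pow, mul_comm (orderOf a), pow_mul b, pow_orderOf_eq_one, one_pow,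
      one_mul] at h3
    rw [mul_comm (orderOf a)]
    exact h3
  have h4 : z ^ k = 1 := by
    have h5 : orderOf (z ^ k) ∣ orderOf a * orderOf b := orderOf_dvd_of_pow_eq_one h2
    have h6 : orderOf (z ^ k) ∣ p := by
      apply orderOf_dvd_of_pow_eq_one
      rw [← zpow_natCast, ← zpow_mul, mul_comm, zpow_mul, zpow_natCast, ← hz, pow_orderOf_eq_one,
        one_zpow]
    rcases (Nat.dvd_prime hp').1 h6 with h7 | h7
    · exact orderOf_eq_one_iff.1 h7
    · rw [h7] at h5
      rcases (hp'.dvd_mul).1 h5 with h8 | h8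
      · exact absurd h8 ha
      · exact absurd h8 hb
  rw [h4, mul_one] at hk'
  exact isConj_iff.2 ⟨g, hk'⟩

end quot

/-- The number of classes of `p'`-elements of the centralizer of a cyclic subgroup of order `p` is
at most the number of classes of the quotient. -/
theorem numCls_le_quotient [Finite G] {x : G} (hx : orderOf x = p)
    (hxC : x ∈ Subgroup.centralizer ((Subgroup.zpowers x : Subgroup G) : Set G))
    [(Subgroup.zpowers (⟨x, hxC⟩ :
      Subgroup.centralizer ((Subgroup.zpowers x : Subgroup G) : Set G))).Normal] :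
    numCls p (Subgroup.zpowers x) ≤ Nat.card (ConjClasses
      (Subgroup.centralizer ((Subgroup.zpowers x : Subgroup G) : Set G) ⧸
        Subgroup.zpowers (⟨x, hxC⟩ :
          Subgroup.centralizer ((Subgroup.zpowers x : Subgroup G) : Set G)))) := by
  classical
  set C := Subgroup.centralizer ((Subgroup.zpowers x : Subgroup G) : Set G) with hC
  set z : C := ⟨x, hxC⟩ with hz
  have hfin : Finite (ConjClasses (C ⧸ Subgroup.zpowers z)) := inferInstance
  have := Fintype.ofFinite (ConjClasses (C ⧸ Subgroup.zpowers z))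
  have hzo : orderOf z = p := by rw [← hx, hz, Subgroup.orderOf_mk]
  have hzc : ∀ c : C, c * z = z * c := by
    intro c
    apply Subtype.ext
    exact (Subgroup.mem_centralizer_iff.1 c.2 x (Subgroup.mem_zpowers x)).symm
  let t : ConjClasses (C ⧸ Subgroup.zpowers z) → C := fun A =>
    if h : ∃ c : C, ¬ p ∣ orderOf c ∧ ConjClasses.mk (QuotientGroup.mk c) = A then h.choose else 1
  rw [Nat.card_eq_fintype_card]
  refine numCls_le (Subgroup.zpowers x) t fun c hc => ?_
  have h : ∃ c' : C, ¬ p ∣ orderOf c' ∧ ConjClasses.mk (QuotientGroup.mk c' :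
      C ⧸ Subgroup.zpowers z) = ConjClasses.mk (QuotientGroup.mk c) := ⟨c, hc, rfl⟩
  refine ⟨ConjClasses.mk (QuotientGroup.mk c), ?_⟩
  have ht : t (ConjClasses.mk (QuotientGroup.mk c)) = h.choose := dif_pos h
  rw [ht]
  exact isConj_of_mk hzo hzc h.choose_spec.1 hc (ConjClasses.mk_eq_mk_iff_isConj.1 h.choose_spec.2)

/-- **T5** for a Sylow subgroup of prime order. -/
theorem IM_of_orders_elt [Finite G] (hG : (Nat.card G).factorization p = 1) {x : G}
    (hx : orderOf x = p) {e m : ℕ} (he : (fus (p := p) x).card ≤ e)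
    (hm : numCls p (Subgroup.zpowers x) ≤ m) (S : Finset ℕ)
    (hS : ∀ n ∈ S, ¬ p ∣ n ∧ ∃ g : G, orderOf g = n) (hlt : e * m < S.card) : IM p G := by
  have hcard : Nat.card (Subgroup.zpowers x) = p ^ (Nat.card G).factorization p := by
    rw [Nat.card_zpowers, hx, hG, pow_one]
  have hpG : p ∣ Nat.card G := by
    rw [← hx]; exact orderOf_dvd_natCard x
  let P : Sylow p G := Sylow.ofCard (Subgroup.zpowers x) hcard
  have hP : (P : Subgroup G) = Subgroup.zpowers x := rfl
  refine IM_of_orders P (by rw [hP]; infer_instance) hpG S hS ?_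
  rw [hP]
  refine lt_of_le_of_lt (Nat.mul_le_mul ?_ hm) hlt
  refine le_trans (le_of_eq ?_) he
  have hcent : Subgroup.centralizer ((Subgroup.zpowers x : Subgroup G) : Set G) =
      Subgroup.centralizer ({x} : Set G) := by
    rw [Subgroup.zpowers_eq_closure, Subgroup.centralizer_closure]
  have h1 := H713.card_normalizer_zpowers (p := p) hx
  have h2 := Subgroup.relIndex_mul_relIndex ⊥
    (Subgroup.centralizer ((Subgroup.zpowers x : Subgroup G) : Set G))
    (Subgroup.normalizer ((Subgroup.zpowers x : Subgroup G) : Set G)) bot_le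
    (Subgroup.centralizer_le_normalizer _)
  rw [Subgroup.relIndex_bot_left, Subgroup.relIndex_bot_left, h1, hcent, mul_comm] at h2
  rw [hcent]
  exact Nat.eq_of_mul_eq_mul_right Nat.card_pos h2

end Cfsg.Agent.H492.IMTools
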