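import Cfsg.Agent.H492.IMTools2

/-!
# Tools for the sporadic rows of the Itô-Michler theorem, 3 (helper492)

Counting the classes of elements of prime order `r` with the help of the automizer.
-/

set_option autoImplicit false

open Cfsg Cfsg.Agent.Characters.Core Cfsg.Agent.Blocks.Basic
open Cfsg.Agent.H713.Count Cfsg.Agent.H33 Cfsg.Agent.H593.IMCyc Cfsg.Agent.H593.IMRank

namespace Cfsg.Agent.H492.IMTools

universe u

variable {G : Type u} [Group G]

theorem orderOf_of_mem_sing [Finite G] {r : ℕ} [hr : Fact r.Prime] {y : G} (hy : orderOf y = r)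
    {A : ConjClasses G} (hA : A ∈ sing r y) {g : G} (hg : ConjClasses.mk g = A) : orderOf g = r := by
  obtain ⟨i, hi, rfl⟩ := mem_sing.1 hA
  obtain ⟨c, hc⟩ := isConj_iff.1 (ConjClasses.mk_eq_mk_iff_isConj.1 hg)
  have h1 : orderOf g = orderOf (y ^ i.val) := by
    rw [← hc]
    exact (MulEquiv.orderOf_eq (MulAut.conj c) g).symm
  rw [h1, orderOf_pow, hy]
  have h8 : Nat.gcd r i.val = 1 := by
    rw [← Nat.coprime_iff_gcd_eq_one, Nat.Prime.coprime_iff_not_dvd hr.out]
    intro hd
    have := ZMod.val_lt i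
    have h9 : i.val ≠ 0 := by
      rw [Ne, ZMod.val_eq_zero]
      exact hi
    exact absurd (Nat.le_of_dvd (Nat.pos_of_ne_zero h9) hd) (by omega)
  rw [h8, Nat.div_one]

/-- A family of nonconjugate elements from orders and from the classes of elements of order `r`. -/
theorem exists_family [Finite G] {r : ℕ} [hr : Fact r.Prime] {y : G} (hy : orderOf y = r)
    (S : Finset ℕ) (hS : ∀ n ∈ S, n ≠ r ∧ ∃ g : G, orderOf g = n) :
    ∃ t : (S ⊕ sing r y) → G, (∀ i, (∃ n ∈ S, orderOf (t i) = n) ∨ orderOf (t i) = r) ∧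
      ∀ i j, IsConj (t i) (t j) → i = j := by
  classical
  choose f hf using fun n : S => (hS n n.2).2
  choose g hg using fun A : sing r y => ConjClasses.exists_rep A.1
  have hord : ∀ {a b : G}, IsConj a b → orderOf a = orderOf b := by
    intro a b h
    obtain ⟨c, rfl⟩ := isConj_iff.1 h
    exact (MulEquiv.orderOf_eq (MulAut.conj c) a).symm
  have hgr : ∀ A, orderOf (g A) = r := fun A => orderOf_of_mem_sing hy A.2 (hg A)
  refine ⟨Sum.elim f g, ?_, ?_⟩
  · rintro (n | A)
    · exact Or.inl ⟨n, n.2, hf n⟩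
    · exact Or.inr (hgr A)
  · rintro (n | A) (m | B) h
    · have h1 := hord h
      simp only [Sum.elim_inl, hf] at h1
      rw [Subtype.ext h1]
    · exfalso
      have h1 := hord h
      simp only [Sum.elim_inl, Sum.elim_inr, hf, hgr] at h1
      exact (hS n n.2).1 h1
    · exfalso
      have h1 := hord h
      simp only [Sum.elim_inl, Sum.elim_inr, hf, hgr] at h1
      exact (hS m m.2).1 h1.symm
    · have h1 : ConjClasses.mk (g A) = ConjClasses.mk (g B) :=
        ConjClasses.mk_eq_mk_iff_isConj.2 h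
      rw [hg, hg] at h1
      rw [Subtype.ext h1]

theorem card_classes_ge [Finite G] {r : ℕ} [hr : Fact r.Prime] {y : G} (hy : orderOf y = r)
    (S : Finset ℕ) (hS : ∀ n ∈ S, n ≠ r ∧ ∃ g : G, orderOf g = n) :
    S.card + (sing r y).card ≤ Nat.card (ConjClasses G) := by
  obtain ⟨t, -, ht⟩ := exists_family hy S hS
  have h := card_le_conjClasses t ht
  rwa [Fintype.card_sum, Fintype.card_coe, Fintype.card_coe] at h

/-- **T5** for a Sylow subgroup of prime order, with the classes of elements of order `r`. -/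
theorem IM_of_orders_sing [Finite G] {p : ℕ} [hp : Fact p.Prime]
    (hG : (Nat.card G).factorization p = 1) {x : G}
    (hx : orderOf x = p) {e m : ℕ} (he : (fus (p := p) x).card ≤ e)
    (hm : numCls p (Subgroup.zpowers x) ≤ m) {r : ℕ} [hr : Fact r.Prime] (hpr : p ≠ r) {y : G}
    (hy : orderOf y = r) (S : Finset ℕ)
    (hS : ∀ n ∈ S, n ≠ r ∧ ¬ p ∣ n ∧ ∃ g : G, orderOf g = n)
    (hlt : e * m < S.card + (sing r y).card) : IM p G := by
  by_contra hno
  have hcard : Nat.card (Subgroup.zpowers x) = p ^ (Nat.card G).factorization p := by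
    rw [Nat.card_zpowers, hx, hG, pow_one]
  have hpG : p ∣ Nat.card G := by
    rw [← hx]; exact orderOf_dvd_natCard x
  let P : Sylow p G := Sylow.ofCard (Subgroup.zpowers x) hcard
  have hP : (P : Subgroup G) = Subgroup.zpowers x := rfl
  obtain ⟨t, ht1, ht2⟩ := exists_family hy S fun n hn => ⟨(hS n hn).1, (hS n hn).2.2⟩
  refine hno (IM_of_classes P (by rw [hP]; infer_instance) hpG t (fun i => ?_) ht2 ?_)
  · rcases ht1 i with ⟨n, hn, h⟩ | h
    · rw [h]; exact (hS n hn).2.1
    · rw [h]
      intro hd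
      exact hpr ((Nat.prime_dvd_prime_iff_eq hp.out hr.out).1 hd)
  rw [hP, Fintype.card_sum, Fintype.card_coe, Fintype.card_coe]
  refine lt_of_le_of_lt (Nat.mul_le_mul ?_ hm) hlt
  refine le_trans (le_of_eq ?_) he
  have hcent : Subgroup.centralizer ((Subgroup.zpowers x : Subgroup G) : Set G) =
      Subgroup.centralizer ({x} : Set G) := by
    rw [Subgroup.zpowers_eq_closure, Subgroup.centralizer_closure]
  have h1 := H713.card_normalizer_zpowers (p := p) hx
  have h2 := Subgroup.relIndex_mul_relIndex ⊥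
    (Subgroup.centralizer ((Subgroup.zpowers x : Subgroup G) : Set G))
    (Subgroup.normalizer ((Subgroup.zpowers x : Subgroup G) : Set G)) bot_le
    (Subgroup.centralizer_le_normalizer _)
  rw [Subgroup.relIndex_bot_left, Subgroup.relIndex_bot_left, h1, hcent, mul_comm] at h2
  rw [hcent]
  exact Nat.eq_of_mul_eq_mul_right Nat.card_pos h2

/-- The order of the automizer from Sylow's theorem. -/
theorem card_fus_eq [Finite G] {p : ℕ} [hp : Fact p.Prime] (hG : (Nat.card G).factorization p = 1)
    {x : G} (hx : orderOf x = p) {c : ℕ}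
    (hc : Nat.card (Subgroup.centralizer ({x} : Set G)) = p * c) {e : ℕ}
    (he : ∀ k < p, k * c % p = (Nat.card G / p) % p → k = e) :
    (fus (p := p) x).card = e ∧ e * (sing p x).card = p - 1 := by
  have hxp : x ^ p = 1 := by rw [← hx]; exact pow_orderOf_eq_one x
  have h2 := card_fus_mul_card_sing (p := p) hxp
  have hp2 := hp.out.two_le
  have h3 : (fus (p := p) x).card < p := by
    have : 0 < (sing p x).card := by
      rcases Nat.eq_zero_or_pos (sing p x).card with h | h
      · rw [h, mul_zero] at h2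
        omega
      · exact h
    have := Nat.le_mul_of_pos_right (fus (p := p) x).card this
    omega
  have h1 := H713.card_fus_mul hG hx hc
  have h4 := he _ h3 h1
  exact ⟨h4, by rw [← h4]; exact h2⟩

end Cfsg.Agent.H492.IMTools
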