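import Cfsg.Agent.H492.JFour

/-!
# The seven double cosets are distinct (helper492)
-/

set_option autoImplicit false

open Cfsg

noncomputable section

namespace Cfsg.Agent.H492.JFourDis

open Cfsg.Agent.J4 Cfsg.Agent.J4.M24Hom Cfsg.Agent.J4.Rel Cfsg.Agent.J4.Index
  Cfsg.Agent.J4.Upper1 Cfsg.Agent.J4.Upper
  Cfsg.Agent.J4.Pres Cfsg.Agent.J4.Rep112 Cfsg.Agent.H492.NodeHecke Cfsg.Agent.H492.JFour
open DoubleCoset Cfsg.Agent.HN.Count Cfsg.Agent.H492.IMSph

/-- the sizes of the classes -/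
def ss (i : Fin 7) : ℕ := ([1, 15180, 28336, 3400320, 32643072, 54405120, 82575360] : List ℕ).getD i 0

theorem szc_eq (i : Fin 7) : szc 20 ib cls i = ss i := by
  revert i; decide +kernel

theorem div_check : ∀ T : Finset (Fin 7), (∑ i ∈ T, ss i) ∣ 501397585920 →
    T.card ≤ 1 ∨ T = {4, 5} := by decide +kernel

open Classical in
/-- the classes in the double coset of `g` -/
def TT (g : Cfsg.Spor.J4) : Finset (Fin 7) :=
  Finset.univ.filter fun i => ∃ k < 20, cls k = i ∧
    cc k ∈ doubleCoset g (BB : Set Cfsg.Spor.J4) (BB : Set Cfsg.Spor.J4)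

open Classical in
theorem mem_TT' (g : Cfsg.Spor.J4) (i : Fin 7) : i ∈ TT g ↔ ∃ k < 20, cls k = i ∧
    cc k ∈ doubleCoset g (BB : Set Cfsg.Spor.J4) (BB : Set Cfsg.Spor.J4) := by
  simp [TT]

open Classical in
theorem sz_TT (g : Cfsg.Spor.J4) : sz BB g = ∑ i ∈ TT g, ss i := by
  have := exact.1
  rw [nd.sz_eq hm g]
  refine Finset.sum_congr ?_ fun i _ => szc_eq i
  ext i
  rw [mem_TT', Finset.mem_filter]
  exact and_iff_right (Finset.mem_univ _)

theorem TT_cases (g : Cfsg.Spor.J4) : (TT g).card ≤ 1 ∨ TT g = {4, 5} := by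
  apply div_check
  rw [← sz_TT, ← card_BB]
  exact Cfsg.Agent.HN.Count.sz_dvd BB g

theorem mem_TT (g : Cfsg.Spor.J4) {k : ℕ} (hk : k < 20) :
    cc k ∈ doubleCoset g (BB : Set Cfsg.Spor.J4) (BB : Set Cfsg.Spor.J4) ↔ cls k ∈ TT g := by
  rw [mem_TT']
  constructor
  · intro h
    exact ⟨k, hk, rfl, h⟩
  · rintro ⟨k', hk', e, h'⟩
    have h1 := hm k' hk' k hk e
    rwa [doubleCoset_eq_of_mem h'] at h1

theorem card_dvd_of_stable {A : Type*} [Group A] [Finite A] (U : Subgroup A) (X : Set A)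
    (h : ∀ x ∈ X, ∀ u ∈ U, x * u ∈ X) : Nat.card U ∣ Nat.card X := by
  have h1 : X = (QuotientGroup.mk : A → A ⧸ U) ⁻¹' ((QuotientGroup.mk : A → A ⧸ U) '' X) := by
    apply Set.Subset.antisymm (Set.subset_preimage_image _ _)
    rintro x ⟨y, hy, e⟩
    rw [QuotientGroup.eq] at e
    have := h y hy _ e
    rwa [mul_inv_cancel_left] at this
  rw [h1, Nat.card_congr (QuotientGroup.preimageMkEquivSubgroupProdSet U _), Nat.card_prod]
  exact dvd_mul_right _ _

theorem TT_one : TT (cc 1) = {1} := by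
  have h1 : cls 1 ∈ TT (cc 1) := (mem_TT _ (by norm_num)).1 (mem_doubleCoset_self BB BB _)
  have h2 : cls 1 = 1 := rfl
  rw [h2] at h1
  rcases TT_cases (cc 1) with h | h
  · exact Finset.eq_singleton_iff_unique_mem.2 ⟨h1, fun x hx =>
      Finset.card_le_one.1 h x hx 1 h1⟩
  · rw [h] at h1
    exact absurd h1 (by decide)

theorem sz_t : sz BB t = 15180 := by
  rw [← cc_one, sz_TT, TT_one]
  decide +kernel

open Classical in
theorem no45 (g : Cfsg.Spor.J4) : TT g ≠ {4, 5} := by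
  intro hT
  have := exact.1
  have := Fintype.ofFinite Cfsg.Spor.J4
  have := Fintype.ofFinite BB
  have := Fintype.ofFinite M24
  -- the set of transitions into the first class
  let D1 : Set Cfsg.Spor.J4 := doubleCoset (cc 1) (BB : Set Cfsg.Spor.J4) (BB : Set Cfsg.Spor.J4)
  let X : Set BB := {b | g * b * t ∈ D1}
  have hX := nd.hecke_dc TrioAll.K hK AA hA hNP (f := fun x => if x ∈ D1 then (1 : ℂ) else 0)
    (fun b hb x => by simp only [D1, dc_mul_left BB _ hb]) (fun b hb x => by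
      simp only [D1, dc_mul_right BB _ hb]) g (t := t)
  have e1 : ∑ b : BB, (if g * b * t ∈ D1 then (1 : ℂ) else 0) = Nat.card X := by
    rw [Finset.sum_ite, Finset.sum_const_zero, add_zero, Finset.sum_const, nsmul_eq_mul, mul_one,
      ← Fintype.card_subtype, ← Nat.card_eq_fintype_card]
    rfl
  have e2 : sz BB g = 87048192 := by
    rw [sz_TT, hT]
    decide +kernel
  have e3 : (Finset.range 20).filter (fun j => cc j ∈ doubleCoset g (BB : Set Cfsg.Spor.J4)
      (BB : Set Cfsg.Spor.J4)) = (Finset.range 20).filter (fun j => cls j = 4 ∨ cls j = 5) := by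
    refine Finset.filter_congr fun j hj => ?_
    rw [mem_TT g (Finset.mem_range.1 hj), hT]
    simp
  have e4 : ∀ j < 20, ∑ q, (if cc j * phi (AA q) * t ∈ D1 then (1 : ℂ) else 0) = Mt j 1 := by
    intro j hj
    have h1 : (Finset.univ.filter fun q => cc j * phi (AA q) * t ∈ D1) =
        Finset.univ.filter fun q => cls (nd.node (cc j * phi (AA q) * t)) = 1 := by
      ext q
      rw [Finset.mem_filter, Finset.mem_filter, nd.mem_dc, mem_TT _ (nd.node_lt _), TT_one,
        Finset.mem_singleton]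
    rw [Finset.sum_ite, Finset.sum_const_zero, add_zero, Finset.sum_const, nsmul_eq_mul, mul_one,
      ← hMt j hj 1, h1]
  have e5 : ∑ j ∈ (Finset.range 20).filter (fun j => cls j = 4 ∨ cls j = 5), ib j * Mt j 1 =
      40803840 := by decide +kernel
  rw [e1, e2, e3, card_BB] at hX
  have e6 : ∑ j ∈ (Finset.range 20).filter (fun j => cls j = 4 ∨ cls j = 5),
      (ib j : ℂ) * ∑ q, (if cc j * phi (AA q) * t ∈ D1 then (1 : ℂ) else 0) = 40803840 := by
    rw [Finset.sum_congr rfl fun j hj => by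
      rw [e4 j (Finset.mem_range.1 (Finset.mem_filter.1 hj).1)]]
    exact_mod_cast e5
  rw [e6] at hX
  have e7 : Nat.card X = 61931520 := by
    have h1 : (Nat.card X : ℂ) = 61931520 := by
      push_cast at hX
      linear_combination (1 / (3795 * 87048192)) * hX
    exact_mod_cast h1
  -- divisibility
  have e8 := card_dvd_of_stable (MulAction.stabilizer BB (pnt BB t)) X (by
    intro x hx u hu
    have h1 : pnt BB t = ((t⁻¹ : Cfsg.Spor.J4) : Cfsg.Spor.J4 ⧸ BB) := rfl
    rw [h1, MulAction.mem_stabilizer_iff] at hu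
    have h2 : (u • ((t⁻¹ : Cfsg.Spor.J4) : Cfsg.Spor.J4 ⧸ BB)) =
      (((u : Cfsg.Spor.J4) * t⁻¹ : Cfsg.Spor.J4) : Cfsg.Spor.J4 ⧸ BB) := rfl
    rw [h2, QuotientGroup.eq] at hu
    have h3 := BB.inv_mem hu
    have h4 : (((u : Cfsg.Spor.J4) * t⁻¹)⁻¹ * t⁻¹)⁻¹ = t⁻¹ * u * t := by
      have h5 : t⁻¹ = t := inv_eq_of_mul_eq_one_right trel.sq
      rw [h5]
      have h6 : (t⁻¹ : Cfsg.Spor.J4)⁻¹ = t := inv_inv t
      rw [mul_inv_rev, inv_inv, h5, mul_assoc]
    rw [h4] at h3
    show g * ((x * u : BB) : Cfsg.Spor.J4) * t ∈ D1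
    have h6 : g * ((x * u : BB) : Cfsg.Spor.J4) * t = g * x * t * (t⁻¹ * u * t) := by
      rw [Subgroup.coe_mul]; group
    rw [h6]
    exact (dc_mul_right BB _ h3 _).2 hx)
  have e9 := MulAction.index_stabilizer BB (pnt BB t)
  have e10 : (MulAction.stabilizer BB (pnt BB t)).index = 15180 := by
    rw [e9]
    exact sz_t
  have e11 := (MulAction.stabilizer BB (pnt BB t)).card_mul_index
  rw [e10, card_BB] at e11
  have e12 : Nat.card (MulAction.stabilizer BB (pnt BB t)) = 33030144 :=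
    Nat.eq_of_mul_eq_mul_right (by norm_num : 0 < 15180) (e11.trans (by norm_num))
  rw [e12, e7] at e8
  norm_num at e8

theorem hdis (j : ℕ) (hj : j < 20) (k : ℕ) (hk : k < 20)
    (h : cc k ∈ doubleCoset (cc j) (BB : Set Cfsg.Spor.J4) (BB : Set Cfsg.Spor.J4)) :
    cls j = cls k := by
  have h1 := (mem_TT (cc j) hk).1 h
  have h2 := (mem_TT (cc j) hj).1 (mem_doubleCoset_self BB BB _)
  rcases TT_cases (cc j) with h3 | h3
  · exact Finset.card_le_one.1 h3 _ h2 _ h1
  · exact absurd h3 (no45 _)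

end Cfsg.Agent.H492.JFourDis
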