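import Cfsg.Agent.H492.ThRat
import Cfsg.Agent.H329.K4.SigCol
import Cfsg.Agent.H707.Odd.Deg

/-!
# Odd degree characters of the Thompson group (helper492)

`good5_th_of` : the irreducible characters of degrees 4123, 30875, 3376737 are rational-valued and
vanish at the elements of order 19; so there are five odd-degree characters fixed by the Galois
automorphism of S4547.
-/

set_option autoImplicit false

open Cfsg

noncomputable section

namespace Cfsg.Agent.H492.K4Th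

open Cfsg.Agent.H601.K4 Cfsg.Agent.H601.OddDeg Cfsg.Agent.H329.K4 Cfsg.Agent.Characters.Core

universe u v

theorem sigFix_of_all {T : Type v} [Group T] [Finite T] {χ : T → ℂ} (hχ : IsCharacter T χ)
    (h : ∀ σ : ℂ →+* ℂ, ∀ g, σ (χ g) = χ g) : SigFix χ := by
  refine SigFix.of_pow fun k hk g => ?_
  obtain ⟨σ, hσ⟩ := Cfsg.Agent.Characters.GaloisBasic.exists_ringEquiv_of_coprime hk
  rw [← hσ χ hχ g]
  exact h (σ : ℂ →+* ℂ) g

theorem good5' (hC : TwoC Cfsg.Spor.Th) : Good5 Cfsg.Spor.Th := by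
  obtain ⟨hfin, hcard, -, -⟩ := Cfsg.Agent.Th.Main1700.final
  obtain ⟨a, ha, sa⟩ := ThRat.val_4123
  obtain ⟨b, hb, sb⟩ := ThRat.val_30875
  obtain ⟨c, hc, sc⟩ := ThRat.val_3376737
  have h19 : Nat.Prime 19 := by norm_num
  have := Fact.mk h19
  obtain ⟨t, ht⟩ := exists_prime_orderOf_dvd_card' (G := Cfsg.Spor.Th) 19 (by rw [hcard]; norm_num)
  have hz : ∀ (φ : IrrCharacter Cfsg.Spor.Th) {d : ℕ}, (φ : Cfsg.Spor.Th → ℂ) 1 = d → 19 ∣ d →
      (φ : Cfsg.Spor.Th → ℂ) t = 0 := by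
    intro φ d h2 h3
    exact Cfsg.Agent.H707.Odd.eq_zero_of_defect_zero (p := 19) (n := 1) h19
      (by rw [hcard]; norm_num) (by rw [hcard]; norm_num) φ.2 h2
      (by simpa using h3) (by rw [ht])
  have hg : ∀ (φ : IrrCharacter Cfsg.Spor.Th) {d : ℕ}, (φ : Cfsg.Spor.Th → ℂ) 1 = d → ¬ 2 ∣ d →
      (∀ σ : ℂ →+* ℂ, ∀ x, σ ((φ : Cfsg.Spor.Th → ℂ) x) = (φ : Cfsg.Spor.Th → ℂ) x) →
      Good (φ : Cfsg.Spor.Th → ℂ) := by
    intro φ d h1 h2 h3
    refine good_of hC ⟨φ.2, ?_⟩ (sigFix_of_all (isIrr_isCharacter φ.2) h3)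
    rw [Cfsg.Agent.H670.PSing.charDegree_eq_of h1]
    exact h2
  have hne : ∀ (χ ψ : IrrCharacter Cfsg.Spor.Th) (m n : ℕ),
      (χ : Cfsg.Spor.Th → ℂ) 1 = (m : ℂ) → (ψ : Cfsg.Spor.Th → ℂ) 1 = (n : ℂ) → m ≠ n →
      (χ : Cfsg.Spor.Th → ℂ) ≠ ψ := by
    intro χ ψ m n hm hn hmn h
    apply hmn
    rw [h, hn] at hm
    exact_mod_cast hm.symm
  refine good5_of_four hC ?_ (hg a ha (by norm_num) sa) (hg b hb (by norm_num) sb)
    (hg c hc (by norm_num) sc) (hne _ _ _ _ ha hb (by norm_num)) (hne _ _ _ _ ha hc (by norm_num))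
    (hne _ _ _ _ hb hc (by norm_num)) (t := t) ?_ (hz a ha (by norm_num)) (hz b hb (by norm_num))
    (hz c hc (by norm_num))
  · rw [hcard]; decide
  · rw [ht]; decide

/-- **Row (A) of S4547 for `Th`**; `hC`, `hC'` : the centralizer condition for the principal
2-block. -/
theorem good5_th_of {S : Type u} [Group S] [Finite S] (h : Cfsg.Spor.IsoTh S) (hC : TwoC S)
    (hC' : TwoC Cfsg.Spor.Th) : Good5 S := by
  obtain ⟨hfin, -, -, -⟩ := Cfsg.Agent.Th.Main1700.final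
  exact good5_of_equiv hC h.some (good5' hC')

end Cfsg.Agent.H492.K4Th
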