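import Mathlib.GroupTheory.Sylow
import Mathlib.GroupTheory.Nilpotent
import Mathlib.GroupTheory.FixedPointFree
import Mathlib.GroupTheory.Subgroup.Centralizer
import Mathlib.GroupTheory.Perm.Cycle.Type

/-!
# Elementary facts on `p`-subgroups and involutions
-/

set_option autoImplicit false

namespace Cfsg.Agent.H492

universe u v

variable {G : Type u} [Group G]

/-- The cyclic group generated by a `p`-element is a `p`-group. -/
theorem isPGroup_zpowers {p : ℕ} {x : G} {a : ℕ} (ha : x ^ p ^ a = 1) :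
    IsPGroup p (Subgroup.zpowers x) := by
  rintro ⟨y, n, rfl⟩
  refine ⟨a, ?_⟩
  apply Subtype.ext
  change ((x ^ n) ^ p ^ a) = 1
  rw [← zpow_natCast, ← zpow_mul, mul_comm, zpow_mul, zpow_natCast, ha, one_zpow]

/-- A `p`-element normalizing a Sylow subgroup lies in it. -/
theorem mem_sylow_of_mem_normalizer [Finite G] {p : ℕ} [Fact p.Prime] (P : Sylow p G)
    (u : G) (hu : u ∈ Subgroup.normalizer ((P : Subgroup G) : Set G)) (a : ℕ)
    (ha : u ^ p ^ a = 1) : u ∈ (P : Subgroup G) := by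
  have h2 : u ∈ Subgroup.zpowers u ⊓ Subgroup.normalizer ((P : Subgroup G) : Set G) :=
    ⟨Subgroup.mem_zpowers u, hu⟩
  exact (((isPGroup_zpowers ha).inf_normalizer_sylow P).le h2).2

/-- Normalizers grow in `p`-groups. -/
theorem exists_mem_normalizer [Finite G] {p : ℕ} [Fact p.Prime] {Q R : Subgroup G}
    (hR : IsPGroup p R) (hQR : Q < R) :
    ∃ r ∈ R, r ∉ Q ∧ r ∈ Subgroup.normalizer (Q : Set G) := by
  have := hR.isNilpotent
  have hnc : NormalizerCondition R := Group.normalizerCondition_of_isNilpotent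
  have hlt : Q.subgroupOf R < ⊤ := by
    rw [lt_top_iff_ne_top, Ne, Subgroup.subgroupOf_eq_top]
    exact not_le_of_gt hQR
  obtain ⟨r, hr1, hr2⟩ := SetLike.exists_of_lt (hnc _ hlt)
  refine ⟨r, r.2, fun h => hr2 h, ?_⟩
  rw [Subgroup.mem_normalizer_iff] at hr1 ⊢
  intro q
  constructor
  · intro hq
    exact (hr1 ⟨q, hQR.le hq⟩).1 hq
  · intro hq
    have hqR : q ∈ R := by
      have h1 : (r : G) * q * (r : G)⁻¹ ∈ R := hQR.le hq
      have h2 := R.mul_mem (R.mul_mem (R.inv_mem r.2) h1) r.2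
      have h3 : (r : G)⁻¹ * (r * q * (r : G)⁻¹) * r = q := by group
      rwa [h3] at h2
    exact (hr1 ⟨q, hqR⟩).2 hq

/-- To normalize, it is enough for an element of order two to send the subgroup into itself. -/
theorem mem_normalizer_of_sq {y : G} (hy : y * y = 1) {R : Subgroup G}
    (h : ∀ r ∈ R, y * r * y⁻¹ ∈ R) : y ∈ Subgroup.normalizer (R : Set G) := by
  rw [Subgroup.mem_normalizer_iff]
  intro r
  refine ⟨h r, fun hr => ?_⟩
  have h1 := h _ hr
  have h2 : y * (y * r * y⁻¹) * y⁻¹ = (y * y) * r * (y * y)⁻¹ := by group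
  rw [h2, hy] at h1
  simpa using h1

/-- Frattini for parity. -/
theorem even_card_normalizer [Finite G] {p : ℕ} [Fact p.Prime] (C : Subgroup G) [C.Normal]
    (hC : Odd (Nat.card C)) (hG : Even (Nat.card G)) (P : Sylow p G)
    (hPC : (P : Subgroup G) ≤ C) :
    Even (Nat.card (Subgroup.normalizer ((P : Subgroup G) : Set G))) := by
  have h1 : Subgroup.normalizer ((P : Subgroup G) : Set G) ⊔ C = ⊤ :=
    Sylow.normalizer_sup_eq_top' P hPC
  have h2 : C.index = C.relIndex (Subgroup.normalizer ((P : Subgroup G) : Set G)) := by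
    rw [← Subgroup.relIndex_sup_right, h1, Subgroup.relIndex_top_right]
  have h3 : C.index ∣ Nat.card (Subgroup.normalizer ((P : Subgroup G) : Set G)) := by
    rw [h2]; exact Subgroup.relIndex_dvd_card _ _
  rw [even_iff_two_dvd] at hG ⊢
  rw [← C.card_mul_index] at hG
  rcases (Nat.Prime.dvd_mul Nat.prime_two).1 hG with h4 | h4
  · exact absurd (even_iff_two_dvd.2 h4) (Nat.not_even_iff_odd.2 hC)
  · exact h4.trans h3

/-- If the involution `y` is central modulo the normal subgroup `ker φ` of odd order, then each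
`p`-element outside `ker φ` gives an element of order `p` that commutes with `y`. -/
theorem exists_orderOf_comm [Finite G] {A : Type v} [Group A] (φ : G →* A)
    (hodd : Odd (Nat.card φ.ker)) (y : G) (hy : y * y = 1) (hcen : ∀ x, φ x * φ y = φ y * φ x)
    (p : ℕ) [hp : Fact p.Prime] (x : G) (a : ℕ) (hx : x ^ p ^ a = 1) (hx1 : φ x ≠ 1) :
    ∃ u : G, orderOf u = p ∧ u * y = y * u := by
  -- `x y x⁻¹ = y c`
  let c : G := y * (x * y * x⁻¹)
  have hc : c ∈ φ.ker := by
    rw [MonoidHom.mem_ker]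
    change φ (y * (x * y * x⁻¹)) = 1
    rw [map_mul, map_mul, map_mul, map_inv, hcen x, mul_assoc (φ y), mul_inv_cancel, mul_one,
      ← map_mul, hy, map_one]
  have hyc : y * c * y = c⁻¹ := by
    apply eq_inv_of_mul_eq_one_left
    change y * (y * (x * y * x⁻¹)) * y * (y * (x * y * x⁻¹)) = 1
    have : y * (y * (x * y * x⁻¹)) * y * (y * (x * y * x⁻¹)) =
      (y * y) * (x * y * x⁻¹) * (y * y) * (x * y * x⁻¹) := by group
    rw [this, hy, one_mul, mul_one]
    have : x * y * x⁻¹ * (x * y * x⁻¹) = x * (y * y) * x⁻¹ := by group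
    rw [this, hy]; group
  have hyi : y⁻¹ = y := inv_eq_of_mul_eq_one_left hy
  have hcn : ∀ n : ℕ, c ^ n * y = y * (c ^ n)⁻¹ := by
    intro n
    induction n with
    | zero => simp
    | succ n ih =>
      have h1 : c * y = y * c⁻¹ := by
        rw [← hyc, ← mul_assoc, ← mul_assoc, hy, one_mul]
      rw [pow_succ, mul_assoc, h1, ← mul_assoc, ih, mul_assoc, mul_inv_rev, ← mul_inv_rev,
        ← mul_inv_rev, ← pow_succ, ← pow_succ']
  obtain ⟨m, hm⟩ : Odd (orderOf c) := by
    refine Odd.of_dvd_nat hodd ?_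
    have := orderOf_dvd_natCard (⟨c, hc⟩ : φ.ker)
    rwa [← Subgroup.orderOf_coe] at this
  -- `t = c ^ m` conjugates `y` to `x y x⁻¹`
  let t : G := c ^ m
  have ht : t * y * t⁻¹ = x * y * x⁻¹ := by
    have h1 : t * y * t⁻¹ = y * ((c ^ m)⁻¹ * (c ^ m)⁻¹) := by
      change c ^ m * y * (c ^ m)⁻¹ = _
      rw [hcn m, mul_assoc]
    have h2 : (c ^ m)⁻¹ * (c ^ m)⁻¹ = c := by
      rw [← mul_inv_rev, ← pow_add, inv_eq_iff_mul_eq_one, ← pow_succ, ← two_mul, ← hm,
        pow_orderOf_eq_one]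
    rw [h1, h2]
    change y * (y * (x * y * x⁻¹)) = _
    rw [← mul_assoc, hy, one_mul]
  have htk : φ t = 1 := by
    change φ (c ^ m) = 1
    rw [map_pow, MonoidHom.mem_ker.1 hc, one_pow]
  let v : G := t⁻¹ * x
  have hvy : v * y = y * v := by
    change t⁻¹ * x * y = y * (t⁻¹ * x)
    calc t⁻¹ * x * y = t⁻¹ * (x * y * x⁻¹) * x := by group
      _ = t⁻¹ * (t * y * t⁻¹) * x := by rw [ht]
      _ = y * (t⁻¹ * x) := by group
  have hφv : φ v = φ x := by
    change φ (t⁻¹ * x) = φ x
    rw [map_mul, map_inv, htk]; simp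
  have hpv : p ∣ orderOf v := by
    have h1 : p ∣ orderOf (φ v) := by
      have h2 : orderOf (φ v) ∣ p ^ a := by
        rw [hφv]
        exact orderOf_dvd_of_pow_eq_one (by rw [← map_pow, hx, map_one])
      obtain ⟨b, -, hb⟩ := (Nat.dvd_prime_pow hp.out).1 h2
      rcases Nat.eq_zero_or_pos b with rfl | hb0
      · rw [pow_zero, orderOf_eq_one_iff, hφv] at hb
        exact absurd hb hx1
      · rw [hb]; exact dvd_pow_self p hb0.ne'
    exact h1.trans (orderOf_map_dvd φ v)
  refine ⟨v ^ (orderOf v / p), ?_, ?_⟩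
  · exact orderOf_pow_orderOf_div (orderOf_pos v).ne' hpv
  · exact (Commute.pow_left (show Commute v y from hvy) _)

end Cfsg.Agent.H492
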