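import Cfsg.Agent.H492.NodeHecke

/-!
# Irreducible characters from a permutation action given by suborbits (helper492)

`G` acts on `ℕ`, `H` is the stabilizer of `0`, the orbit of `0` is the union of the finite sets
`D i`, each an orbit of `H`, of different sizes.  From the numbers
`k i j = #{y ∈ D a | w i • y ∈ D j}` (`w i` maps `0` into `D i`) an eigenvalue of multiplicity 1
of the matrix `k` gives an irreducible character of exact degree.
-/

set_option autoImplicit false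

namespace Cfsg.Agent.H492.PermHecke

open Cfsg Cfsg.Agent.Characters.Core Cfsg.Agent.H492.NodeHecke

universe u

variable {G : Type u} [Group G]

theorem inv_app (φ : G →* Equiv.Perm ℕ) (x : G) (p : ℕ) : φ x⁻¹ (φ x p) = p := by
  rw [← Equiv.Perm.mul_apply, ← map_mul, inv_mul_cancel, map_one]; rfl

/-- The sum over a subgroup as a sum over an orbit. -/
theorem sum_orbit [Fintype G] (H : Subgroup G) [Fintype H] (φ : G →* Equiv.Perm ℕ) (D : Finset ℕ)
    {y : ℕ} (hD : ∀ p, (∃ x ∈ H, φ x y = p) ↔ p ∈ D) (F : ℕ → ℂ) :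
    (D.card : ℂ) * ∑ h : H, F (φ h y) = (Nat.card H : ℂ) * ∑ p ∈ D, F p := by
  classical
  have hst : ∀ h ∈ H, ∀ p, p ∈ D → φ h p ∈ D := by
    intro h hh p hp
    obtain ⟨x, hx, rfl⟩ := (hD p).2 hp
    exact (hD _).1 ⟨h * x, H.mul_mem hh hx, by rw [map_mul, Equiv.Perm.mul_apply]⟩
  have h1 : ∀ p ∈ D, ∑ h : H, F (φ h p) = ∑ h : H, F (φ h y) := by
    intro p hp
    obtain ⟨x, hx, rfl⟩ := (hD p).2 hp
    rw [← Equiv.sum_comp (Equiv.mulRight (⟨x, hx⟩ : H)) (fun h : H => F (φ h y))]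
    refine Finset.sum_congr rfl fun h _ => ?_
    simp only [Equiv.coe_mulRight, Subgroup.coe_mul, map_mul, Equiv.Perm.mul_apply]
  have h2 : ∀ h : H, ∑ p ∈ D, F (φ h p) = ∑ p ∈ D, F p := by
    intro h
    refine Finset.sum_bij' (fun p _ => φ h p) (fun p _ => φ (h : G)⁻¹ p)
      (fun p hp => hst h h.2 p hp) (fun p hp => hst _ (H.inv_mem h.2) p hp) ?_ ?_ ?_
    · intro p _; simp
    · intro p _; simp
    · intro p _; rfl
  calc (D.card : ℂ) * ∑ h : H, F (φ h y) = ∑ p ∈ D, ∑ h : H, F (φ h y) := by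
        rw [Finset.sum_const, nsmul_eq_mul]
    _ = ∑ p ∈ D, ∑ h : H, F (φ h p) := Finset.sum_congr rfl fun p hp => (h1 p hp).symm
    _ = ∑ h : H, ∑ p ∈ D, F (φ h p) := Finset.sum_comm
    _ = ∑ h : H, ∑ p ∈ D, F p := Finset.sum_congr rfl fun h _ => h2 h
    _ = (Nat.card H : ℂ) * ∑ p ∈ D, F p := by
        rw [Finset.sum_const, nsmul_eq_mul, Finset.card_univ, Nat.card_eq_fintype_card]

/-- **Irreducible characters from a permutation action given by suborbits.** -/
theorem exists_irr_of_perm [Finite G] (H : Subgroup G) (φ : G →* Equiv.Perm ℕ)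
    (hst : ∀ g, φ g 0 = 0 ↔ g ∈ H) {m : ℕ} (D : Fin m → Finset ℕ) (w : Fin m → G)
    (hD : ∀ i p, (∃ x ∈ H, φ x (φ (w i) 0) = p) ↔ p ∈ D i) (hcov : ∀ g, ∃ i, φ g 0 ∈ D i)
    (sz : Fin m → ℕ) (hsz : ∀ i, (D i).card = sz i) (hinj : Function.Injective sz)
    (a : Fin m) (k : Fin m → Fin m → ℕ)
    (hk : ∀ i j, ((D a).filter (fun y => φ (w i) y ∈ D j)).card = k i j)
    (i0 : Fin m) (hi0 : w i0 = 1) (v : Fin m → ℂ) (μ : ℂ) (hv0 : v i0 = 1)
    (hv : ∀ i, ∑ j, (k i j : ℂ) * v j = μ * v i)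
    (hu : ∀ x : Fin m → ℂ, (∀ i, ∑ j, (k i j : ℂ) * x j = μ * x i) → ∀ i, x i = x i0 * v i)
    {K : ℂ} (hK : ∑ i, (sz i : ℂ) * v i ^ 2 = K) (hK0 : K ≠ 0) :
    ∃ χ : IrrCharacter G, (χ : G → ℂ) 1 * K = H.index := by
  classical
  have := Fintype.ofFinite G
  have := Fintype.ofFinite H
  -- basic facts on the orbits
  have hwD : ∀ i, φ (w i) 0 ∈ D i := fun i =>
    (hD i _).1 ⟨1, H.one_mem, by rw [map_one]; rfl⟩
  have hstab : ∀ h ∈ H, ∀ i p, p ∈ D i → φ h p ∈ D i := by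
    intro h hh i p hp
    obtain ⟨x, hx, rfl⟩ := (hD i p).2 hp
    exact (hD i _).1 ⟨h * x, H.mul_mem hh hx, by rw [map_mul, Equiv.Perm.mul_apply]⟩
  have hsub : ∀ i j p, p ∈ D i → p ∈ D j → D i ⊆ D j := by
    intro i j p hi hj q hq
    obtain ⟨x, hx, hx'⟩ := (hD i p).2 hi
    obtain ⟨y, hy, hy'⟩ := (hD i q).2 hq
    have : φ (y * x⁻¹) p = q := by
      rw [map_mul, Equiv.Perm.mul_apply, ← hx', inv_app, hy']
    rw [← this]
    exact hstab _ (H.mul_mem hy (H.inv_mem hx)) j p hj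
  have huniq : ∀ i j p, p ∈ D i → p ∈ D j → i = j := by
    intro i j p hi hj
    apply hinj
    rw [← hsz, ← hsz]
    exact le_antisymm (Finset.card_le_card (hsub i j p hi hj))
      (Finset.card_le_card (hsub j i p hj hi))
  -- the labels
  choose lab hlab using hcov
  have hlab_iff : ∀ g i, lab g = i ↔ φ g 0 ∈ D i := by
    intro g i
    constructor
    · rintro rfl; exact hlab g
    · intro h; exact huniq _ _ _ (hlab g) h
  have hH0 : ∀ h ∈ H, φ h 0 = 0 := fun h hh => (hst h).2 hh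
  have hlabl : ∀ h ∈ H, ∀ g, lab (h * g) = lab g := by
    intro h hh g
    rw [hlab_iff, map_mul, Equiv.Perm.mul_apply]
    exact hstab h hh _ _ (hlab g)
  have hlabr : ∀ h ∈ H, ∀ g, lab (g * h) = lab g := by
    intro h hh g
    rw [hlab_iff, map_mul, Equiv.Perm.mul_apply, hH0 h hh]
    exact hlab g
  have hlabw : ∀ i, lab (w i) = i := fun i => (hlab_iff _ _).2 (hwD i)
  have hw : ∀ g, ∃ a ∈ H, ∃ b ∈ H, g = a * w (lab g) * b := by
    intro g
    obtain ⟨x, hx, hx'⟩ := (hD (lab g) _).2 (hlab g)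
    refine ⟨x, hx, (w (lab g))⁻¹ * x⁻¹ * g, ?_, by group⟩
    rw [← hst, map_mul, map_mul, Equiv.Perm.mul_apply, Equiv.Perm.mul_apply, ← hx', inv_app,
      inv_app]
  -- sizes
  have hcard : ∀ i, (Finset.univ.filter (fun g : G => lab g = i)).card = Nat.card H * sz i := by
    intro i
    have h1 : ∀ g ∈ Finset.univ.filter (fun g : G => lab g = i), φ g 0 ∈ D i := by
      intro g hg
      exact (hlab_iff _ _).1 (Finset.mem_filter.1 hg).2
    rw [Finset.card_eq_sum_card_fiberwise h1, ← hsz i, mul_comm, ← smul_eq_mul,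
      ← Finset.sum_const]
    refine Finset.sum_congr rfl fun p hp => ?_
    obtain ⟨x, hx, hx'⟩ := (hD i p).2 hp
    rw [Nat.card_eq_fintype_card, ← Finset.card_univ]
    symm
    refine Finset.card_bij (fun (h : H) _ => x * w i * h) ?_ ?_ ?_
    · intro h _
      rw [Finset.mem_filter, Finset.mem_filter]
      refine ⟨⟨Finset.mem_univ _, ?_⟩, ?_⟩
      · rw [hlabr h h.2, hlabl x hx, hlabw]
      · rw [map_mul, map_mul, Equiv.Perm.mul_apply, Equiv.Perm.mul_apply, hH0 h h.2, hx']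
    · intro h _ h' _ e
      exact Subtype.ext (mul_left_cancel e)
    · intro g hg
      rw [Finset.mem_filter] at hg
      refine ⟨⟨(x * w i)⁻¹ * g, ?_⟩, Finset.mem_univ _, mul_inv_cancel_left _ _⟩
      have e : p = φ (x * w i) 0 := by rw [map_mul, Equiv.Perm.mul_apply, hx']
      rw [← hst, map_mul, Equiv.Perm.mul_apply, hg.2, e, inv_app]
  have hHpos : 0 < Nat.card H := Nat.card_pos
  -- inverses
  have hlabi : ∀ g, lab g⁻¹ = lab g := by
    have h1 : ∀ g, lab g⁻¹ = lab (w (lab g))⁻¹ := by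
      intro g
      obtain ⟨x, hx, y, hy, e⟩ := hw g
      nth_rewrite 1 [e]
      rw [mul_inv_rev, mul_inv_rev, hlabl _ (H.inv_mem hy), hlabr _ (H.inv_mem hx)]
    have h2 : ∀ i, (Finset.univ.filter (fun g : G => lab g = i)).card =
        (Finset.univ.filter (fun g : G => lab g⁻¹ = i)).card := by
      intro i
      refine Finset.card_bij (fun g _ => g⁻¹) ?_ ?_ ?_
      · intro g hg
        rw [Finset.mem_filter] at hg ⊢
        exact ⟨Finset.mem_univ _, by rw [inv_inv]; exact hg.2⟩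
      · intro g _ g' _ e
        exact inv_injective e
      · intro g hg
        rw [Finset.mem_filter] at hg
        exact ⟨g⁻¹, by rw [Finset.mem_filter]; exact ⟨Finset.mem_univ _, hg.2⟩, inv_inv g⟩
    intro g
    have h3 : Finset.univ.filter (fun x : G => lab x = lab g) ⊆
        Finset.univ.filter (fun x : G => lab x⁻¹ = lab g⁻¹) := by
      intro x hx
      rw [Finset.mem_filter] at hx ⊢
      refine ⟨Finset.mem_univ _, ?_⟩
      rw [h1 x, h1 g, hx.2]
    have h4 : Finset.univ.filter (fun x : G => lab x⁻¹ = lab g⁻¹) ⊆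
        Finset.univ.filter (fun x : G => lab x = lab g) := by
      intro x hx
      rw [Finset.mem_filter] at hx ⊢
      refine ⟨Finset.mem_univ _, ?_⟩
      have h5 := h1 x⁻¹
      have h6 := h1 g⁻¹
      rw [inv_inv] at h5 h6
      rw [h5, h6, hx.2]
    have h5 := le_antisymm (Finset.card_le_card h3) (Finset.card_le_card h4)
    rw [← h2, hcard, hcard] at h5
    exact (hinj (Nat.eq_of_mul_eq_mul_left hHpos h5)).symm
  have hDa : ((D a).card : ℂ) ≠ 0 := by
    have : 0 < (D a).card := Finset.card_pos.2 ⟨_, hwD a⟩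
    exact_mod_cast this.ne'
  have hHc : ((Nat.card H : ℕ) : ℂ) ≠ 0 := by exact_mod_cast hHpos.ne'
  refine exists_irr_of_lab H (w a) lab w hlabl hlabr hw hlabi ((Nat.card H : ℂ) / (D a).card)
    (div_ne_zero hHc hDa) (fun i j => (k i j : ℂ)) ?_ hlabw sz hcard i0 hi0 v μ hv0 hv hu hK hK0
  intro f hl hr g
  have hf : ∀ g, f g = f (w (lab g)) := by
    intro g
    obtain ⟨a, ha, b, hb, e⟩ := hw g
    nth_rewrite 1 [e]
    rw [hr b hb, hl a ha]
  obtain ⟨x, hx, y, hy, e⟩ := hw g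
  have h1 : ∑ h : H, f (g * h * w a) = ∑ h : H, f (w (lab g) * h * w a) := by
    rw [← Equiv.sum_comp (Equiv.mulLeft (⟨y, hy⟩ : H)) (fun h : H => f (w (lab g) * h * w a))]
    refine Finset.sum_congr rfl fun h _ => ?_
    nth_rewrite 1 [e]
    rw [← hl x hx (w (lab g) * _ * w a)]
    congr 1
    simp only [Equiv.coe_mulLeft, Subgroup.coe_mul, mul_assoc]
  rw [h1]
  -- the labels of points
  let F : ℕ → ℂ := fun p => ∑ j, if φ (w (lab g)) p ∈ D j then f (w j) else 0
  have h2 : ∀ h : H, f (w (lab g) * h * w a) = F (φ h (φ (w a) 0)) := by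
    intro h
    show _ = ∑ j, if φ (w (lab g)) (φ h (φ (w a) 0)) ∈ D j then f (w j) else 0
    have h3 : φ (w (lab g)) (φ h (φ (w a) 0)) = φ (w (lab g) * h * w a) 0 := by
      rw [map_mul, map_mul, Equiv.Perm.mul_apply, Equiv.Perm.mul_apply]
    rw [h3, hf]
    have h4 : ∀ j, (φ (w (lab g) * h * w a) 0 ∈ D j) ↔ lab (w (lab g) * h * w a) = j :=
      fun j => (hlab_iff _ _).symm
    simp only [h4, Finset.sum_ite_eq, Finset.mem_univ, if_true]
  rw [Finset.sum_congr rfl fun h _ => h2 h]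
  have h3 := sum_orbit H φ (D a) (hD a) F
  have h4 : ∑ p ∈ D a, F p = ∑ j, (k (lab g) j : ℂ) * f (w j) := by
    show ∑ p ∈ D a, ∑ j, (if φ (w (lab g)) p ∈ D j then f (w j) else 0) = _
    rw [Finset.sum_comm]
    refine Finset.sum_congr rfl fun j _ => ?_
    rw [← Finset.sum_filter, Finset.sum_const, nsmul_eq_mul, hk]
  rw [h4] at h3
  rw [div_mul_eq_mul_div, eq_div_iff hDa, mul_comm, h3]

end Cfsg.Agent.H492.PermHecke
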