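import Cfsg.Agent.H492.TwoSub
import Cfsg.Agent.H625.SylConst
import Cfsg.Agent.SmallSimple.LargePrime

/-!
# Irreducible characters from spherical functions, with fixed vectors (helper492)

The theorems of `H492/IMSph`, `H492/TwoSub` with more information on the character.

* `exists_irr_of_spherical_fix` : `∑ φ g * χ g⁻¹ = κ`;
* `exists_irr_of_family_fix` : if the eigenvalue is not zero then `∑ χ (x * t i) ≠ 0` for some `x`;
* `exists_irr_of_two_fix` : `χ` has a vector fixed by `H`, and one fixed by `C` if the eigenvalue of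
  `e_H e_C` is not zero.
-/

set_option autoImplicit false

namespace Cfsg.Agent.H492.SphFix

open Cfsg Cfsg.Agent.Characters.Core Cfsg.Agent.H492.IMSph Cfsg.Agent.H492.TwoSub
  Cfsg.Agent.H625.SylConst
open scoped ComplexConjugate

universe u

variable {G : Type u} [Group G]

theorem exists_irr_of_spherical_fix [Fintype G] {φ : G → ℂ} {κ : ℂ} (h1 : φ 1 = 1)
    (hκ : ∑ z, φ z * φ z⁻¹ = κ) (hκ0 : κ ≠ 0)
    (hprim : ∀ y u, ∑ g, φ g * φ (y⁻¹ * g⁻¹ * u) = (∑ g, φ g * φ (y⁻¹ * g⁻¹)) * φ u) :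
    ∃ χ : IrrCharacter G, (χ : G → ℂ) 1 * κ = Nat.card G ∧ ∑ g, φ g * (χ : G → ℂ) g⁻¹ = κ := by
  classical
  -- the idempotent
  have hid : ∀ u, ∑ g, φ g * φ (g⁻¹ * u) = κ * φ u := by
    intro u
    have h := hprim 1 u
    rw [inv_one] at h
    simp only [one_mul] at h
    rw [h, hκ]
  have hy : ∀ y, ∑ g, φ g * φ (y⁻¹ * g⁻¹) = κ * φ y⁻¹ := by
    intro y
    rw [← hid y⁻¹, ← Equiv.sum_comp ((Equiv.mulLeft y).trans (Equiv.inv G))]
    refine Finset.sum_congr rfl fun k _ => ?_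
    simp only [Equiv.trans_apply, Equiv.inv_apply, Equiv.coe_mulLeft, inv_inv, mul_inv_rev]
    rw [inv_mul_cancel_left, mul_comm]
  have hG : (Nat.card G : ℂ) ≠ 0 := by
    exact_mod_cast Nat.card_pos.ne'
  -- the character
  have hc : IsCharacter G (fun g : G => ∑ a : G, κ⁻¹ * φ (a⁻¹ * (g * a))) := by
    have := Cfsg.Agent.H651.isCharacter_sum_perm (MulAction.toPermHom G G)
      (fun a b => κ⁻¹ * φ (a⁻¹ * b)) ?_ ?_
    · exact this
    · intro a c
      have h2 : ∀ b, κ⁻¹ * φ (a⁻¹ * b) * (κ⁻¹ * φ (b⁻¹ * c)) =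
          κ⁻¹ * κ⁻¹ * (φ (a⁻¹ * b) * φ (b⁻¹ * c)) := fun b => by ring
      rw [Finset.sum_congr rfl fun b _ => h2 b, ← Finset.mul_sum]
      rw [← Equiv.sum_comp (Equiv.mulLeft a)]
      have h3 : ∀ b, φ (a⁻¹ * (Equiv.mulLeft a) b) * φ (((Equiv.mulLeft a) b)⁻¹ * c) =
          φ b * φ (b⁻¹ * (a⁻¹ * c)) := by
        intro b
        simp only [Equiv.coe_mulLeft, inv_mul_cancel_left, mul_inv_rev, mul_assoc]
      rw [Finset.sum_congr rfl fun b _ => h3 b, hid]
      field_simp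
    · intro g a b
      show κ⁻¹ * φ ((g * a)⁻¹ * (g * b)) = _
      rw [mul_inv_rev, mul_assoc, inv_mul_cancel_left]
  set θ : G → ℂ := fun g : G => ∑ a : G, κ⁻¹ * φ (a⁻¹ * (g * a)) with hθ
  have h4 : ∑ g, κ⁻¹ * φ g * θ g⁻¹ = 1 := by
    have e1 : ∀ g, κ⁻¹ * φ g * θ g⁻¹ = ∑ y, κ⁻¹ * κ⁻¹ * (φ g * φ (y⁻¹ * g⁻¹ * y)) := by
      intro g
      rw [hθ]
      show κ⁻¹ * φ g * ∑ a : G, κ⁻¹ * φ (a⁻¹ * (g⁻¹ * a)) = _
      rw [Finset.mul_sum]
      refine Finset.sum_congr rfl fun a _ => ?_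
      rw [← mul_assoc a⁻¹]
      ring
    rw [Finset.sum_congr rfl fun g _ => e1 g, Finset.sum_comm]
    have e2 : ∀ y : G, ∑ g, κ⁻¹ * κ⁻¹ * (φ g * φ (y⁻¹ * g⁻¹ * y)) =
        κ⁻¹ * (φ y * φ y⁻¹) := by
      intro y
      rw [← Finset.mul_sum, hprim, hy]
      field_simp
    rw [Finset.sum_congr rfl fun y _ => e2 y, ← Finset.mul_sum, hκ, inv_mul_cancel₀ hκ0]
  -- its norm
  have hnorm : classInner θ θ = 1 := by
    rw [classInner_def]
    have h2 : ∀ g, θ g * conj (θ g) = θ g * θ g⁻¹ := fun g => by rw [isCharacter_apply_inv hc]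
    rw [Finset.sum_congr rfl fun g _ => h2 g]
    -- the second factor is a class function
    have hcl : ∀ g x, θ (x * g * x⁻¹) = θ g := by
      intro g x
      rw [hθ]
      show ∑ a : G, κ⁻¹ * φ (a⁻¹ * (x * g * x⁻¹ * a)) = ∑ a : G, κ⁻¹ * φ (a⁻¹ * (g * a))
      rw [← Equiv.sum_comp (Equiv.mulLeft x)]
      refine Finset.sum_congr rfl fun a _ => ?_
      simp only [Equiv.coe_mulLeft, mul_inv_rev]
      congr 2
      group
    have h3 : ∑ g, θ g * θ g⁻¹ = Nat.card G * ∑ g, κ⁻¹ * φ g * θ g⁻¹ := by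
      have e1 : ∀ g, θ g * θ g⁻¹ = ∑ a : G, κ⁻¹ * φ (a⁻¹ * (g * a)) * θ g⁻¹ := fun g => by
        rw [← Finset.sum_mul]
      rw [Finset.sum_congr rfl fun g _ => e1 g, Finset.sum_comm]
      have e2 : ∀ a : G, ∑ g, κ⁻¹ * φ (a⁻¹ * (g * a)) * θ g⁻¹ = ∑ g, κ⁻¹ * φ g * θ g⁻¹ := by
        intro a
        rw [← Equiv.sum_comp (MulAut.conj a).toEquiv]
        refine Finset.sum_congr rfl fun g _ => ?_
        have e3 : (MulAut.conj a).toEquiv g = a * g * a⁻¹ := rfl
        have e4 : (a * g * a⁻¹)⁻¹ = a * g⁻¹ * a⁻¹ := by group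
        have e5 : a⁻¹ * (a * g * a⁻¹ * a) = g := by group
        rw [e3, e4, hcl, e5]
      rw [Finset.sum_congr rfl fun a _ => e2 a, Finset.sum_const, Finset.card_univ,
        ← Nat.card_eq_fintype_card, nsmul_eq_mul]
    rw [h3, h4, mul_one, inv_mul_cancel₀ hG]
  have hirr : IsIrrCharacter G θ := isIrr_of_classInner_self hc hnorm
  refine ⟨⟨θ, hirr⟩, ?_, ?_⟩
  swap
  · have h4' : ∀ g, φ g * θ g⁻¹ = κ * (κ⁻¹ * φ g * θ g⁻¹) := by
      intro g
      rw [← mul_assoc, ← mul_assoc, mul_inv_cancel₀ hκ0, one_mul]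
    show ∑ g, φ g * θ g⁻¹ = κ
    rw [Finset.sum_congr rfl fun g _ => h4' g, ← Finset.mul_sum, h4, mul_one]
  show (∑ a : G, κ⁻¹ * φ (a⁻¹ * (1 * a))) * κ = _
  have h5 : ∀ a : G, κ⁻¹ * φ (a⁻¹ * (1 * a)) = κ⁻¹ := fun a => by
    rw [one_mul, inv_mul_cancel, h1, mul_one]
  rw [Finset.sum_congr rfl fun a _ => h5 a, Finset.sum_const, Finset.card_univ,
    ← Nat.card_eq_fintype_card, nsmul_eq_mul, mul_assoc, inv_mul_cancel₀ hκ0, mul_one]

/-- If the sum over `C` is zero then all sums over cosets are zero. -/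
theorem sum_coset_eq_zero [Finite G] (χ : IrrCharacter G) (C : Subgroup G) [Fintype C]
    (h : ¬ Fix C (χ : G → ℂ)) (x : G) : ∑ c : C, (χ : G → ℂ) (x * c) = 0 := by
  rw [fix_iff, not_not] at h
  obtain ⟨k, hk, h0⟩ := Cfsg.Agent.SmallSimple.LargePrime.exists_avg χ.2 C
  rw [h] at hk
  have hC : (Nat.card C : ℂ) ≠ 0 := by exact_mod_cast (Nat.card_pos (α := C)).ne'
  have hk0 : k = 0 := by
    rcases mul_eq_zero.1 hk.symm with h1 | h1
    · exact absurd h1 hC
    · exact_mod_cast h1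
  have h2 := h0 hk0 x
  have h3 : ∀ c : C, (χ : G → ℂ) (x * c) = (χ : G → ℂ) (c * x) := by
    intro c
    have h4 := isIrr_isClassFunction χ.2 ((c : G) * x) x
    rw [← h4]
    congr 1
    group
  rw [Finset.sum_congr rfl fun c _ => h3 c, h2]

/-- The version for an operator given by a family of elements. -/
theorem exists_irr_of_family_fix [Fintype G] (H : Subgroup G) {ι : Type*} [Fintype ι] (t : ι → G)
    {φ : G → ℂ} {μ κ : ℂ}
    (hl : ∀ h ∈ H, ∀ g, φ (h * g) = φ g) (hr : ∀ h ∈ H, ∀ g, φ (g * h) = φ g) (h1 : φ 1 = 1)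
    (hT : ∀ g, ∑ i, φ (g * t i) = μ * φ g)
    (huniq : ∀ f : G → ℂ, (∀ h ∈ H, ∀ g, f (h * g) = f g) → (∀ h ∈ H, ∀ g, f (g * h) = f g) →
      (∀ g, ∑ i, f (g * t i) = μ * f g) → ∀ g, f g = f 1 * φ g)
    (hκ : ∑ z, φ z * φ z⁻¹ = κ) (hκ0 : κ ≠ 0) :
    ∃ χ : IrrCharacter G, (χ : G → ℂ) 1 * κ = Nat.card G ∧ Fix H (χ : G → ℂ) ∧
      (μ ≠ 0 → ∃ x, ∑ i, (χ : G → ℂ) (x * t i) ≠ 0) := by
  classical
  have := Fintype.ofFinite H
  have key : ∃ χ : IrrCharacter G, (χ : G → ℂ) 1 * κ = Nat.card G ∧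
      ∑ g, φ g * (χ : G → ℂ) g⁻¹ = κ := by
    refine exists_irr_of_spherical_fix h1 hκ hκ0 fun y u => ?_
    have h := huniq (fun u => ∑ g, φ g * φ (y⁻¹ * g⁻¹ * u)) ?_ ?_ ?_ u
    · simp only [mul_one] at h
      exact h
    · intro h hh g
      show ∑ x, φ x * φ (y⁻¹ * x⁻¹ * (h * g)) = ∑ x, φ x * φ (y⁻¹ * x⁻¹ * g)
      rw [← Equiv.sum_comp (Equiv.mulLeft h)]
      refine Finset.sum_congr rfl fun x _ => ?_
      simp only [Equiv.coe_mulLeft]
      rw [hl h hh]
      congr 2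
      group
    · intro h hh g
      show ∑ x, φ x * φ (y⁻¹ * x⁻¹ * (g * h)) = ∑ x, φ x * φ (y⁻¹ * x⁻¹ * g)
      refine Finset.sum_congr rfl fun x _ => ?_
      rw [← mul_assoc (y⁻¹ * x⁻¹), hr h hh]
    · intro g
      show ∑ i, ∑ x, φ x * φ (y⁻¹ * x⁻¹ * (g * t i)) = μ * ∑ x, φ x * φ (y⁻¹ * x⁻¹ * g)
      rw [Finset.sum_comm, Finset.mul_sum]
      refine Finset.sum_congr rfl fun x _ => ?_
      have e : ∀ i, φ x * φ (y⁻¹ * x⁻¹ * (g * t i)) = φ x * φ (y⁻¹ * x⁻¹ * g * t i) := by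
        intro i
        congr 2
        group
      rw [Finset.sum_congr rfl fun h _ => e h, ← Finset.mul_sum, hT]
      ring
  obtain ⟨χ, hχ, hsum⟩ := key
  refine ⟨χ, hχ, ?_, ?_⟩
  · by_contra hno
    have h2 := sum_coset_eq_zero χ H hno
    apply hκ0
    have h3 : ∀ h : H, ∑ g, φ g * (χ : G → ℂ) (g⁻¹ * h) = κ := by
      intro h
      rw [← hsum, ← Equiv.sum_comp (Equiv.mulLeft (h : G))]
      refine Finset.sum_congr rfl fun g _ => ?_
      simp only [Equiv.coe_mulLeft]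
      rw [hl h h.2]
      congr 2
      group
    have h4 : ∑ h : H, ∑ g, φ g * (χ : G → ℂ) (g⁻¹ * h) = (Nat.card H : ℂ) * κ := by
      rw [Finset.sum_congr rfl fun h _ => h3 h, Finset.sum_const, Finset.card_univ, nsmul_eq_mul,
        Nat.card_eq_fintype_card]
    rw [Finset.sum_comm] at h4
    have h5 : ∀ g, ∑ h : H, φ g * (χ : G → ℂ) (g⁻¹ * h) = 0 := by
      intro g
      rw [← Finset.mul_sum, h2, mul_zero]
    rw [Finset.sum_congr rfl fun g _ => h5 g, Finset.sum_const_zero] at h4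
    have hH : (Nat.card H : ℂ) ≠ 0 := by exact_mod_cast (Nat.card_pos (α := H)).ne'
    rcases mul_eq_zero.1 h4.symm with h6 | h6
    · exact absurd h6 hH
    · exact h6
  · intro hμ
    by_contra hno
    push Not at hno
    apply hκ0
    apply mul_left_cancel₀ hμ
    rw [mul_zero, ← hsum, Finset.mul_sum]
    have h2 : ∀ g, μ * (φ g * (χ : G → ℂ) g⁻¹) = ∑ i, φ (g * t i) * (χ : G → ℂ) g⁻¹ := by
      intro g
      rw [← mul_assoc, ← hT, Finset.sum_mul]
    rw [Finset.sum_congr rfl fun g _ => h2 g, Finset.sum_comm]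
    have h3 : ∀ i, ∑ g, φ (g * t i) * (χ : G → ℂ) g⁻¹ = ∑ g, φ g * (χ : G → ℂ) (g⁻¹ * t i) := by
      intro i
      rw [← Equiv.sum_comp (Equiv.mulRight (t i)) (fun g => φ g * (χ : G → ℂ) (g⁻¹ * t i))]
      refine Finset.sum_congr rfl fun g _ => ?_
      simp only [Equiv.coe_mulRight]
      congr 1
      have h4 := isIrr_isClassFunction χ.2 g⁻¹ (t i)⁻¹
      rw [← h4]
      congr 1
      group
    rw [Finset.sum_congr rfl fun i _ => h3 i, Finset.sum_comm]
    refine Finset.sum_eq_zero fun g _ => ?_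
    rw [← Finset.mul_sum, hno, mul_zero]

/-- **Irreducible characters from two subgroups.** -/
theorem exists_irr_of_two_fix [Finite G] (H C : Subgroup G) {m n : ℕ} (lX : G ⧸ H → Fin m)
    (lY : G ⧸ H → Fin n) (hX : ∀ x y, lX x = lX y ↔ ∃ h ∈ H, h • x = y)
    (hY : ∀ x y, lY x = lY y ↔ ∃ c ∈ C, c • x = y)
    (b : Fin m → ℕ) (cc : Fin n → ℕ) (X : Fin m → Fin n → ℕ)
    (hb : ∀ i, Nat.card {x // lX x = i} = b i) (hc : ∀ j, Nat.card {x // lY x = j} = cc j)
    (hXY : ∀ i j, Nat.card {x // lX x = i ∧ lY x = j} = X i j)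
    (hb0 : ∀ i, b i ≠ 0) (hc0 : ∀ j, cc j ≠ 0) (hbi : Function.Injective b)
    (i0 : Fin m) (hi0 : lX ((1 : G) : G ⧸ H) = i0)
    (A : Fin m → Fin m → ℚ) (s : ℚ) (hs : s ≠ 0)
    (hA : ∀ i i', (b i : ℚ) * A i i' = s * ∑ j, (X i j : ℚ) * X i' j / cc j)
    (v : Fin m → ℂ) (μ : ℂ) (hv0 : v i0 = 1)
    (hv : ∀ i, ∑ j, (A i j : ℂ) * v j = μ * v i)
    (hu : ∀ x : Fin m → ℂ, (∀ i, ∑ j, (A i j : ℂ) * x j = μ * x i) → ∀ i, x i = x i0 * v i)
    {K : ℂ} (hK : ∑ i, (b i : ℂ) * v i ^ 2 = K) (hK0 : K ≠ 0) :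
    ∃ χ : IrrCharacter G, (χ : G → ℂ) 1 * K = H.index ∧ Fix H (χ : G → ℂ) ∧
      (μ ≠ 0 → Fix C (χ : G → ℂ)) := by
  classical
  have := Fintype.ofFinite G
  have := Fintype.ofFinite H
  have := Fintype.ofFinite C
  have := Fintype.ofFinite (G ⧸ H)
  -- points
  let pt : G → G ⧸ H := fun x => ((x⁻¹ : G) : G ⧸ H)
  have hpts : ∀ g x : G, g • pt x = pt (x * g⁻¹) := by
    intro g x
    show g • ((x⁻¹ : G) : G ⧸ H) = (((x * g⁻¹)⁻¹ : G) : G ⧸ H)
    rw [mul_inv_rev, inv_inv]; rfl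
  have hptl : ∀ h ∈ H, ∀ g, pt (h * g) = pt g := by
    intro h hh g
    show (((h * g)⁻¹ : G) : G ⧸ H) = ((g⁻¹ : G) : G ⧸ H)
    rw [QuotientGroup.eq, inv_inv, mul_assoc, mul_inv_cancel, mul_one]
    exact hh
  have hptsurj : ∀ x : G ⧸ H, ∃ g, pt g = x := by
    intro x
    obtain ⟨y, rfl⟩ := QuotientGroup.mk_surjective x
    exact ⟨y⁻¹, by show (((y⁻¹)⁻¹ : G) : G ⧸ H) = _; rw [inv_inv]⟩
  -- sizes as finset cards
  have hbF : ∀ i, (Finset.univ.filter (fun x => lX x = i)).card = b i := by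
    intro i
    rw [← hb i, Nat.card_eq_fintype_card, Fintype.card_subtype]
  have hcF : ∀ j, (Finset.univ.filter (fun x => lY x = j)).card = cc j := by
    intro j
    rw [← hc j, Nat.card_eq_fintype_card, Fintype.card_subtype]
  have hXF : ∀ i j, (Finset.univ.filter (fun x => lX x = i ∧ lY x = j)).card = X i j := by
    intro i j
    rw [← hXY i j, Nat.card_eq_fintype_card, Fintype.card_subtype]
  have hbc : ∀ i, (b i : ℂ) ≠ 0 := fun i => by exact_mod_cast hb0 i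
  have hcc : ∀ j, (cc j : ℂ) ≠ 0 := fun j => by exact_mod_cast hc0 j
  -- representatives
  have hrep : ∀ i, ∃ g, lX (pt g) = i := by
    intro i
    have h1 : (Finset.univ.filter (fun x => lX x = i)).Nonempty := by
      rw [← Finset.card_pos, hbF]
      exact Nat.pos_of_ne_zero (hb0 i)
    obtain ⟨x, hx⟩ := h1
    obtain ⟨g, rfl⟩ := hptsurj x
    exact ⟨g, (Finset.mem_filter.1 hx).2⟩
  choose w0 hw0 using hrep
  -- the labels on the group
  have hlabl : ∀ h ∈ H, ∀ g, lX (pt (h * g)) = lX (pt g) := fun h hh g => by rw [hptl h hh]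
  have hlabr : ∀ h ∈ H, ∀ g, lX (pt (g * h)) = lX (pt g) := by
    intro h hh g
    rw [hX]
    exact ⟨h, hh, by rw [hpts, mul_inv_cancel_right]⟩
  have hdec : ∀ g g', lX (pt g) = lX (pt g') → ∃ a ∈ H, ∃ b ∈ H, g = a * g' * b := by
    intro g g' e
    obtain ⟨h, hh, e2⟩ := (hX _ _).1 e
    rw [hpts] at e2
    have e3 : (g * h⁻¹) * g'⁻¹ ∈ H := by
      have e4 : (((g * h⁻¹)⁻¹ : G) : G ⧸ H) = ((g'⁻¹ : G) : G ⧸ H) := e2
      rw [QuotientGroup.eq, inv_inv] at e4
      exact e4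
    exact ⟨_, e3, h, hh, by group⟩
  have hlab1 : lX (pt 1) = i0 := by
    rw [← hi0]
    show lX (((1⁻¹ : G)) : G ⧸ H) = _
    rw [inv_one]
  have hHpos : 0 < Nat.card H := Nat.card_pos
  have hHc : ((Nat.card H : ℕ) : ℂ) ≠ 0 := by exact_mod_cast hHpos.ne'
  have hCc : ((Nat.card C : ℕ) : ℂ) ≠ 0 := by exact_mod_cast (Nat.card_pos (α := C)).ne'
  -- the number of elements with given label
  have hcard : ∀ i, (Finset.univ.filter (fun g : G => lX (pt g) = i)).card = Nat.card H * b i := by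
    intro i
    have h1 : ∀ g ∈ Finset.univ.filter (fun g : G => lX (pt g) = i),
        pt g ∈ Finset.univ.filter (fun x => lX x = i) := by
      intro g hg
      rw [Finset.mem_filter] at hg ⊢
      exact ⟨Finset.mem_univ _, hg.2⟩
    rw [Finset.card_eq_sum_card_fiberwise h1, ← hbF i, mul_comm, ← smul_eq_mul,
      ← Finset.sum_const]
    refine Finset.sum_congr rfl fun x hx => ?_
    obtain ⟨g0, rfl⟩ := hptsurj x
    rw [Nat.card_eq_fintype_card, ← Finset.card_univ]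
    symm
    refine Finset.card_bij (fun (h : H) _ => (h : G) * g0) ?_ ?_ ?_
    · intro h _
      rw [Finset.mem_filter, Finset.mem_filter]
      refine ⟨⟨Finset.mem_univ _, ?_⟩, hptl h h.2 g0⟩
      rw [hlabl h h.2]
      exact (Finset.mem_filter.1 hx).2
    · intro h _ h' _ e
      exact Subtype.ext (mul_right_cancel e)
    · intro g hg
      rw [Finset.mem_filter] at hg
      have e4 : ((g⁻¹ : G) : G ⧸ H) = ((g0⁻¹ : G) : G ⧸ H) := hg.2
      rw [QuotientGroup.eq, inv_inv] at e4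
      exact ⟨⟨g * g0⁻¹, e4⟩, Finset.mem_univ _, inv_mul_cancel_right g g0⟩
  -- inverses
  have hlabi : ∀ g, lX (pt g⁻¹) = lX (pt g) := by
    have h1 : ∀ g g', lX (pt g) = lX (pt g') → lX (pt g⁻¹) = lX (pt g'⁻¹) := by
      intro g g' e
      obtain ⟨x, hx, y, hy, e2⟩ := hdec g g' e
      rw [e2, mul_inv_rev, mul_inv_rev, hlabl _ (H.inv_mem hy), hlabr _ (H.inv_mem hx)]
    intro g
    have h2 : (Finset.univ.filter (fun x : G => lX (pt x) = lX (pt g⁻¹))).card =
        (Finset.univ.filter (fun x : G => lX (pt x⁻¹) = lX (pt g⁻¹))).card := by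
      refine Finset.card_bij (fun x _ => x⁻¹) ?_ ?_ ?_
      · intro x hx
        rw [Finset.mem_filter] at hx ⊢
        exact ⟨Finset.mem_univ _, by rw [inv_inv]; exact hx.2⟩
      · intro x _ x' _ e
        exact inv_injective e
      · intro x hx
        rw [Finset.mem_filter] at hx
        exact ⟨x⁻¹, by rw [Finset.mem_filter]; exact ⟨Finset.mem_univ _, hx.2⟩, inv_inv x⟩
    have h3 : Finset.univ.filter (fun x : G => lX (pt x) = lX (pt g)) =
        Finset.univ.filter (fun x : G => lX (pt x⁻¹) = lX (pt g⁻¹)) := by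
      ext x
      rw [Finset.mem_filter, Finset.mem_filter]
      constructor
      · rintro ⟨-, hx⟩
        exact ⟨Finset.mem_univ _, h1 _ _ hx⟩
      · rintro ⟨-, hx⟩
        refine ⟨Finset.mem_univ _, ?_⟩
        have := h1 _ _ hx
        rwa [inv_inv, inv_inv] at this
    rw [← h3, hcard, hcard] at h2
    exact hbi (Nat.eq_of_mul_eq_mul_left hHpos h2)
  -- the operator
  have hop : ∀ f : G → ℂ, (∀ h ∈ H, ∀ g, f (h * g) = f g) → (∀ h ∈ H, ∀ g, f (g * h) = f g) →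
      ∀ g, ∑ p : H × C, f (g * ((p.1 : G) * p.2)) =
        ((Nat.card H : ℂ) * Nat.card C / (s : ℂ)) * ∑ i, (A (lX (pt g)) i : ℂ) * f (w0 i) := by
    intro f hl hr g
    -- the function on the cosets
    have hf : ∀ g, f g = f (w0 (lX (pt g))) := by
      intro g
      obtain ⟨x, hx, y, hy, e⟩ := hdec g (w0 (lX (pt g))) (hw0 _).symm
      nth_rewrite 1 [e]
      rw [hr y hy, hl x hx]
    let F : G ⧸ H → ℂ := fun x => f (w0 (lX x))
    have hF : ∀ g, f g = F (pt g) := hf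
    -- the average over `C`
    let E : G ⧸ H → ℂ := fun x => ∑ c : C, F ((c : G) • x)
    have hE : ∀ x, (cc (lY x) : ℂ) * E x = (Nat.card C : ℂ) * ∑ i, (X i (lY x) : ℂ) * f (w0 i) := by
      intro x
      have h1 := sum_label C lY hY F x
      rw [hcF] at h1
      rw [h1]
      congr 1
      rw [← Finset.sum_fiberwise (s := Finset.univ.filter (fun y => lY y = lY x))
        (g := fun y => lX y)]
      refine Finset.sum_congr rfl fun i _ => ?_
      rw [Finset.filter_filter]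
      have h2 : ∀ y ∈ Finset.univ.filter (fun y => lY y = lY x ∧ lX y = i), F y = f (w0 i) := by
        intro y hy
        show f (w0 (lX y)) = _
        rw [(Finset.mem_filter.1 hy).2.2]
      rw [Finset.sum_congr rfl h2, Finset.sum_const, nsmul_eq_mul, ← hXF i (lY x)]
      congr 3
      ext y
      simp only [Finset.mem_filter, and_comm]
    have hE' : ∀ x, E x = (Nat.card C : ℂ) / cc (lY x) * ∑ i, (X i (lY x) : ℂ) * f (w0 i) := by
      intro x
      have h1 := hcc (lY x)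
      rw [div_mul_eq_mul_div, eq_div_iff h1, mul_comm, hE]
    have h1 : ∑ p : H × C, f (g * ((p.1 : G) * p.2)) = ∑ h : H, E ((h : G) • pt g) := by
      rw [Fintype.sum_prod_type, ← Equiv.sum_comp (Equiv.inv H)]
      refine Finset.sum_congr rfl fun h _ => ?_
      show _ = ∑ c : C, F ((c : G) • (h : G) • pt g)
      rw [← Equiv.sum_comp (Equiv.inv C)]
      refine Finset.sum_congr rfl fun c _ => ?_
      rw [hF, hpts, hpts]
      congr 2
      simp [mul_assoc]
    rw [h1]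
    have h2 := sum_label H lX hX E (pt g)
    rw [hbF] at h2
    have h3 : ∑ y ∈ Finset.univ.filter (fun y => lX y = lX (pt g)), E y =
        (Nat.card C : ℂ) * ∑ i, (∑ j, (X (lX (pt g)) j : ℂ) * X i j / cc j) * f (w0 i) := by
      rw [← Finset.sum_fiberwise (s := Finset.univ.filter (fun y => lX y = lX (pt g)))
        (g := fun y => lY y)]
      have h4 : ∀ j, ∑ y ∈ (Finset.univ.filter (fun y => lX y = lX (pt g))).filter
          (fun y => lY y = j), E y = (X (lX (pt g)) j : ℂ) * ((Nat.card C : ℂ) / cc j *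
            ∑ i, (X i j : ℂ) * f (w0 i)) := by
        intro j
        rw [Finset.filter_filter]
        have h5 : ∀ y ∈ Finset.univ.filter (fun y => lX y = lX (pt g) ∧ lY y = j), E y =
            (Nat.card C : ℂ) / cc j * ∑ i, (X i j : ℂ) * f (w0 i) := by
          intro y hy
          rw [hE', (Finset.mem_filter.1 hy).2.2]
        rw [Finset.sum_congr rfl h5, Finset.sum_const, nsmul_eq_mul, hXF]
      rw [Finset.sum_congr rfl fun j _ => h4 j]
      simp only [Finset.mul_sum, Finset.sum_mul]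
      rw [Finset.sum_comm]
      refine Finset.sum_congr rfl fun i _ => Finset.sum_congr rfl fun j _ => ?_
      ring
    rw [h3] at h2
    have h6 : ∀ i, (b (lX (pt g)) : ℂ) * A (lX (pt g)) i =
        s * ∑ j, (X (lX (pt g)) j : ℂ) * X i j / cc j := by
      intro i
      have h7 := congrArg (fun q : ℚ => (q : ℂ)) (hA (lX (pt g)) i)
      push_cast at h7
      exact h7
    have hsc : (s : ℂ) ≠ 0 := by exact_mod_cast hs
    have hbg := hbc (lX (pt g))
    apply mul_left_cancel₀ hbg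
    rw [h2]
    have h8 : ∀ i, (∑ j, (X (lX (pt g)) j : ℂ) * X i j / cc j) * f (w0 i) =
        (b (lX (pt g)) : ℂ) / s * (A (lX (pt g)) i * f (w0 i)) := by
      intro i
      rw [div_mul_eq_mul_div, eq_div_iff hsc]
      linear_combination (-f (w0 i)) * h6 i
    rw [Finset.sum_congr rfl fun i _ => h8 i, ← Finset.mul_sum]
    field_simp
  have hNc : ((Nat.card H : ℂ) * Nat.card C / (s : ℂ)) ≠ 0 := by
    have hsc : (s : ℂ) ≠ 0 := by exact_mod_cast hs
    exact div_ne_zero (mul_ne_zero hHc hCc) hsc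
  have hκ : ∑ z : G, v (lX (pt z)) * v (lX (pt z⁻¹)) = (Nat.card H : ℂ) * K := by
    have h1 : ∀ z, v (lX (pt z)) * v (lX (pt z⁻¹)) = v (lX (pt z)) ^ 2 := by
      intro z
      rw [hlabi, sq]
    rw [Finset.sum_congr rfl fun z _ => h1 z]
    rw [← Finset.sum_fiberwise (s := Finset.univ) (g := fun z : G => lX (pt z)), ← hK,
      Finset.mul_sum]
    refine Finset.sum_congr rfl fun i _ => ?_
    have h2 : ∀ z ∈ Finset.univ.filter (fun z : G => lX (pt z) = i), v (lX (pt z)) ^ 2 =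
        v i ^ 2 := by
      intro z hz
      rw [(Finset.mem_filter.1 hz).2]
    rw [Finset.sum_congr rfl h2, Finset.sum_const, nsmul_eq_mul, hcard]
    push_cast
    ring
  have hmain := exists_irr_of_family_fix H (fun p : H × C => (p.1 : G) * p.2)
    (φ := fun g => v (lX (pt g)))
    (μ := ((Nat.card H : ℂ) * Nat.card C / (s : ℂ)) * μ) (κ := (Nat.card H : ℂ) * K)
    ?_ ?_ ?_ ?_ ?_ hκ (mul_ne_zero hHc hK0)
  · obtain ⟨χ, hχ, hH, hC⟩ := hmain
    refine ⟨χ, ?_, hH, fun hμ => ?_⟩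
    · have h1 := H.card_mul_index
      have h2 : ((Nat.card H : ℕ) : ℂ) * H.index = Nat.card G := by exact_mod_cast h1
      rw [← h2] at hχ
      apply mul_left_cancel₀ hHc
      rw [← hχ]
      ring
    · obtain ⟨x, hx⟩ := hC (mul_ne_zero hNc hμ)
      by_contra hno
      apply hx
      rw [Fintype.sum_prod_type]
      refine Finset.sum_eq_zero fun h _ => ?_
      rw [← sum_coset_eq_zero χ C hno (x * h)]
      refine Finset.sum_congr rfl fun c _ => ?_
      rw [mul_assoc]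
  · intro h hh g
    show v (lX (pt (h * g))) = v (lX (pt g))
    rw [hlabl h hh]
  · intro h hh g
    show v (lX (pt (g * h))) = v (lX (pt g))
    rw [hlabr h hh]
  · show v (lX (pt 1)) = 1
    rw [hlab1, hv0]
  · intro g
    rw [hop (fun g => v (lX (pt g))) (fun h hh g => by
      show v (lX (pt (h * g))) = v (lX (pt g))
      rw [hlabl h hh]) (fun h hh g => by
      show v (lX (pt (g * h))) = v (lX (pt g))
      rw [hlabr h hh])]
    rw [mul_assoc _ μ, ← hv (lX (pt g))]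
    congr 1
    exact Finset.sum_congr rfl fun j _ => by rw [hw0]
  · intro f hl hr hT g
    have hf : ∀ g, f g = f (w0 (lX (pt g))) := by
      intro g
      obtain ⟨x, hx, y, hy, e⟩ := hdec g (w0 (lX (pt g))) (hw0 _).symm
      nth_rewrite 1 [e]
      rw [hr y hy, hl x hx]
    have h1 := hu (fun i => f (w0 i)) (fun i => by
      have h2 := hT (w0 i)
      rw [hop f hl hr, hw0, mul_assoc _ μ] at h2
      exact mul_left_cancel₀ hNc h2) (lX (pt g))
    show f g = f 1 * v (lX (pt g))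
    rw [hf g, h1, hf 1, hlab1]

end Cfsg.Agent.H492.SphFix
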