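import Mathlib.GroupTheory.Sylow

/-!
# Sylow subgroups that are TI sets
-/

set_option autoImplicit false
open scoped Pointwise

namespace Cfsg.Agent.H492

universe u v

variable {G : Type u} [Group G]

/-- A Sylow subgroup is a TI set iff different Sylow subgroups meet trivially. -/
theorem sylow_ti_iff [Finite G] (p : ℕ) [Fact p.Prime] (P : Sylow p G) :
    (∀ g : G, g ∉ Subgroup.normalizer ((P : Subgroup G) : Set G) →
      (P : Subgroup G) ⊓ (MulAut.conj g • (P : Subgroup G)) = ⊥) ↔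
    ∀ P₁ P₂ : Sylow p G, P₁ ≠ P₂ → (P₁ : Subgroup G) ⊓ (P₂ : Subgroup G) = ⊥ := by
  constructor
  · intro h P₁ P₂ hne
    obtain ⟨a, rfl⟩ := MulAction.exists_smul_eq G P P₁
    obtain ⟨b, rfl⟩ := MulAction.exists_smul_eq G P P₂
    have hn : a⁻¹ * b ∉ Subgroup.normalizer ((P : Subgroup G) : Set G) := by
      intro hmem
      have := (Sylow.smul_eq_iff_mem_normalizer (P := P)).2 hmem
      apply hne
      rw [mul_smul, inv_smul_eq_iff] at this
      exact this.symm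
    have h1 := h _ hn
    rw [eq_bot_iff]
    intro x hx
    have hx1 : (a⁻¹ * x * a) ∈ (P : Subgroup G) := by
      have : x ∈ ((a • P : Sylow p G) : Subgroup G) := hx.1
      rw [Sylow.coe_subgroup_smul, Subgroup.mem_pointwise_smul_iff_inv_smul_mem] at this
      simpa [MulAut.smul_def] using this
    have hx2 : (b⁻¹ * x * b) ∈ (P : Subgroup G) := by
      have : x ∈ ((b • P : Sylow p G) : Subgroup G) := hx.2
      rw [Sylow.coe_subgroup_smul, Subgroup.mem_pointwise_smul_iff_inv_smul_mem] at this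
      simpa [MulAut.smul_def] using this
    have h3 : (a⁻¹ * x * a) ∈ (P : Subgroup G) ⊓ (MulAut.conj (a⁻¹ * b) • (P : Subgroup G)) := by
      refine ⟨hx1, ?_⟩
      change (a⁻¹ * x * a) ∈ (MulAut.conj (a⁻¹ * b) • (P : Subgroup G))
      rw [Subgroup.mem_pointwise_smul_iff_inv_smul_mem]
      have : (MulAut.conj (a⁻¹ * b))⁻¹ • (a⁻¹ * x * a) = b⁻¹ * x * b := by
        rw [← map_inv, MulAut.smul_def, MulAut.conj_apply]; group
      rw [this]; exact hx2
    rw [h1, Subgroup.mem_bot] at h3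
    rw [Subgroup.mem_bot]
    have : x = a * (a⁻¹ * x * a) * a⁻¹ := by group
    rw [this, h3]; group
  · intro h g hg
    have hne : P ≠ g • P := by
      intro heq
      exact hg ((Sylow.smul_eq_iff_mem_normalizer (P := P)).1 heq.symm)
    have := h _ _ hne
    rwa [Sylow.coe_subgroup_smul] at this

/-- The TI property passes to subgroups. -/
theorem sylow_ti_subgroup (p : ℕ) [Fact p.Prime]
    (h : ∀ P₁ P₂ : Sylow p G, P₁ ≠ P₂ → (P₁ : Subgroup G) ⊓ (P₂ : Subgroup G) = ⊥)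
    (U : Subgroup G) :
    ∀ P₁ P₂ : Sylow p U, P₁ ≠ P₂ → (P₁ : Subgroup U) ⊓ (P₂ : Subgroup U) = ⊥ := by
  intro P₁ P₂ hne
  obtain ⟨Q₁, hQ₁⟩ := Sylow.exists_comap_subtype_eq P₁
  obtain ⟨Q₂, hQ₂⟩ := Sylow.exists_comap_subtype_eq P₂
  have hne' : Q₁ ≠ Q₂ := by
    rintro rfl
    apply hne
    apply Sylow.ext
    rw [← hQ₁, ← hQ₂]
  rw [← hQ₁, ← hQ₂, ← Subgroup.comap_inf, h _ _ hne', MonoidHom.comap_bot, Subgroup.ker_subtype]

/-- The TI property passes to quotients. -/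
theorem sylow_ti_quotient [Finite G] (p : ℕ) [Fact p.Prime]
    (h : ∀ P₁ P₂ : Sylow p G, P₁ ≠ P₂ → (P₁ : Subgroup G) ⊓ (P₂ : Subgroup G) = ⊥)
    {H : Type v} [Group H] (f : G →* H) (hf : Function.Surjective f) :
    ∀ P₁ P₂ : Sylow p H, P₁ ≠ P₂ → (P₁ : Subgroup H) ⊓ (P₂ : Subgroup H) = ⊥ := by
  intro P₁ P₂ hne
  obtain ⟨Q₁, hQ₁⟩ := Sylow.mapSurjective_surjective hf p P₁
  obtain ⟨Q₂, hQ₂⟩ := Sylow.mapSurjective_surjective hf p P₂
  by_contra hcon
  obtain ⟨x, hx, hx1⟩ : ∃ y : H, y ∈ (P₁ : Subgroup H) ⊓ (P₂ : Subgroup H) ∧ y ≠ 1 := by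
    obtain ⟨a, ha⟩ := Subgroup.ne_bot_iff_exists_ne_one.1 hcon
    exact ⟨a, a.2, fun h' => ha (Subtype.ext h')⟩
  obtain ⟨hxa, hxb⟩ := hx
  have hxa' : x ∈ (Q₁ : Subgroup G).map f := by
    rw [← Sylow.coe_mapSurjective hf, hQ₁]; exact hxa
  obtain ⟨a, ha, rfl⟩ := hxa'
  -- the preimage of `P₂`
  let H₂ : Subgroup G := (P₂ : Subgroup H).comap f
  have hQ₂H : (Q₂ : Subgroup G) ≤ H₂ := by
    intro y hy
    change f y ∈ (P₂ : Subgroup H)
    rw [← hQ₂, Sylow.coe_mapSurjective]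
    exact ⟨y, hy, rfl⟩
  have haH : a ∈ H₂ := hxb
  have hap : IsPGroup p (Subgroup.zpowers (⟨a, haH⟩ : H₂)) := by
    intro ⟨y, hy⟩
    obtain ⟨k, hk⟩ := Q₁.isPGroup' (⟨(y : G), by
      obtain ⟨n, rfl⟩ := hy
      change ((⟨a, haH⟩ : H₂) ^ n : H₂).1 ∈ (Q₁ : Subgroup G)
      rw [Subgroup.coe_zpow]
      exact (Q₁ : Subgroup G).zpow_mem ha n⟩ : (Q₁ : Subgroup G))
    refine ⟨k, ?_⟩
    apply Subtype.ext
    apply Subtype.ext
    simpa using congrArg Subtype.val hk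
  obtain ⟨R, hR⟩ := hap.exists_le_sylow
  obtain ⟨c, hc⟩ := MulAction.exists_smul_eq H₂ (Q₂.subtype hQ₂H) R
  rw [Sylow.smul_subtype] at hc
  have hmem : a ∈ ((c : G) • Q₂ : Sylow p G) := by
    have h1 : (⟨a, haH⟩ : H₂) ∈ R := hR (Subgroup.mem_zpowers _)
    rw [← hc] at h1
    exact h1
  have hQ : Q₁ = (c : G) • Q₂ := by
    by_contra hne'
    have h1 := h _ _ hne'
    have h2 : a ∈ (Q₁ : Subgroup G) ⊓ (((c : G) • Q₂ : Sylow p G) : Subgroup G) := ⟨ha, hmem⟩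
    rw [h1, Subgroup.mem_bot] at h2
    exact hx1 (by rw [h2, map_one])
  apply hne
  have h3 : P₁ = f c • P₂ := by
    rw [← hQ₁, ← hQ₂, hQ]
    apply Sylow.ext
    rw [Sylow.coe_mapSurjective, Sylow.coe_subgroup_smul, Sylow.coe_subgroup_smul,
      Sylow.coe_mapSurjective]
    ext y
    constructor
    · rintro ⟨z, hz, rfl⟩
      rw [SetLike.mem_coe, Subgroup.mem_pointwise_smul_iff_inv_smul_mem] at hz
      rw [Subgroup.mem_pointwise_smul_iff_inv_smul_mem]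
      refine ⟨_, hz, ?_⟩
      rw [← map_inv, ← map_inv, MulAut.smul_def, MulAut.smul_def, MulAut.conj_apply,
        MulAut.conj_apply]
      simp
    · intro hy
      rw [Subgroup.mem_pointwise_smul_iff_inv_smul_mem] at hy
      obtain ⟨z, hz, hzy⟩ := hy
      refine ⟨MulAut.conj (c : G) • z, ?_, ?_⟩
      · exact Subgroup.smul_mem_pointwise_smul _ _ _ hz
      · rw [← map_inv, MulAut.smul_def, MulAut.conj_apply] at hzy
        rw [MulAut.smul_def, MulAut.conj_apply, map_mul, map_mul, hzy]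
        simp; group
  rw [h3, Sylow.smul_eq_iff_mem_normalizer]
  exact Subgroup.le_normalizer c.2

end Cfsg.Agent.H492
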