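import Cfsg.Agent.H492.SphFix
import Cfsg.Agent.H492.FactsTh

/-!
# A character of the Thompson group of degree 61256 with a vector fixed by `C(t)` (helper492)

`t` an involution; `C(t)` has odd index. The character is a constituent of the permutation
character on the cosets of `3D4(2):3`, and the eigenvalue of `e_K e_C` is not zero.
-/

set_option autoImplicit false
set_option linter.style.longLine false

open Cfsg

noncomputable section

namespace Cfsg.Agent.H492.ThFix

open Cfsg.Agent.H492.ThOrb Cfsg.Agent.H492.FactsTh Cfsg.Agent.Th.Word Cfsg.Agent.Th.KOracle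
  Cfsg.Agent.Th.COracleDef Cfsg.Agent.Th.IndexUpper Cfsg.Agent.H625.SylConst

universe u

theorem main_fix (v : Fin 11 → ℂ) (μ κ : ℂ) (hv0 : v 0 = 1)
    (hv : ∀ i, ∑ j, (AA i j : ℂ) * v j = μ * v i)
    (hu : ∀ x : Fin 11 → ℂ, (∀ i, ∑ j, (AA i j : ℂ) * x j = μ * x i) → ∀ i, x i = x 0 * v i)
    (hκ : ∑ i, (bb i : ℂ) * v i ^ 2 = κ) (hκ0 : κ ≠ 0) :
    ∃ χ : IrrCharacter Cfsg.Spor.Th, (χ : Cfsg.Spor.Th → ℂ) 1 * κ = 143127000 ∧
      Fix (sub gTh isK) (χ : Cfsg.Spor.Th → ℂ) ∧
      (μ ≠ 0 → Fix (sub gTh isC) (χ : Cfsg.Spor.Th → ℂ)) := by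
  obtain ⟨hf, -, -, hind⟩ := Cfsg.Agent.Th.Main1700.final
  obtain ⟨g, hcx⟩ := Cfsg.Agent.Th.Main475.exists_cx
  obtain ⟨lX, lY, hX, hY, hb, hc, hXY, h1⟩ := part hcx hind
  have hcast : ∀ i j, ((((AA i j : ℕ) : ℚ) : ℂ)) = (AA i j : ℂ) := fun i j => Rat.cast_natCast _
  obtain ⟨χ, hχ, hK, hC⟩ := Cfsg.Agent.H492.SphFix.exists_irr_of_two_fix (sub gTh isK) (sub gTh isC)
    lX lY hX hY
    bb cc XX hb hc hXY bb_ne cc_ne bb_inj 0 h1 (fun i j => (AA i j : ℚ)) 98280 (by norm_num) hA
    v μ hv0 (fun i => by rw [← hv i]; exact Finset.sum_congr rfl fun j _ => by rw [hcast])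
    (fun x hx => hu x fun i => by
      rw [← hx i]; exact Finset.sum_congr rfl fun j _ => by rw [hcast]) hκ hκ0
  refine ⟨χ, ?_, hK, hC⟩
  rw [hχ, hind]
  norm_num

theorem exists_61256_fix :
    ∃ χ : IrrCharacter Cfsg.Spor.Th, (χ : Cfsg.Spor.Th → ℂ) 1 = (61256 : ℕ) ∧
      Fix (sub gTh isC) (χ : Cfsg.Spor.Th → ℂ) := by
  obtain ⟨e0, e1, e2, e3, e4, e5, e6, e7, e8, e9, e10⟩ := vE_eq
  have key := main_fix vE (7560) (30375/13) e0 ?_ ?_ ?_ (by norm_num)
  · obtain ⟨χ, hχ, -, hC⟩ := key
    refine ⟨χ, ?_, hC (by norm_num)⟩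
    push_cast
    linear_combination (13/30375) * hχ
  · intro i
    fin_cases i
    · show ∑ j, (AA 0 j : ℂ) * vE j = (7560) * vE 0
      rw [row0, e0, e1, e2, e3, e4, e5, e6, e7, e8, e9, e10]
      norm_num
    · show ∑ j, (AA 1 j : ℂ) * vE j = (7560) * vE 1
      rw [row1, e0, e1, e2, e3, e4, e5, e6, e7, e8, e9, e10]
      norm_num
    · show ∑ j, (AA 2 j : ℂ) * vE j = (7560) * vE 2
      rw [row2, e0, e1, e2, e3, e4, e5, e6, e7, e8, e9, e10]
      norm_num
    · show ∑ j, (AA 3 j : ℂ) * vE j = (7560) * vE 3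
      rw [row3, e0, e1, e2, e3, e4, e5, e6, e7, e8, e9, e10]
      norm_num
    · show ∑ j, (AA 4 j : ℂ) * vE j = (7560) * vE 4
      rw [row4, e0, e1, e2, e3, e4, e5, e6, e7, e8, e9, e10]
      norm_num
    · show ∑ j, (AA 5 j : ℂ) * vE j = (7560) * vE 5
      rw [row5, e0, e1, e2, e3, e4, e5, e6, e7, e8, e9, e10]
      norm_num
    · show ∑ j, (AA 6 j : ℂ) * vE j = (7560) * vE 6
      rw [row6, e0, e1, e2, e3, e4, e5, e6, e7, e8, e9, e10]
      norm_num
    · show ∑ j, (AA 7 j : ℂ) * vE j = (7560) * vE 7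
      rw [row7, e0, e1, e2, e3, e4, e5, e6, e7, e8, e9, e10]
      norm_num
    · show ∑ j, (AA 8 j : ℂ) * vE j = (7560) * vE 8
      rw [row8, e0, e1, e2, e3, e4, e5, e6, e7, e8, e9, e10]
      norm_num
    · show ∑ j, (AA 9 j : ℂ) * vE j = (7560) * vE 9
      rw [row9, e0, e1, e2, e3, e4, e5, e6, e7, e8, e9, e10]
      norm_num
    · show ∑ j, (AA 10 j : ℂ) * vE j = (7560) * vE 10
      rw [row10, e0, e1, e2, e3, e4, e5, e6, e7, e8, e9, e10]
      norm_num
  · intro x hx
    have h0 := hx 0
    rw [row0] at h0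
    have h1 := hx 1
    rw [row1] at h1
    have h2 := hx 2
    rw [row2] at h2
    have h3 := hx 3
    rw [row3] at h3
    have h4 := hx 4
    rw [row4] at h4
    have h5 := hx 5
    rw [row5] at h5
    have h6 := hx 6
    rw [row6] at h6
    have h7 := hx 7
    rw [row7] at h7
    have h8 := hx 8
    rw [row8] at h8
    have h9 := hx 9
    rw [row9] at h9
    have h10 := hx 10
    rw [row10] at h10
    intro i
    fin_cases i
    · show x 0 = x 0 * vE 0
      rw [e0]
      ring
    · show x 1 = x 0 * vE 1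
      rw [e1]
      linear_combination (824385959/91745244864000) * h0 + (-223241/2800526400) * h1 + (879883/12446784000) * h2 + (599/7203000) * h3 + (343229/7876480500) * h4 + (1013/680683500) * h5 + (-14863/194481000) * h6 + (-901/19448100) * h7 + (-9874/218791125) * h8 + (4867/97240500) * h9
    · show x 2 = x 0 * vE 2
      rw [e2]
      linear_combination (1175990041/103213400472000) * h0 + (223241/3150592200) * h1 + (-879883/14002632000) * h2 + (-599/8103375) * h3 + (-686458/17722081125) * h4 + (-2026/1531537875) * h5 + (14863/218791125) * h6 + (1802/43758225) * h7 + (78992/1969120125) * h8 + (-9734/218791125) * h9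
    · show x 3 = x 0 * vE 3
      rw [e3]
      linear_combination (3381243923/3302828815104000) * h0 + (915553/100818950400) * h1 + (3559351/448084224000) * h2 + (-7537/43218000) * h3 + (-472181/141776649000) * h4 + (-47057/12252303000) * h5 + (373657/3500658000) * h6 + (23509/350065800) * h7 + (246961/3938240250) * h8 + (-108763/1750329000) * h9
    · show x 4 = x 0 * vE 4
      rw [e4]
      linear_combination (29033611/15533586432000) * h0 + (8081/474163200) * h1 + (11269/702464000) * h2 + (1/171500) * h3 + (-48521/333396000) * h4 + (19/14406000) * h5 + (1399/16464000) * h6 + (13/274400) * h7 + (1879/37044000) * h8 + (-283/4116000) * h9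
    · show x 5 = x 0 * vE 5
      rw [e5]
      linear_combination (-120867899/33702334848000) * h0 + (-282467/8230118400) * h1 + (-78269/2286144000) * h2 + (-12197/127008000) * h3 + (-909779/46294416000) * h4 + (-699863/4000752000) * h5 + (65713/1143072000) * h6 + (13051/114307200) * h7 + (93587/642978000) * h8 + (32483/571536000) * h9
    · show x 6 = x 0 * vE 6
      rw [e6]
      linear_combination (-16920410233/13211315260416000) * h0 + (-633211/50409475200) * h1 + (-21399821/1792336896000) * h2 + (64997/6223392000) * h3 + (7954879/2268426384000) * h4 + (159763/196036848000) * h5 + (-12777413/56010528000) * h6 + (-211031/5601052800) * h7 + (-1091137/31505922000) * h8 + (9033617/28005264000) * h9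
    · show x 7 = x 0 * vE 7
      rw [e7]
      linear_combination (675356371/3774661502976000) * h0 + (24011/115221657600) * h1 + (675527/512096256000) * h2 + (22943/889056000) * h3 + (2342701/324060912000) * h4 + (162397/28005264000) * h5 + (-293597/8001504000) * h6 + (-146549/800150400) * h7 + (-488081/9001692000) * h8 + (978323/4000752000) * h9
    · show x 8 = x 0 * vE 8
      rw [e8]
      linear_combination (2104479799/2935847835648000) * h0 + (991033/179233689600) * h1 + (2505863/398297088000) * h2 + (40993/2765952000) * h3 + (4232551/1008189504000) * h4 + (361747/87127488000) * h5 + (104203/24893568000) * h6 + (-40559/2489356800) * h7 + (-2128153/14002632000) * h8 + (1734473/12446784000) * h9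
    · show x 9 = x 0 * vE 9
      rw [e9]
      linear_combination (-422983157/3302828815104000) * h0 + (-1890337/1613103206400) * h1 + (-1078643/896168448000) * h2 + (-23189/8297856000) * h3 + (-14725369/9073705536000) * h4 + (19907/784147392000) * h5 + (5883443/224042112000) * h6 + (224561/22404211200) * h7 + (1502857/126023688000) * h8 + (-3392087/112021056000) * h9
    · show x 10 = x 0 * vE 10
      rw [e10]
      linear_combination (2709891979/2032510040064000) * h0 + (26183449/1613103206400) * h1 + (51134399/3584673792000) * h2 + (2720467/74680704000) * h3 + (277425223/9073705536000) * h4 + (-4085069/784147392000) * h5 + (-21886181/224042112000) * h6 + (564433/22404211200) * h7 + (14462831/126023688000) * h8 + (-13998871/112021056000) * h9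
  · rw [sum_bb (fun i => vE i ^ 2), e0, e1, e2, e3, e4, e5, e6, e7, e8, e9, e10]
    norm_num

end Cfsg.Agent.H492.ThFix
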