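import Cfsg.Agent.H492.ThOrb

/-!
# The lines of the geometry of the Thompson group: data (helper492)

* `kap` : for the 13 orbits of `3D4(2):3` on the lines (cosets of `C = 2^(1+8).A9`), the labels of the 120 points
  of the line; `KP_gl`, `KP_st` : they are compatible with the certificate;
* `OT`, `OW` : the 56 points of the base line in the orbit of length 45864, and words;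
* `LQ` : for each flag the labels of its 56 neighbours;
* `TT` : the intersection matrix of the orbital of length 45864.
-/

set_option autoImplicit false
set_option maxRecDepth 100000
set_option linter.style.longLine false

namespace Cfsg.Agent.H492.ThLineData

open Cfsg.Agent.Th.Word Cfsg.Agent.Th.KOracle Cfsg.Agent.Th.COracleDef Cfsg.Agent.Th.FactData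
open Cfsg.Agent.Th.FlagData Cfsg.Agent.Th.FlagCover Cfsg.Agent.Th.CoverData
open Cfsg.Agent.Th.PathCover (unl)
open Cfsg.Agent.H492.ThOrb

/-- `tr act (iw w)` -/
def tri (act : ℕ → ℕ → ℕ) (w : List ℕ) (q : ℕ) : ℕ := List.rec q (fun x _ ih => act (invL x) ih) w

theorem tri_eq (act : ℕ → ℕ → ℕ) (w : List ℕ) (q : ℕ) : tri act w q = tr act (iw w) q := by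
  induction w with
  | nil => rfl
  | cons x w ih =>
    rw [iw_cons, tr_append]
    show act (invL x) (tri act w q) = _
    rw [ih]
    rfl

/-- the labels of the points of the lines -/
def kap : List (List ℕ) := [
  [0, 2, 2, 1, 1, 2, 2, 2, 2, 2, 2, 2, 2, 2, 2, 2, 2, 2, 2, 2, 2, 2, 2, 2, 2, 2, 2, 2, 2, 2, 2, 2, 2, 2, 2, 2, 2, 2, 2, 1, 1, 1, 2, 2, 1, 1, 1, 1, 1, 2, 1, 1, 1, 1, 1, 1, 1, 1, 1, 1, 1, 1, 1, 1, 1, 1, 1, 1, 1, 1, 1, 1, 1, 1, 1, 1, 1, 1, 1, 1, 2, 1, 2, 1, 2, 2, 1, 1, 1, 1, 1, 1, 1, 1, 1, 2, 2, 1, 1, 2, 2, 2, 2, 1, 2, 2, 2, 2, 2, 2, 2, 2, 2, 2, 1, 2, 1, 2, 2, 2],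
  [1, 2, 2, 1, 1, 1, 1, 2, 2, 1, 2, 3, 3, 3, 3, 3, 3, 2, 3, 3, 2, 3, 3, 3, 3, 3, 3, 3, 2, 3, 3, 3, 3, 3, 3, 3, 3, 2, 3, 3, 3, 3, 3, 3, 3, 3, 3, 3, 3, 3, 3, 3, 3, 3, 3, 3, 3, 3, 3, 3, 1, 3, 3, 1, 3, 3, 1, 3, 3, 3, 3, 1, 3, 3, 3, 3, 3, 3, 3, 3, 3, 3, 3, 3, 3, 3, 3, 3, 3, 3, 3, 3, 3, 3, 3, 3, 3, 3, 3, 3, 3, 3, 3, 1, 3, 3, 2, 3, 2, 3, 3, 2, 3, 3, 3, 3, 1, 3, 3, 3],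
  [1, 7, 2, 4, 4, 9, 9, 10, 10, 9, 10, 3, 3, 3, 7, 9, 9, 7, 3, 7, 9, 9, 10, 10, 9, 10, 10, 7, 9, 9, 3, 3, 10, 10, 9, 10, 10, 10, 7, 9, 9, 8, 9, 10, 9, 8, 9, 9, 8, 10, 9, 8, 9, 8, 8, 9, 8, 9, 8, 8, 8, 4, 8, 8, 9, 4, 8, 8, 9, 4, 9, 8, 8, 9, 9, 8, 9, 9, 8, 9, 9, 8, 7, 4, 9, 10, 9, 8, 8, 9, 9, 9, 9, 9, 4, 10, 10, 8, 4, 7, 10, 10, 10, 8, 9, 9, 10, 9, 9, 10, 9, 10, 10, 9, 9, 9, 8, 9, 9, 9],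
  [3, 3, 9, 9, 9, 3, 3, 3, 3, 3, 3, 9, 9, 5, 5, 9, 9, 9, 9, 9, 9, 9, 9, 9, 5, 5, 9, 9, 9, 9, 9, 9, 9, 9, 9, 9, 9, 9, 9, 9, 9, 9, 9, 9, 9, 9, 9, 9, 9, 9, 9, 6, 9, 9, 9, 9, 9, 9, 9, 9, 9, 9, 9, 9, 9, 9, 9, 9, 9, 9, 9, 9, 9, 9, 9, 6, 9, 9, 6, 9, 9, 9, 9, 9, 9, 9, 9, 6, 9, 9, 6, 6, 6, 6, 9, 9, 9, 9, 9, 9, 5, 9, 9, 9, 5, 5, 9, 9, 9, 9, 9, 9, 5, 9, 9, 9, 9, 9, 9, 9],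
  [1, 7, 7, 4, 1, 9, 9, 10, 10, 9, 10, 9, 10, 9, 10, 10, 9, 7, 9, 10, 10, 10, 10, 9, 9, 10, 9, 10, 10, 9, 10, 10, 9, 9, 7, 10, 9, 10, 10, 9, 9, 8, 10, 9, 9, 9, 8, 8, 9, 10, 9, 9, 9, 9, 8, 9, 8, 8, 8, 8, 9, 9, 8, 8, 8, 8, 8, 9, 8, 8, 9, 9, 9, 9, 8, 9, 8, 8, 8, 8, 9, 9, 10, 9, 7, 9, 9, 8, 8, 9, 8, 9, 9, 8, 8, 10, 10, 9, 9, 10, 9, 9, 9, 8, 7, 7, 10, 9, 10, 9, 9, 10, 9, 9, 8, 9, 9, 7, 7, 9],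
  [4, 7, 7, 4, 4, 8, 8, 10, 10, 8, 10, 9, 9, 9, 9, 9, 9, 7, 9, 9, 10, 9, 9, 9, 9, 9, 9, 9, 10, 9, 9, 9, 9, 9, 6, 9, 9, 10, 9, 9, 9, 9, 9, 9, 9, 9, 9, 9, 9, 9, 9, 9, 9, 9, 9, 9, 9, 9, 9, 9, 8, 9, 9, 8, 9, 9, 8, 9, 9, 9, 9, 8, 9, 9, 9, 9, 9, 9, 9, 9, 9, 9, 9, 9, 6, 9, 9, 9, 9, 9, 9, 9, 9, 9, 9, 9, 9, 9, 9, 9, 9, 9, 9, 8, 6, 6, 10, 9, 10, 9, 9, 10, 9, 9, 9, 9, 8, 6, 6, 9],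
  [5, 6, 9, 9, 9, 9, 9, 9, 9, 9, 9, 9, 9, 9, 9, 6, 9, 9, 9, 9, 9, 9, 6, 9, 9, 9, 6, 6, 9, 9, 6, 9, 6, 6, 9, 9, 9, 9, 9, 9, 9, 9, 6, 6, 9, 9, 6, 6, 9, 6, 9, 6, 9, 6, 9, 9, 9, 9, 6, 6, 9, 9, 9, 9, 9, 9, 9, 6, 9, 9, 9, 9, 9, 6, 9, 9, 9, 9, 6, 9, 9, 9, 6, 9, 9, 9, 6, 9, 9, 9, 6, 6, 9, 9, 9, 9, 9, 9, 9, 6, 9, 9, 9, 6, 6, 6, 9, 9, 6, 6, 6, 6, 9, 6, 9, 9, 6, 9, 9, 6],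
  [5, 6, 9, 9, 9, 9, 9, 9, 9, 9, 9, 9, 9, 9, 6, 9, 9, 9, 6, 9, 9, 9, 9, 9, 9, 6, 9, 9, 9, 6, 9, 9, 9, 9, 6, 9, 9, 9, 9, 9, 9, 9, 9, 9, 9, 9, 9, 9, 9, 9, 9, 9, 9, 9, 9, 9, 9, 9, 9, 9, 9, 9, 9, 9, 9, 9, 9, 9, 9, 9, 9, 9, 9, 9, 9, 9, 9, 9, 9, 9, 9, 9, 9, 9, 9, 9, 9, 9, 9, 9, 9, 9, 9, 9, 9, 9, 9, 9, 9, 9, 9, 9, 9, 6, 9, 9, 9, 9, 3, 9, 9, 3, 9, 9, 9, 9, 6, 9, 6, 9],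
  [3, 9, 9, 9, 9, 9, 8, 9, 9, 6, 7, 7, 9, 9, 9, 9, 9, 9, 9, 8, 9, 9, 6, 6, 9, 9, 9, 9, 6, 9, 6, 8, 8, 9, 3, 9, 9, 10, 8, 9, 9, 9, 9, 9, 9, 9, 10, 8, 9, 6, 6, 9, 8, 9, 9, 9, 9, 9, 9, 7, 9, 9, 9, 9, 9, 10, 9, 6, 9, 9, 8, 8, 9, 9, 9, 9, 9, 6, 8, 9, 6, 9, 6, 7, 9, 10, 9, 9, 9, 10, 6, 7, 9, 9, 6, 6, 9, 9, 9, 9, 6, 9, 9, 8, 9, 9, 6, 9, 7, 9, 8, 9, 9, 9, 9, 9, 9, 9, 9, 10],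
  [4, 9, 8, 9, 9, 8, 10, 9, 3, 10, 9, 9, 10, 3, 9, 10, 9, 9, 10, 9, 8, 9, 9, 9, 9, 3, 9, 9, 10, 10, 9, 9, 9, 9, 9, 9, 9, 9, 9, 9, 9, 9, 9, 9, 8, 9, 8, 9, 9, 9, 9, 9, 8, 9, 9, 8, 9, 8, 9, 9, 9, 3, 9, 9, 8, 9, 9, 9, 9, 9, 9, 9, 9, 8, 3, 9, 9, 9, 9, 4, 9, 9, 9, 9, 10, 9, 9, 9, 9, 9, 9, 9, 9, 9, 9, 9, 9, 9, 3, 9, 9, 9, 9, 9, 9, 9, 9, 9, 10, 9, 9, 9, 9, 10, 9, 10, 9, 10, 9, 9],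
  [6, 9, 9, 8, 10, 9, 9, 9, 9, 9, 9, 9, 9, 9, 9, 9, 9, 9, 6, 9, 9, 9, 9, 9, 9, 9, 6, 9, 9, 9, 9, 9, 9, 9, 9, 9, 9, 6, 9, 9, 8, 10, 9, 9, 9, 9, 4, 10, 9, 9, 9, 8, 9, 8, 9, 4, 9, 9, 7, 9, 9, 8, 6, 9, 10, 9, 9, 9, 9, 10, 9, 9, 6, 10, 7, 9, 9, 9, 10, 9, 9, 9, 9, 9, 9, 9, 8, 9, 9, 8, 7, 8, 9, 9, 9, 9, 9, 4, 9, 9, 9, 9, 9, 10, 9, 9, 9, 9, 9, 9, 9, 9, 9, 9, 10, 9, 8, 9, 9, 9],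
  [4, 9, 9, 9, 7, 7, 10, 9, 9, 8, 9, 9, 9, 10, 9, 9, 9, 9, 6, 9, 9, 9, 9, 9, 10, 9, 9, 9, 9, 9, 9, 9, 9, 9, 9, 9, 9, 9, 9, 9, 9, 3, 9, 9, 6, 9, 9, 9, 9, 9, 8, 8, 9, 9, 9, 9, 9, 9, 9, 9, 8, 9, 9, 9, 9, 6, 9, 9, 9, 9, 9, 7, 9, 9, 9, 8, 9, 3, 9, 9, 9, 9, 9, 8, 9, 9, 9, 9, 9, 8, 9, 8, 8, 9, 9, 6, 9, 8, 9, 9, 10, 10, 9, 9, 9, 9, 9, 7, 9, 7, 10, 9, 10, 9, 9, 9, 8, 9, 9, 9],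
  [9, 9, 9, 9, 9, 9, 9, 9, 9, 9, 9, 9, 9, 9, 9, 9, 9, 9, 6, 9, 9, 9, 9, 9, 9, 9, 6, 9, 9, 6, 9, 9, 9, 9, 9, 9, 9, 9, 9, 9, 9, 8, 9, 9, 8, 8, 9, 7, 9, 9, 10, 9, 7, 7, 9, 9, 7, 7, 8, 6, 9, 9, 9, 9, 9, 8, 9, 9, 8, 9, 7, 9, 9, 6, 9, 9, 9, 8, 9, 8, 9, 8, 9, 8, 9, 9, 8, 6, 10, 8, 9, 9, 6, 9, 7, 9, 9, 7, 10, 9, 9, 6, 9, 9, 6, 6, 9, 6, 9, 9, 9, 9, 9, 6, 10, 9, 9, 9, 9, 9]]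

/-- the label of the point `q` of the line `j` -/
def KP (j q : ℕ) : ℕ := (kap.getD j []).getD q 0

/-- the 56 points -/
def OT : List ℕ := [3, 4, 39, 40, 41, 44, 45, 46, 47, 48, 50, 51, 52, 53, 54, 55, 56, 57, 58, 59, 60, 61, 62, 63, 64, 65, 66, 67, 68, 69, 70, 71, 72, 73, 74, 75, 76, 77, 78, 79, 81, 83, 86, 87, 88, 89, 90, 91, 92, 93, 94, 97, 98, 103, 114, 116]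

/-- words for the 56 points -/
def OW : List (List ℕ) := [[11, 4, 11], [11, 5, 4, 11], [7, 11, 4, 11], [5, 7, 11, 5, 4, 11], [6, 6, 11, 7, 4, 11], [6, 4, 11, 7, 5, 4, 11], [4, 11, 7, 5, 4, 11], [7, 7, 11, 7, 4, 11], [7, 11, 7, 4, 11], [6, 11, 4, 11], [7, 7, 11, 4, 11], [8, 6, 11, 4, 11], [8, 7, 11, 4, 11], [6, 6, 11, 4, 11], [6, 11, 5, 4, 11], [5, 6, 11, 5, 4, 11], [7, 11, 7, 5, 4, 11], [11, 7, 5, 4, 11], [6, 6, 11, 5, 4, 11], [8, 7, 11, 7, 5, 4, 11], [4, 11, 8, 7, 4, 11], [6, 11, 7, 7, 5, 4, 11], [6, 11, 7, 7, 4, 11], [7, 5, 6, 11, 4, 11], [5, 6, 11, 4, 11], [11, 7, 4, 11], [6, 11, 8, 7, 4, 11], [9, 6, 11, 7, 4, 11], [5, 4, 11, 7, 5,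 4, 11], [11, 8, 7, 4, 11], [7, 11, 5, 7, 4, 11], [11, 6, 5, 7, 4, 11], [11, 8, 5, 7, 4, 11], [6, 4, 11, 7, 4, 11], [5, 7, 11, 4, 11], [6, 11, 7, 4, 11], [7, 11, 5, 4, 11], [7, 7, 11, 5, 4, 11], [8, 6, 11, 5, 4, 11], [8, 7, 11, 5, 4, 11], [11, 5, 7, 4, 11], [11, 7, 5, 7, 4, 11], [9, 5, 6, 11, 5, 4, 11], [9, 7, 11, 7, 5, 4, 11], [4, 11, 5, 7, 4, 11], [7, 11, 8, 7, 4, 11], [9, 7, 11, 7, 4, 11], [6, 11, 5, 7, 4, 11], [6, 11, 7, 5, 4, 11], [7, 11, 7, 7, 4, 11], [11, 7, 7, 4, 11], [11, 9, 5, 7, 4, 11], [11, 8, 7, 5, 7, 4, 11], [5, 4, 11, 7, 4, 11], [11, 7, 7, 5, 4, 11], [4, 11, 7, 4, 11]]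

/-- the word of `t` -/
def tw : List ℕ := [11, 4, 11]

/-- the labels of the neighbours of the flags -/
def LQ : List (List ℕ) := [
  [1, 1, 1, 1, 1, 1, 1, 1, 1, 1, 1, 1, 1, 1, 1, 1, 1, 1, 1, 1, 1, 1, 1, 1, 1, 1, 1, 1, 1, 1, 1, 1, 1, 1, 1, 1, 1, 1, 1, 1, 1, 1, 1, 1, 1, 1, 1, 1, 1, 1, 1, 1, 1, 1, 1, 1],
  [0, 1, 1, 1, 2, 1, 1, 2, 2, 1, 1, 1, 1, 1, 2, 1, 2, 2, 2, 2, 1, 1, 2, 2, 2, 2, 2, 1, 2, 2, 1, 1, 1, 1, 2, 1, 2, 2, 2, 2, 1, 1, 1, 2, 2, 1, 2, 1, 1, 2, 2, 1, 1, 2, 2, 1],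
  [2, 2, 2, 2, 2, 2, 1, 1, 1, 1, 2, 1, 2, 1, 1, 1, 1, 2, 1, 1, 2, 2, 2, 2, 1, 2, 2, 1, 1, 2, 1, 2, 2, 1, 2, 1, 2, 2, 1, 2, 2, 2, 1, 1, 2, 2, 1, 1, 1, 1, 2, 2, 2, 2, 2, 2],
  [1, 1, 3, 3, 3, 3, 3, 3, 3, 3, 3, 3, 3, 3, 3, 3, 3, 3, 3, 3, 1, 3, 3, 1, 3, 3, 1, 3, 3, 3, 3, 1, 3, 3, 3, 3, 3, 3, 3, 3, 3, 3, 3, 3, 3, 3, 3, 3, 3, 3, 3, 3, 3, 1, 3, 1],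
  [2, 3, 3, 2, 3, 3, 3, 3, 3, 3, 3, 3, 2, 3, 3, 3, 3, 3, 1, 1, 3, 3, 3, 3, 1, 1, 3, 3, 1, 1, 3, 2, 3, 3, 3, 3, 3, 3, 3, 3, 3, 3, 3, 3, 3, 3, 3, 3, 3, 3, 2, 2, 3, 3, 3, 3],
  [3, 3, 3, 3, 3, 3, 2, 3, 2, 3, 3, 3, 3, 2, 3, 3, 2, 3, 2, 3, 3, 3, 3, 3, 3, 3, 3, 3, 2, 3, 2, 3, 3, 3, 3, 3, 3, 3, 3, 3, 3, 3, 2, 3, 3, 3, 3, 3, 3, 3, 3, 3, 3, 3, 3, 3],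
  [4, 4, 9, 9, 8, 9, 8, 9, 9, 8, 9, 8, 9, 8, 8, 9, 8, 9, 8, 8, 8, 4, 8, 8, 9, 4, 8, 8, 9, 4, 9, 8, 8, 9, 9, 8, 9, 9, 8, 9, 8, 4, 9, 8, 8, 9, 9, 9, 9, 9, 4, 8, 4, 8, 9, 8],
  [2, 7, 10, 10, 9, 10, 9, 8, 8, 9, 10, 9, 10, 9, 8, 9, 8, 9, 8, 8, 10, 7, 9, 9, 8, 3, 9, 9, 8, 3, 9, 10, 10, 9, 9, 9, 9, 9, 8, 9, 10, 7, 9, 8, 9, 10, 8, 9, 9, 8, 3, 10, 7, 9, 9, 10],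
  [3, 9, 7, 10, 10, 9, 8, 9, 4, 9, 9, 8, 10, 8, 9, 8, 4, 9, 8, 8, 9, 9, 9, 10, 8, 3, 9, 8, 8, 3, 8, 10, 9, 9, 10, 9, 10, 9, 4, 10, 7, 9, 8, 9, 10, 7, 9, 9, 8, 4, 3, 10, 9, 10, 10, 7],
  [3, 10, 10, 9, 10, 9, 9, 9, 8, 4, 9, 9, 9, 8, 9, 8, 8, 7, 9, 9, 9, 10, 7, 10, 9, 2, 7, 8, 9, 3, 8, 9, 9, 4, 10, 4, 9, 7, 8, 10, 10, 10, 9, 9, 9, 10, 9, 4, 9, 8, 3, 9, 10, 9, 9, 10],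
  [7, 7, 10, 10, 10, 10, 9, 9, 9, 9, 10, 9, 10, 9, 9, 9, 9, 10, 9, 9, 7, 10, 10, 7, 9, 10, 7, 9, 9, 10, 9, 7, 10, 9, 10, 9, 10, 10, 9, 10, 10, 10, 9, 9, 10, 10, 9, 9, 9, 9, 10, 10, 10, 7, 10, 7],
  [1, 9, 9, 9, 10, 8, 9, 10, 9, 8, 8, 8, 8, 9, 10, 8, 9, 10, 9, 10, 9, 9, 9, 3, 10, 10, 2, 8, 9, 9, 9, 9, 9, 8, 9, 8, 9, 7, 7, 10, 8, 4, 9, 7, 10, 8, 10, 4, 4, 10, 10, 4, 8, 3, 7, 9],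
  [10, 10, 9, 9, 10, 9, 8, 4, 8, 4, 10, 9, 9, 8, 4, 4, 8, 9, 8, 4, 10, 9, 9, 10, 4, 9, 10, 4, 8, 9, 8, 10, 9, 4, 9, 9, 9, 10, 9, 9, 9, 10, 8, 9, 9, 10, 9, 9, 9, 9, 10, 10, 9, 10, 10, 10],
  [10, 10, 8, 8, 7, 8, 9, 9, 9, 9, 7, 9, 8, 9, 9, 9, 9, 8, 9, 9, 10, 8, 8, 10, 9, 8, 10, 9, 9, 8, 9, 10, 8, 9, 8, 9, 8, 7, 9, 8, 8, 7, 9, 9, 8, 7, 9, 9, 9, 9, 7, 7, 8, 10, 7, 10],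
  [4, 1, 10, 10, 8, 10, 10, 8, 8, 10, 10, 10, 10, 10, 9, 9, 9, 9, 9, 9, 9, 3, 8, 8, 8, 4, 8, 10, 8, 4, 9, 9, 9, 9, 9, 10, 9, 9, 9, 9, 9, 3, 9, 9, 8, 10, 8, 9, 9, 8, 4, 9, 3, 8, 9, 9],
  [4, 9, 8, 9, 9, 9, 9, 7, 9, 4, 3, 9, 9, 10, 9, 9, 10, 10, 9, 9, 8, 9, 9, 9, 10, 8, 3, 8, 8, 10, 9, 8, 10, 9, 4, 10, 3, 8, 7, 7, 1, 9, 8, 9, 8, 8, 8, 9, 4, 9, 7, 10, 9, 8, 9, 9],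
  [9, 9, 9, 9, 9, 9, 9, 9, 9, 9, 9, 6, 9, 9, 9, 9, 9, 9, 9, 9, 9, 9, 9, 9, 9, 9, 9, 9, 9, 9, 9, 9, 9, 9, 9, 6, 9, 9, 6, 9, 9, 9, 9, 6, 9, 9, 6, 6, 6, 6, 9, 9, 9, 9, 9, 9],
  [3, 5, 9, 9, 9, 9, 9, 9, 9, 9, 9, 9, 9, 9, 9, 9, 9, 9, 9, 9, 9, 5, 9, 9, 9, 3, 9, 9, 9, 3, 9, 9, 9, 9, 9, 9, 9, 9, 9, 9, 9, 5, 9, 9, 9, 9, 9, 9, 9, 9, 3, 9, 5, 9, 9, 9],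
  [3, 6, 9, 9, 9, 9, 9, 9, 9, 9, 9, 9, 9, 9, 9, 9, 9, 9, 9, 9, 9, 6, 9, 9, 9, 3, 9, 9, 9, 3, 9, 9, 9, 9, 9, 9, 9, 9, 9, 9, 9, 6, 9, 9, 9, 9, 9, 9, 9, 9, 3, 9, 6, 9, 9, 9],
  [9, 3, 9, 9, 9, 9, 5, 9, 6, 9, 9, 9, 9, 5, 9, 9, 9, 9, 9, 9, 3, 5, 9, 9, 9, 9, 9, 9, 6, 9, 9, 3, 5, 9, 6, 9, 6, 9, 9, 9, 9, 9, 9, 9, 9, 9, 9, 9, 9, 9, 9, 9, 9, 9, 9, 3],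
  [9, 9, 9, 9, 9, 9, 5, 9, 5, 9, 9, 9, 9, 5, 9, 9, 5, 9, 5, 9, 9, 9, 9, 9, 9, 9, 9, 9, 5, 9, 5, 9, 9, 9, 9, 9, 9, 9, 9, 9, 9, 9, 5, 9, 9, 9, 9, 9, 9, 9, 9, 9, 9, 9, 9, 9],
  [4, 1, 9, 9, 8, 9, 9, 8, 8, 9, 9, 9, 9, 9, 8, 9, 8, 8, 8, 8, 9, 9, 8, 8, 8, 8, 8, 9, 8, 8, 9, 9, 9, 9, 8, 9, 8, 8, 8, 8, 9, 9, 9, 8, 8, 9, 8, 9, 9, 8, 8, 9, 9, 8, 8, 9],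
  [1, 1, 9, 9, 9, 9, 9, 9, 9, 9, 9, 9, 9, 9, 9, 9, 9, 9, 9, 9, 9, 9, 9, 9, 9, 9, 9, 9, 9, 9, 9, 9, 9, 9, 9, 9, 9, 9, 9, 9, 9, 9, 9, 9, 9, 9, 9, 9, 9, 9, 9, 9, 9, 9, 9, 9],
  [9, 10, 9, 9, 7, 10, 9, 8, 9, 8, 9, 8, 9, 1, 9, 8, 8, 9, 8, 8, 10, 9, 7, 10, 9, 10, 9, 9, 9, 7, 4, 9, 9, 9, 10, 9, 10, 10, 9, 10, 10, 10, 8, 8, 9, 7, 9, 8, 9, 8, 9, 9, 9, 10, 9, 9],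
  [9, 9, 9, 7, 10, 10, 9, 9, 8, 8, 9, 8, 7, 8, 8, 9, 9, 10, 8, 8, 10, 10, 9, 7, 9, 10, 7, 8, 9, 7, 9, 10, 9, 9, 10, 9, 9, 9, 8, 10, 7, 9, 8, 9, 10, 10, 8, 8, 9, 9, 9, 10, 10, 9, 10, 9],
  [7, 7, 9, 9, 10, 9, 9, 8, 8, 9, 9, 9, 9, 9, 9, 8, 9, 9, 9, 9, 10, 10, 10, 10, 8, 10, 10, 9, 8, 10, 8, 10, 10, 8, 9, 9, 9, 9, 9, 9, 10, 10, 8, 9, 10, 9, 8, 8, 8, 8, 10, 10, 10, 10, 9, 10],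
  [10, 8, 9, 9, 8, 9, 8, 8, 10, 10, 7, 9, 9, 10, 8, 7, 10, 9, 8, 8, 10, 9, 9, 8, 8, 1, 8, 10, 8, 9, 10, 10, 9, 7, 9, 9, 9, 8, 9, 1, 9, 8, 8, 9, 9, 8, 9, 9, 9, 9, 7, 10, 9, 10, 10, 8],
  [4, 4, 9, 9, 9, 9, 9, 9, 9, 9, 9, 9, 9, 9, 9, 9, 9, 9, 9, 9, 8, 9, 9, 8, 9, 9, 8, 9, 9, 9, 9, 8, 9, 9, 9, 9, 9, 9, 9, 9, 9, 9, 9, 9, 9, 9, 9, 9, 9, 9, 9, 9, 9, 8, 9, 8],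
  [9, 9, 10, 10, 9, 9, 6, 9, 9, 9, 9, 9, 9, 6, 9, 9, 9, 9, 9, 9, 9, 10, 7, 9, 9, 9, 9, 9, 9, 10, 9, 9, 10, 9, 7, 9, 10, 9, 9, 6, 9, 9, 9, 9, 9, 9, 9, 9, 9, 9, 9, 9, 6, 9, 9, 9],
  [9, 9, 9, 9, 9, 8, 9, 9, 9, 9, 6, 9, 8, 9, 9, 6, 9, 8, 9, 9, 9, 9, 9, 9, 9, 4, 9, 9, 9, 9, 9, 9, 9, 6, 9, 9, 9, 9, 9, 4, 8, 9, 9, 9, 8, 9, 9, 9, 9, 9, 6, 9, 8, 9, 9, 9],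
  [7, 7, 9, 9, 9, 9, 9, 9, 9, 9, 9, 9, 9, 9, 9, 9, 9, 9, 9, 9, 10, 9, 9, 10, 9, 9, 10, 9, 9, 9, 9, 10, 9, 9, 9, 9, 9, 9, 9, 9, 9, 9, 9, 9, 9, 9, 9, 9, 9, 9, 9, 9, 9, 10, 9, 10],
  [9, 10, 9, 9, 9, 9, 8, 9, 9, 7, 9, 9, 9, 9, 9, 9, 9, 9, 9, 9, 9, 9, 9, 9, 9, 9, 6, 4, 9, 10, 8, 9, 9, 9, 7, 9, 9, 9, 9, 6, 9, 9, 9, 10, 9, 8, 9, 9, 9, 10, 9, 4, 9, 9, 9, 8],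
  [9, 9, 8, 9, 9, 9, 9, 9, 9, 9, 9, 9, 9, 8, 9, 9, 9, 4, 9, 9, 10, 9, 9, 9, 9, 9, 9, 9, 10, 7, 9, 8, 9, 9, 9, 7, 9, 9, 9, 10, 6, 9, 6, 9, 9, 10, 8, 9, 9, 9, 4, 9, 9, 9, 9, 9],
  [9, 9, 9, 9, 9, 9, 9, 6, 9, 7, 9, 9, 9, 9, 9, 10, 10, 6, 4, 9, 9, 9, 9, 9, 9, 8, 9, 9, 9, 9, 9, 7, 9, 9, 9, 4, 9, 9, 9, 8, 9, 9, 9, 9, 9, 9, 9, 9, 8, 9, 10, 9, 9, 9, 10, 8],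
  [9, 8, 9, 9, 9, 7, 10, 8, 9, 9, 9, 9, 9, 8, 9, 9, 6, 9, 9, 8, 10, 6, 9, 9, 9, 9, 6, 9, 9, 9, 9, 9, 9, 9, 6, 7, 9, 9, 9, 9, 10, 9, 9, 9, 9, 9, 9, 9, 10, 9, 8, 9, 9, 9, 8, 9],
  [9, 9, 9, 9, 9, 10, 10, 8, 9, 9, 9, 9, 4, 8, 9, 9, 9, 9, 6, 9, 9, 9, 8, 9, 10, 6, 9, 9, 9, 10, 9, 9, 6, 9, 9, 9, 9, 9, 10, 9, 9, 10, 9, 8, 9, 9, 9, 9, 9, 6, 9, 4, 9, 9, 9, 9],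
  [10, 9, 9, 9, 9, 9, 9, 8, 9, 9, 9, 9, 9, 9, 9, 9, 8, 8, 10, 9, 9, 6, 9, 9, 9, 9, 8, 10, 9, 6, 9, 9, 9, 9, 9, 10, 9, 9, 9, 9, 10, 10, 9, 9, 9, 9, 9, 9, 9, 8, 9, 9, 9, 9, 8, 9],
  [9, 9, 9, 9, 9, 9, 9, 6, 6, 9, 9, 6, 9, 6, 9, 9, 9, 9, 6, 6, 9, 9, 9, 9, 9, 9, 9, 6, 9, 9, 9, 9, 9, 6, 9, 9, 9, 9, 6, 9, 9, 9, 6, 9, 9, 9, 6, 6, 9, 9, 9, 9, 9, 6, 9, 6],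
  [9, 9, 6, 9, 6, 6, 6, 9, 9, 6, 6, 6, 9, 9, 9, 9, 9, 9, 6, 6, 9, 6, 6, 6, 6, 6, 9, 9, 6, 9, 9, 6, 9, 6, 6, 9, 9, 9, 9, 6, 6, 6, 6, 6, 9, 9, 6, 9, 6, 9, 9, 9, 9, 9, 6, 9],
  [6, 6, 9, 9, 6, 9, 9, 9, 6, 9, 9, 9, 9, 9, 9, 9, 9, 9, 9, 9, 9, 9, 9, 9, 9, 9, 9, 9, 6, 6, 9, 9, 9, 9, 9, 9, 6, 6, 6, 6, 9, 9, 9, 6, 9, 9, 6, 9, 9, 6, 6, 9, 6, 6, 6, 6],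
  [9, 9, 6, 9, 9, 9, 9, 6, 6, 9, 9, 6, 9, 6, 6, 9, 9, 9, 6, 9, 9, 9, 9, 9, 9, 9, 9, 9, 9, 6, 9, 9, 9, 9, 9, 6, 9, 9, 6, 9, 6, 9, 6, 6, 9, 9, 9, 9, 9, 9, 9, 9, 6, 9, 9, 9],
  [9, 9, 9, 9, 9, 9, 9, 9, 6, 9, 9, 9, 6, 9, 9, 9, 9, 9, 9, 6, 6, 6, 6, 9, 9, 9, 9, 6, 9, 9, 6, 9, 9, 9, 9, 6, 9, 9, 9, 9, 9, 9, 9, 9, 9, 9, 9, 9, 6, 9, 6, 6, 6, 6, 9, 9],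
  [6, 9, 9, 6, 9, 9, 9, 9, 9, 9, 9, 9, 6, 6, 9, 9, 9, 9, 9, 9, 5, 9, 9, 6, 9, 6, 9, 6, 6, 9, 6, 6, 9, 6, 9, 9, 9, 9, 9, 6, 9, 9, 9, 9, 9, 9, 6, 9, 9, 9, 9, 9, 6, 9, 6, 9],
  [6, 9, 6, 9, 6, 6, 9, 9, 9, 6, 6, 9, 9, 9, 9, 9, 9, 9, 6, 6, 6, 9, 9, 9, 9, 9, 9, 9, 9, 6, 9, 6, 6, 6, 9, 6, 9, 9, 9, 6, 9, 6, 9, 9, 9, 9, 9, 6, 9, 9, 9, 5, 6, 6, 9, 9],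
  [9, 9, 9, 9, 9, 9, 9, 9, 9, 9, 9, 9, 9, 9, 9, 9, 9, 9, 9, 9, 9, 9, 9, 9, 9, 9, 9, 9, 9, 9, 9, 9, 9, 9, 9, 9, 9, 9, 9, 9, 9, 9, 9, 9, 9, 6, 9, 9, 9, 9, 9, 9, 9, 9, 6, 9],
  [9, 9, 9, 9, 9, 9, 9, 9, 9, 9, 9, 9, 9, 9, 9, 9, 9, 9, 9, 9, 9, 9, 9, 9, 9, 9, 9, 9, 9, 9, 9, 9, 9, 9, 9, 9, 9, 9, 9, 9, 9, 3, 9, 9, 9, 9, 9, 9, 9, 9, 3, 9, 9, 9, 9, 9],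
  [9, 9, 9, 9, 9, 9, 9, 9, 9, 9, 9, 9, 9, 5, 9, 6, 9, 9, 9, 9, 9, 9, 9, 9, 9, 9, 9, 6, 6, 9, 9, 9, 9, 9, 9, 9, 9, 9, 9, 9, 9, 9, 9, 9, 9, 9, 9, 9, 9, 9, 9, 9, 9, 9, 9, 9],
  [9, 9, 9, 6, 9, 9, 9, 9, 9, 9, 9, 9, 9, 9, 9, 3, 9, 9, 9, 9, 9, 9, 6, 9, 9, 9, 9, 3, 9, 9, 9, 9, 9, 9, 9, 9, 9, 9, 9, 9, 6, 9, 9, 9, 9, 9, 9, 9, 9, 9, 9, 9, 6, 9, 9, 9],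
  [9, 9, 9, 6, 9, 9, 9, 9, 9, 9, 9, 9, 9, 9, 9, 9, 9, 9, 9, 6, 9, 9, 9, 9, 9, 9, 9, 9, 9, 9, 6, 9, 6, 9, 9, 9, 9, 9, 9, 9, 9, 6, 9, 9, 9, 9, 9, 9, 9, 9, 9, 9, 9, 9, 9, 6],
  [9, 9, 9, 9, 9, 9, 9, 9, 9, 9, 9, 9, 9, 9, 9, 9, 9, 9, 9, 9, 9, 6, 9, 9, 9, 9, 9, 9, 9, 6, 9, 9, 9, 9, 9, 9, 9, 9, 9, 9, 9, 9, 9, 9, 9, 9, 9, 9, 9, 9, 9, 9, 9, 9, 9, 9],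
  [6, 9, 9, 9, 9, 9, 9, 9, 9, 9, 9, 9, 9, 9, 9, 9, 9, 9, 9, 9, 9, 9, 6, 9, 6, 9, 9, 9, 9, 9, 9, 9, 9, 9, 9, 9, 9, 9, 9, 9, 9, 9, 9, 9, 9, 9, 9, 9, 3, 9, 9, 9, 9, 9, 9, 9],
  [9, 9, 9, 6, 9, 9, 9, 9, 9, 9, 9, 9, 9, 9, 9, 9, 9, 9, 3, 9, 9, 9, 9, 9, 9, 9, 9, 9, 3, 9, 9, 9, 9, 9, 9, 9, 6, 9, 9, 9, 9, 9, 9, 9, 9, 6, 9, 9, 9, 9, 9, 6, 9, 9, 9, 9],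
  [9, 9, 9, 9, 6, 9, 9, 9, 9, 9, 9, 9, 9, 9, 6, 9, 9, 9, 9, 6, 9, 9, 9, 9, 9, 9, 9, 3, 9, 9, 9, 6, 9, 9, 9, 9, 9, 9, 9, 9, 6, 9, 9, 6, 9, 9, 9, 9, 9, 9, 9, 9, 9, 6, 9, 9],
  [9, 9, 9, 9, 9, 9, 9, 9, 6, 9, 9, 9, 9, 9, 9, 9, 9, 6, 9, 6, 9, 9, 9, 9, 9, 9, 9, 9, 9, 9, 9, 9, 9, 9, 6, 9, 9, 9, 9, 9, 9, 9, 9, 6, 9, 9, 9, 9, 6, 9, 9, 9, 9, 9, 9, 9],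
  [6, 3, 9, 9, 6, 9, 9, 9, 9, 9, 9, 9, 9, 9, 9, 9, 9, 6, 9, 9, 9, 9, 9, 9, 9, 9, 9, 9, 9, 6, 9, 9, 6, 6, 9, 9, 9, 9, 6, 9, 9, 9, 9, 9, 9, 9, 9, 9, 9, 9, 9, 9, 9, 9, 9, 9],
  [9, 9, 9, 9, 9, 6, 9, 9, 9, 9, 9, 9, 9, 6, 9, 3, 9, 9, 9, 9, 9, 9, 6, 9, 9, 9, 9, 9, 9, 9, 9, 9, 9, 9, 9, 9, 9, 9, 9, 9, 9, 9, 9, 9, 9, 9, 9, 9, 9, 9, 9, 9, 9, 9, 9, 9],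
  [9, 9, 9, 9, 9, 9, 9, 9, 5, 9, 9, 9, 9, 9, 6, 9, 9, 9, 9, 9, 9, 6, 9, 9, 9, 9, 9, 9, 9, 9, 9, 9, 9, 9, 9, 9, 9, 9, 9, 6, 9, 9, 9, 9, 9, 9, 9, 9, 9, 9, 9, 9, 9, 9, 9, 9],
  [9, 5, 9, 6, 9, 9, 9, 9, 9, 9, 9, 9, 6, 9, 9, 9, 9, 9, 9, 9, 9, 9, 9, 9, 9, 9, 9, 9, 9, 9, 9, 9, 9, 9, 9, 9, 9, 9, 9, 9, 9, 9, 9, 9, 9, 9, 9, 9, 9, 9, 6, 9, 9, 9, 9, 9],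
  [9, 9, 9, 9, 9, 9, 9, 9, 9, 9, 9, 9, 9, 9, 6, 9, 9, 9, 9, 9, 9, 9, 9, 9, 9, 9, 9, 9, 9, 9, 9, 9, 9, 9, 9, 3, 9, 9, 9, 9, 9, 6, 9, 9, 9, 9, 9, 9, 9, 9, 9, 9, 6, 9, 9, 9],
  [9, 9, 9, 9, 6, 9, 9, 6, 9, 9, 9, 9, 9, 9, 9, 9, 9, 9, 9, 9, 9, 9, 9, 9, 9, 9, 3, 9, 9, 9, 9, 9, 9, 9, 9, 9, 9, 9, 9, 9, 9, 9, 9, 9, 9, 9, 9, 6, 9, 9, 9, 9, 5, 9, 9, 6],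
  [9, 9, 9, 6, 9, 9, 9, 9, 9, 9, 9, 9, 5, 9, 6, 9, 9, 9, 9, 9, 9, 9, 9, 9, 9, 9, 9, 9, 9, 6, 6, 9, 9, 9, 9, 9, 3, 9, 9, 9, 9, 9, 9, 9, 9, 9, 9, 9, 9, 9, 9, 9, 9, 9, 9, 9],
  [9, 9, 9, 9, 9, 9, 9, 9, 9, 9, 9, 6, 9, 5, 3, 9, 9, 9, 9, 9, 9, 9, 6, 9, 9, 9, 9, 9, 9, 9, 9, 9, 9, 9, 9, 9, 9, 9, 9, 6, 9, 9, 9, 9, 9, 9, 9, 9, 6, 9, 9, 9, 9, 9, 9, 9],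
  [9, 9, 9, 9, 9, 9, 9, 9, 9, 9, 9, 9, 6, 9, 9, 9, 9, 5, 9, 9, 6, 9, 9, 9, 9, 9, 9, 9, 3, 9, 9, 9, 9, 9, 9, 9, 9, 9, 9, 9, 6, 9, 9, 9, 9, 9, 9, 9, 9, 6, 9, 9, 9, 9, 9, 9],
  [6, 6, 9, 3, 9, 9, 9, 6, 9, 9, 9, 9, 9, 9, 9, 9, 9, 9, 5, 9, 9, 9, 9, 9, 9, 9, 6, 9, 9, 9, 9, 9, 9, 9, 9, 9, 9, 9, 9, 9, 9, 9, 9, 9, 6, 9, 9, 9, 9, 9, 9, 9, 9, 9, 9, 3],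
  [9, 9, 9, 6, 9, 9, 3, 6, 9, 9, 9, 9, 9, 9, 6, 9, 9, 9, 9, 9, 9, 6, 9, 9, 9, 9, 9, 3, 5, 9, 9, 9, 9, 6, 9, 9, 9, 9, 9, 9, 9, 9, 9, 9, 9, 9, 9, 9, 9, 9, 9, 9, 9, 9, 9, 9],
  [9, 9, 6, 9, 9, 9, 9, 9, 9, 9, 9, 9, 9, 6, 6, 9, 9, 9, 9, 9, 9, 9, 9, 9, 9, 9, 9, 9, 9, 9, 3, 9, 9, 9, 9, 6, 9, 9, 9, 9, 9, 9, 9, 9, 9, 9, 9, 9, 9, 9, 9, 9, 9, 9, 9, 3],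
  [9, 9, 9, 6, 9, 6, 9, 9, 9, 9, 9, 9, 9, 9, 9, 6, 9, 5, 6, 9, 9, 9, 9, 9, 9, 9, 9, 9, 9, 6, 9, 9, 9, 6, 9, 9, 9, 9, 9, 9, 9, 9, 6, 9, 9, 9, 9, 9, 9, 9, 9, 9, 9, 9, 9, 9],
  [9, 9, 9, 3, 9, 9, 9, 9, 9, 9, 9, 9, 9, 6, 6, 9, 9, 9, 9, 9, 9, 9, 9, 9, 9, 9, 9, 6, 9, 9, 9, 9, 6, 9, 6, 9, 9, 9, 9, 9, 9, 9, 9, 9, 9, 6, 9, 9, 9, 6, 9, 9, 9, 9, 9, 9],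
  [9, 9, 9, 9, 9, 9, 9, 10, 8, 9, 6, 9, 8, 9, 9, 9, 9, 9, 9, 7, 9, 9, 9, 9, 9, 10, 9, 6, 9, 9, 8, 8, 9, 9, 9, 9, 9, 6, 8, 9, 9, 7, 9, 9, 9, 10, 6, 7, 9, 9, 6, 9, 9, 8, 9, 9],
  [9, 9, 9, 6, 9, 9, 6, 9, 9, 6, 7, 9, 9, 10, 6, 9, 9, 9, 10, 6, 6, 7, 9, 9, 9, 9, 9, 9, 9, 7, 9, 9, 9, 9, 6, 9, 9, 7, 9, 9, 9, 9, 9, 9, 9, 9, 9, 9, 10, 10, 6, 9, 9, 9, 9, 9],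
  [10, 7, 9, 6, 9, 9, 7, 6, 9, 9, 9, 9, 10, 9, 9, 9, 10, 9, 9, 9, 9, 6, 9, 9, 9, 6, 9, 9, 9, 9, 6, 9, 9, 9, 9, 9, 6, 9, 6, 7, 9, 3, 9, 6, 9, 9, 7, 10, 9, 9, 6, 9, 9, 9, 9, 9],
  [6, 9, 9, 9, 6, 9, 9, 8, 7, 9, 10, 9, 9, 9, 6, 9, 9, 6, 9, 9, 9, 8, 6, 9, 7, 9, 6, 9, 8, 9, 9, 9, 10, 9, 9, 9, 9, 9, 7, 9, 8, 9, 9, 8, 6, 8, 9, 9, 9, 9, 6, 9, 10, 9, 6, 9],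
  [8, 6, 8, 9, 9, 9, 9, 9, 9, 6, 6, 9, 6, 9, 9, 9, 7, 6, 9, 9, 9, 9, 6, 9, 6, 8, 6, 9, 9, 7, 6, 9, 9, 6, 6, 6, 9, 9, 7, 9, 9, 9, 8, 9, 7, 8, 6, 9, 8, 9, 7, 9, 6, 7, 9, 9],
  [9, 6, 9, 6, 6, 8, 8, 9, 7, 9, 9, 9, 7, 10, 9, 9, 6, 6, 9, 9, 9, 9, 6, 9, 9, 8, 9, 9, 8, 9, 9, 9, 9, 9, 9, 9, 9, 8, 9, 9, 9, 8, 9, 6, 10, 9, 9, 9, 6, 9, 9, 10, 9, 6, 7, 9],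
  [9, 9, 6, 6, 10, 9, 9, 6, 9, 9, 6, 8, 6, 9, 9, 9, 8, 8, 10, 9, 9, 9, 9, 9, 6, 9, 9, 10, 6, 9, 9, 10, 9, 7, 9, 9, 6, 7, 9, 9, 9, 9, 9, 9, 8, 9, 9, 8, 6, 6, 9, 9, 9, 9, 9, 8],
  [7, 9, 7, 7, 9, 9, 9, 9, 8, 9, 9, 9, 9, 9, 9, 9, 8, 9, 8, 9, 9, 6, 8, 9, 9, 9, 7, 9, 8, 8, 9, 7, 6, 9, 9, 9, 9, 3, 9, 9, 9, 3, 9, 9, 9, 9, 9, 9, 9, 9, 9, 6, 9, 9, 6, 7],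
  [9, 9, 9, 9, 9, 9, 8, 9, 8, 9, 9, 9, 9, 9, 9, 9, 8, 6, 9, 9, 9, 9, 9, 9, 9, 9, 9, 6, 6, 9, 9, 9, 6, 9, 9, 8, 9, 9, 9, 9, 9, 9, 8, 8, 9, 9, 8, 8, 9, 9, 9, 9, 9, 9, 9, 9],
  [3, 9, 9, 9, 9, 9, 9, 6, 7, 8, 9, 9, 6, 9, 9, 9, 9, 10, 9, 6, 9, 9, 9, 9, 10, 9, 9, 9, 8, 9, 9, 8, 9, 6, 9, 10, 3, 8, 9, 6, 8, 9, 6, 9, 9, 9, 6, 9, 9, 8, 9, 10, 9, 6, 9, 7],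
  [9, 6, 9, 8, 9, 6, 8, 9, 3, 6, 9, 3, 9, 9, 9, 9, 8, 9, 9, 6, 9, 9, 9, 9, 9, 9, 6, 9, 6, 6, 9, 9, 9, 9, 8, 9, 9, 9, 9, 9, 9, 8, 9, 6, 9, 9, 8, 8, 9, 9, 8, 9, 9, 6, 6, 9],
  [9, 6, 6, 9, 9, 9, 9, 9, 9, 9, 6, 9, 9, 6, 9, 9, 9, 9, 9, 8, 9, 9, 9, 9, 9, 9, 9, 8, 9, 9, 9, 9, 6, 9, 9, 8, 9, 9, 9, 3, 8, 8, 9, 8, 8, 9, 9, 6, 9, 9, 8, 6, 9, 6, 9, 6],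
  [9, 9, 9, 9, 7, 9, 9, 9, 9, 6, 3, 9, 8, 9, 9, 9, 8, 9, 9, 9, 9, 6, 8, 9, 10, 9, 10, 8, 6, 6, 9, 9, 9, 9, 9, 9, 8, 9, 6, 9, 9, 10, 10, 9, 9, 9, 9, 9, 9, 6, 9, 9, 8, 9, 6, 7],
  [6, 7, 8, 6, 9, 9, 6, 9, 9, 9, 9, 9, 9, 9, 9, 10, 7, 9, 9, 9, 9, 9, 7, 9, 9, 9, 9, 9, 6, 9, 8, 6, 6, 8, 6, 8, 9, 10, 9, 9, 9, 8, 9, 9, 3, 9, 9, 9, 3, 10, 9, 9, 9, 9, 9, 8],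
  [9, 7, 9, 9, 7, 9, 9, 9, 9, 3, 8, 8, 6, 9, 9, 9, 9, 9, 9, 6, 8, 9, 9, 9, 9, 6, 6, 9, 9, 9, 9, 10, 9, 9, 9, 8, 9, 9, 6, 9, 9, 9, 9, 9, 9, 8, 10, 9, 9, 7, 10, 6, 9, 9, 9, 8],
  [9, 10, 9, 9, 9, 9, 9, 9, 9, 9, 9, 9, 6, 8, 9, 8, 9, 9, 9, 9, 9, 9, 9, 6, 9, 9, 9, 9, 6, 10, 9, 6, 6, 7, 10, 9, 9, 3, 7, 9, 9, 9, 8, 9, 9, 8, 7, 9, 9, 9, 9, 8, 9, 9, 6, 8],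
  [9, 8, 9, 6, 9, 9, 6, 9, 9, 9, 9, 9, 9, 8, 9, 9, 8, 8, 9, 9, 3, 9, 9, 9, 9, 6, 8, 7, 9, 6, 9, 9, 9, 10, 9, 10, 9, 6, 9, 9, 7, 10, 9, 9, 9, 7, 9, 9, 9, 8, 9, 9, 9, 9, 6, 9],
  [9, 9, 9, 9, 9, 9, 9, 9, 6, 9, 9, 9, 8, 9, 9, 9, 9, 6, 9, 9, 3, 9, 8, 9, 10, 9, 9, 8, 9, 10, 6, 8, 9, 9, 9, 9, 9, 8, 6, 9, 9, 7, 6, 8, 7, 9, 9, 10, 9, 9, 9, 6, 6, 9, 9, 10],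
  [9, 8, 9, 9, 9, 9, 9, 9, 9, 10, 9, 9, 6, 9, 9, 7, 9, 8, 9, 9, 7, 9, 9, 9, 6, 8, 9, 7, 9, 9, 9, 10, 6, 10, 9, 9, 9, 9, 9, 8, 6, 9, 9, 9, 8, 9, 9, 3, 9, 9, 6, 6, 9, 9, 9, 8],
  [6, 9, 6, 9, 9, 6, 9, 9, 9, 6, 9, 9, 9, 8, 9, 9, 9, 9, 9, 9, 9, 3, 7, 6, 9, 9, 8, 10, 9, 9, 9, 6, 9, 7, 10, 9, 9, 9, 9, 8, 9, 9, 8, 9, 8, 9, 9, 8, 10, 9, 9, 9, 9, 10, 6, 9],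
  [8, 9, 9, 9, 9, 9, 9, 9, 9, 9, 6, 6, 9, 6, 9, 8, 9, 9, 9, 7, 9, 9, 8, 9, 6, 9, 7, 9, 9, 10, 6, 9, 9, 9, 9, 3, 9, 9, 10, 10, 8, 9, 9, 9, 9, 9, 6, 9, 8, 3, 9, 8, 9, 9, 7, 6],
  [9, 9, 7, 7, 9, 9, 10, 9, 9, 9, 9, 9, 6, 10, 6, 3, 10, 9, 10, 3, 9, 9, 9, 9, 9, 9, 9, 9, 9, 9, 9, 9, 9, 6, 7, 9, 7, 9, 9, 6, 6, 9, 9, 9, 6, 9, 9, 9, 9, 9, 9, 9, 9, 9, 9, 9],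
  [10, 6, 7, 10, 9, 9, 9, 9, 6, 9, 9, 9, 9, 9, 6, 9, 8, 9, 8, 9, 9, 9, 8, 8, 9, 6, 7, 9, 9, 8, 7, 9, 9, 6, 6, 9, 9, 9, 9, 9, 9, 9, 10, 6, 6, 3, 9, 9, 6, 9, 9, 9, 9, 8, 6, 9],
  [6, 9, 10, 9, 9, 9, 9, 9, 9, 9, 9, 9, 9, 6, 9, 6, 9, 10, 8, 9, 8, 9, 9, 9, 9, 9, 9, 6, 9, 8, 7, 7, 9, 9, 9, 9, 9, 9, 9, 8, 9, 9, 9, 10, 9, 8, 9, 8, 9, 9, 7, 6, 9, 9, 9, 9],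
  [9, 6, 6, 9, 8, 9, 9, 9, 6, 8, 9, 6, 9, 9, 9, 9, 9, 7, 6, 6, 9, 9, 7, 9, 6, 9, 9, 10, 6, 8, 10, 9, 9, 9, 9, 9, 9, 9, 9, 8, 9, 6, 8, 9, 9, 6, 9, 8, 7, 3, 10, 9, 9, 9, 9, 9],
  [6, 9, 7, 9, 9, 8, 9, 9, 9, 9, 7, 9, 9, 9, 9, 8, 9, 9, 9, 9, 6, 9, 9, 7, 9, 7, 3, 8, 6, 9, 9, 9, 9, 6, 7, 9, 9, 9, 8, 9, 6, 9, 9, 9, 9, 6, 9, 9, 9, 8, 8, 6, 9, 9, 9, 7],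
  [9, 9, 9, 9, 9, 8, 9, 8, 9, 9, 9, 9, 8, 9, 9, 8, 9, 8, 9, 9, 9, 3, 9, 9, 8, 9, 9, 9, 9, 9, 9, 9, 9, 8, 3, 9, 9, 9, 9, 4, 9, 9, 9, 9, 9, 9, 9, 9, 9, 9, 9, 9, 3, 9, 9, 9],
  [4, 4, 9, 9, 9, 9, 9, 9, 9, 9, 9, 9, 9, 9, 9, 9, 9, 9, 9, 9, 3, 3, 3, 9, 9, 8, 3, 9, 9, 3, 9, 9, 3, 9, 9, 9, 9, 9, 9, 9, 8, 9, 9, 9, 8, 9, 9, 9, 9, 9, 9, 9, 8, 8, 9, 8],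
  [9, 9, 9, 10, 9, 9, 9, 9, 9, 9, 10, 3, 9, 3, 9, 9, 9, 9, 9, 9, 9, 9, 9, 3, 9, 9, 9, 9, 10, 9, 10, 9, 9, 9, 10, 9, 9, 10, 9, 9, 9, 9, 9, 9, 3, 9, 10, 10, 9, 9, 9, 9, 9, 9, 9, 9],
  [3, 9, 10, 10, 9, 9, 9, 9, 9, 9, 9, 9, 3, 9, 9, 9, 9, 9, 9, 9, 9, 9, 9, 10, 9, 9, 9, 9, 9, 9, 9, 10, 9, 9, 10, 9, 10, 9, 9, 9, 9, 9, 3, 3, 9, 9, 9, 9, 9, 9, 9, 9, 9, 10, 9, 10],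
  [9, 9, 10, 9, 9, 9, 9, 9, 9, 9, 9, 9, 10, 9, 9, 9, 9, 9, 9, 9, 9, 9, 10, 9, 9, 10, 9, 9, 9, 9, 9, 9, 10, 9, 9, 9, 10, 9, 9, 10, 9, 9, 9, 9, 9, 9, 9, 9, 9, 9, 9, 9, 10, 9, 9, 9],
  [9, 10, 9, 9, 3, 8, 9, 9, 9, 8, 9, 9, 4, 9, 9, 8, 9, 9, 9, 9, 9, 9, 9, 10, 9, 10, 10, 8, 9, 9, 9, 9, 9, 4, 9, 9, 9, 9, 9, 9, 9, 9, 9, 3, 10, 9, 9, 9, 9, 9, 9, 9, 9, 9, 9, 10],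
  [8, 9, 9, 9, 9, 9, 8, 9, 10, 9, 9, 3, 9, 8, 9, 9, 9, 3, 9, 9, 9, 9, 10, 9, 9, 9, 8, 9, 10, 10, 9, 8, 9, 9, 10, 9, 10, 9, 9, 9, 3, 9, 9, 9, 9, 9, 3, 9, 9, 9, 9, 9, 9, 9, 9, 8],
  [9, 9, 10, 9, 9, 8, 9, 9, 9, 9, 9, 9, 10, 9, 9, 9, 9, 9, 9, 9, 9, 10, 10, 9, 9, 10, 9, 9, 9, 9, 9, 9, 9, 9, 10, 8, 9, 9, 8, 9, 9, 9, 9, 9, 8, 9, 9, 8, 9, 8, 9, 9, 9, 9, 9, 9],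
  [3, 9, 9, 9, 9, 9, 9, 9, 9, 8, 9, 9, 9, 9, 4, 8, 9, 9, 9, 9, 9, 3, 9, 9, 8, 9, 9, 9, 9, 9, 9, 9, 9, 9, 9, 3, 9, 9, 9, 9, 9, 8, 9, 9, 9, 8, 9, 9, 9, 9, 8, 9, 9, 9, 8, 9],
  [9, 8, 9, 9, 9, 9, 10, 9, 9, 9, 9, 9, 9, 10, 9, 9, 9, 9, 9, 9, 8, 3, 8, 9, 9, 9, 9, 9, 9, 8, 10, 10, 9, 9, 8, 9, 4, 9, 9, 9, 9, 9, 10, 9, 9, 3, 9, 9, 9, 9, 3, 9, 9, 9, 9, 10],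
  [3, 8, 9, 9, 9, 10, 9, 9, 9, 10, 9, 9, 10, 9, 9, 10, 3, 9, 3, 9, 9, 9, 9, 8, 9, 8, 4, 10, 9, 9, 9, 9, 9, 10, 9, 9, 9, 9, 9, 9, 9, 9, 9, 9, 8, 9, 9, 9, 9, 9, 9, 9, 9, 9, 9, 8],
  [10, 3, 9, 9, 8, 9, 9, 9, 3, 9, 9, 9, 3, 9, 9, 9, 9, 9, 9, 9, 10, 9, 9, 10, 9, 9, 9, 9, 9, 9, 9, 9, 9, 9, 9, 9, 9, 8, 8, 9, 9, 9, 9, 4, 9, 9, 9, 10, 10, 9, 8, 9, 9, 9, 8, 10],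
  [9, 3, 9, 9, 9, 9, 9, 9, 9, 9, 9, 8, 9, 9, 10, 3, 8, 9, 10, 9, 9, 9, 3, 9, 10, 9, 9, 10, 9, 9, 10, 9, 9, 10, 9, 9, 9, 9, 9, 9, 9, 9, 8, 8, 9, 9, 9, 8, 9, 4, 9, 9, 9, 9, 9, 9],
  [9, 9, 9, 9, 9, 9, 10, 9, 3, 9, 9, 4, 4, 9, 10, 8, 9, 9, 9, 9, 9, 9, 9, 3, 9, 9, 10, 9, 8, 9, 9, 9, 10, 9, 8, 10, 9, 9, 9, 9, 9, 9, 9, 9, 10, 9, 9, 9, 9, 9, 9, 9, 9, 8, 9, 9],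
  [9, 9, 9, 10, 9, 9, 9, 9, 9, 9, 9, 4, 9, 9, 9, 3, 9, 8, 9, 3, 9, 9, 9, 9, 3, 9, 9, 3, 9, 10, 9, 9, 10, 9, 9, 9, 10, 9, 3, 10, 8, 9, 9, 8, 9, 9, 8, 9, 4, 3, 9, 9, 10, 9, 9, 9],
  [9, 9, 9, 10, 9, 9, 9, 9, 9, 9, 9, 8, 8, 9, 9, 3, 3, 4, 9, 9, 9, 3, 9, 9, 9, 8, 9, 9, 9, 10, 9, 9, 10, 9, 9, 10, 10, 9, 9, 9, 8, 9, 9, 9, 9, 9, 8, 9, 9, 10, 9, 9, 9, 9, 9, 9],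
  [9, 10, 9, 9, 9, 9, 9, 9, 9, 8, 9, 9, 9, 9, 9, 8, 9, 10, 9, 9, 8, 9, 9, 9, 9, 10, 9, 8, 9, 9, 9, 8, 9, 8, 9, 9, 9, 9, 9, 10, 9, 9, 9, 9, 10, 9, 9, 9, 9, 9, 9, 9, 9, 9, 9, 10],
  [9, 9, 10, 3, 9, 9, 9, 8, 9, 9, 9, 3, 9, 9, 8, 8, 9, 9, 9, 9, 9, 9, 9, 9, 9, 9, 9, 8, 9, 10, 9, 9, 10, 9, 10, 9, 9, 8, 9, 9, 9, 10, 3, 9, 9, 9, 9, 9, 9, 9, 9, 4, 9, 9, 10, 9],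
  [9, 9, 9, 9, 9, 9, 9, 8, 9, 9, 8, 8, 9, 9, 9, 9, 9, 9, 9, 9, 9, 9, 9, 9, 9, 9, 9, 9, 3, 3, 9, 9, 9, 8, 9, 9, 9, 4, 4, 9, 8, 9, 9, 9, 8, 9, 9, 9, 9, 9, 9, 9, 9, 9, 9, 9],
  [4, 9, 9, 9, 10, 9, 9, 9, 9, 9, 9, 9, 9, 9, 9, 9, 9, 9, 9, 9, 4, 9, 9, 8, 9, 9, 9, 9, 9, 9, 9, 3, 9, 9, 9, 9, 9, 10, 10, 9, 9, 9, 9, 10, 9, 9, 9, 8, 8, 9, 10, 9, 9, 3, 10, 8],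
  [9, 9, 9, 9, 3, 9, 10, 9, 10, 9, 9, 8, 9, 9, 10, 8, 9, 9, 10, 8, 9, 9, 9, 9, 9, 9, 9, 9, 9, 9, 10, 9, 9, 10, 9, 9, 9, 3, 9, 9, 9, 3, 9, 8, 9, 3, 9, 8, 9, 8, 9, 9, 9, 9, 9, 9],
  [9, 10, 8, 9, 9, 9, 9, 9, 9, 8, 9, 9, 8, 9, 9, 4, 9, 9, 10, 9, 9, 8, 9, 10, 9, 9, 9, 3, 9, 9, 9, 9, 9, 9, 9, 10, 9, 9, 10, 9, 9, 9, 8, 3, 10, 9, 3, 9, 9, 9, 9, 9, 9, 9, 9, 9],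
  [9, 9, 9, 3, 9, 9, 9, 9, 9, 9, 9, 9, 8, 9, 9, 8, 9, 9, 9, 9, 9, 9, 9, 10, 9, 9, 3, 4, 9, 10, 9, 9, 10, 9, 9, 9, 9, 8, 9, 9, 9, 10, 9, 8, 10, 9, 4, 9, 9, 9, 9, 9, 9, 9, 9, 10],
  [9, 9, 9, 9, 9, 3, 9, 9, 9, 9, 3, 9, 9, 10, 9, 10, 9, 9, 9, 9, 9, 9, 9, 8, 9, 9, 10, 9, 9, 8, 9, 9, 9, 4, 8, 8, 9, 10, 9, 9, 9, 9, 10, 9, 9, 9, 9, 3, 8, 9, 10, 9, 9, 9, 9, 9],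
  [9, 3, 9, 9, 9, 8, 9, 9, 9, 9, 9, 9, 9, 10, 9, 3, 10, 9, 9, 9, 9, 10, 10, 9, 8, 9, 9, 9, 3, 9, 9, 9, 9, 8, 9, 9, 9, 9, 8, 8, 9, 8, 9, 10, 9, 9, 9, 9, 9, 9, 3, 10, 9, 9, 9, 9],
  [8, 10, 9, 8, 10, 9, 9, 4, 10, 9, 9, 8, 9, 8, 9, 4, 9, 9, 7, 9, 9, 8, 6, 9, 10, 9, 9, 9, 9, 10, 9, 9, 6, 10, 7, 9, 9, 9, 10, 9, 9, 9, 8, 9, 9, 8, 7, 8, 9, 9, 9, 4, 9, 10, 10, 8],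
  [9, 9, 9, 7, 8, 9, 9, 10, 9, 8, 9, 9, 9, 9, 9, 10, 9, 9, 9, 4, 9, 9, 9, 9, 9, 9, 9, 9, 9, 8, 9, 9, 8, 9, 9, 9, 7, 10, 9, 9, 9, 9, 9, 9, 6, 9, 9, 9, 9, 6, 10, 9, 9, 9, 4, 9],
  [9, 9, 9, 9, 9, 9, 8, 9, 9, 9, 9, 9, 10, 9, 8, 9, 9, 9, 8, 9, 9, 9, 9, 9, 8, 8, 9, 9, 9, 9, 9, 10, 9, 9, 9, 9, 9, 9, 9, 9, 9, 9, 9, 10, 9, 9, 6, 6, 8, 9, 10, 9, 9, 10, 10, 9],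
  [9, 9, 6, 9, 10, 9, 9, 9, 9, 10, 10, 9, 9, 9, 9, 9, 9, 6, 9, 7, 9, 8, 9, 9, 7, 9, 9, 9, 9, 6, 9, 9, 10, 10, 10, 9, 8, 9, 9, 6, 9, 10, 9, 9, 9, 9, 9, 9, 9, 9, 9, 9, 9, 9, 10, 9],
  [9, 6, 8, 9, 9, 9, 6, 9, 9, 9, 9, 9, 4, 4, 9, 9, 9, 8, 9, 9, 9, 8, 9, 9, 9, 9, 8, 9, 10, 9, 6, 8, 9, 9, 9, 10, 9, 9, 9, 9, 9, 9, 9, 6, 9, 9, 8, 9, 9, 9, 8, 9, 9, 9, 8, 9],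
  [8, 9, 9, 6, 9, 8, 9, 9, 9, 6, 9, 9, 9, 4, 10, 8, 9, 9, 9, 9, 9, 9, 9, 9, 9, 9, 9, 9, 9, 9, 9, 4, 8, 9, 7, 9, 6, 9, 9, 9, 9, 9, 4, 6, 9, 9, 9, 8, 9, 8, 9, 9, 8, 9, 9, 9],
  [9, 9, 4, 10, 8, 9, 9, 9, 9, 4, 9, 9, 6, 9, 9, 10, 9, 9, 9, 9, 9, 10, 9, 9, 9, 9, 9, 10, 9, 9, 9, 6, 8, 4, 9, 9, 9, 10, 9, 9, 9, 6, 9, 9, 9, 6, 9, 9, 9, 9, 7, 9, 9, 9, 8, 9],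
  [10, 10, 9, 9, 9, 9, 9, 9, 9, 6, 9, 9, 9, 9, 9, 9, 9, 9, 9, 9, 10, 8, 8, 9, 6, 9, 10, 9, 9, 4, 9, 9, 4, 9, 9, 9, 9, 9, 9, 9, 9, 9, 9, 6, 9, 9, 9, 9, 6, 9, 9, 9, 9, 9, 9, 9],
  [9, 9, 9, 8, 9, 9, 9, 9, 9, 8, 9, 9, 6, 9, 8, 7, 9, 9, 9, 9, 9, 9, 7, 9, 10, 9, 9, 9, 9, 6, 6, 9, 10, 9, 8, 9, 6, 9, 9, 9, 9, 9, 9, 9, 9, 9, 9, 9, 9, 9, 9, 9, 9, 9, 9, 9],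
  [9, 9, 9, 9, 9, 9, 9, 6, 9, 9, 9, 9, 9, 9, 9, 7, 10, 6, 9, 8, 9, 9, 10, 9, 9, 8, 8, 9, 9, 9, 9, 9, 9, 9, 9, 9, 10, 9, 9, 4, 9, 9, 8, 9, 9, 9, 9, 9, 9, 9, 10, 10, 9, 9, 9, 8],
  [9, 9, 9, 9, 9, 9, 9, 9, 9, 9, 9, 9, 10, 4, 9, 9, 9, 9, 8, 9, 10, 9, 9, 9, 9, 9, 10, 9, 9, 9, 9, 9, 9, 9, 9, 9, 9, 9, 9, 7, 6, 9, 6, 9, 9, 9, 8, 8, 9, 9, 9, 9, 9, 9, 9, 9],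
  [9, 9, 9, 10, 9, 9, 9, 9, 9, 9, 9, 8, 9, 9, 9, 9, 9, 9, 9, 9, 9, 7, 9, 9, 9, 9, 9, 9, 9, 7, 9, 9, 9, 9, 10, 9, 9, 9, 8, 9, 9, 9, 9, 9, 9, 9, 8, 8, 9, 9, 9, 9, 9, 9, 9, 9],
  [9, 6, 7, 9, 9, 9, 9, 9, 9, 9, 9, 9, 8, 9, 9, 9, 9, 9, 9, 9, 9, 9, 10, 9, 9, 8, 9, 9, 9, 9, 9, 9, 10, 9, 9, 9, 10, 9, 9, 8, 9, 9, 9, 9, 9, 9, 9, 9, 9, 9, 9, 9, 4, 9, 6, 9],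
  [7, 9, 9, 10, 8, 6, 9, 9, 9, 9, 9, 9, 9, 9, 9, 9, 9, 9, 8, 9, 6, 9, 9, 9, 9, 9, 9, 9, 4, 9, 9, 9, 10, 9, 9, 7, 9, 8, 9, 9, 8, 9, 9, 9, 9, 9, 9, 10, 9, 9, 9, 9, 10, 4, 9, 9],
  [9, 9, 9, 9, 9, 8, 9, 9, 9, 9, 10, 9, 9, 9, 9, 9, 9, 6, 9, 10, 9, 9, 9, 10, 10, 9, 9, 9, 9, 6, 9, 9, 9, 9, 10, 6, 8, 9, 8, 9, 9, 10, 9, 9, 9, 9, 9, 9, 9, 4, 6, 9, 8, 4, 9, 9],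
  [9, 6, 9, 9, 10, 9, 9, 8, 6, 9, 10, 9, 9, 9, 9, 9, 9, 9, 9, 8, 9, 9, 9, 9, 9, 9, 9, 8, 9, 9, 9, 9, 9, 4, 9, 9, 9, 10, 9, 9, 9, 9, 9, 9, 9, 9, 9, 9, 9, 9, 9, 7, 9, 9, 9, 9],
  [9, 9, 10, 9, 9, 9, 9, 4, 9, 9, 9, 9, 9, 9, 9, 9, 9, 9, 9, 8, 9, 10, 9, 9, 9, 9, 9, 8, 9, 10, 9, 9, 9, 4, 9, 9, 10, 9, 9, 9, 9, 9, 9, 9, 9, 9, 9, 9, 9, 9, 9, 9, 9, 9, 9, 9],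
  [9, 6, 9, 9, 8, 9, 9, 9, 10, 9, 9, 9, 9, 9, 10, 9, 9, 10, 9, 8, 9, 9, 10, 9, 9, 9, 9, 9, 8, 4, 9, 9, 9, 9, 9, 9, 9, 9, 6, 4, 9, 9, 9, 9, 9, 9, 7, 9, 9, 8, 7, 9, 9, 9, 9, 9],
  [9, 7, 9, 9, 9, 9, 9, 6, 9, 9, 8, 9, 9, 4, 9, 9, 9, 6, 6, 9, 9, 9, 7, 9, 9, 7, 9, 9, 9, 9, 8, 9, 9, 9, 10, 6, 9, 9, 9, 9, 9, 9, 9, 10, 8, 9, 10, 9, 9, 9, 9, 8, 9, 9, 9, 8],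
  [10, 9, 9, 9, 9, 9, 9, 8, 9, 9, 10, 9, 9, 9, 9, 9, 9, 9, 9, 8, 9, 9, 9, 9, 9, 8, 4, 9, 9, 9, 10, 9, 9, 9, 9, 10, 9, 9, 9, 8, 9, 6, 8, 9, 9, 9, 9, 9, 10, 9, 9, 7, 9, 9, 9, 6],
  [9, 6, 9, 9, 9, 9, 9, 9, 9, 9, 9, 9, 9, 9, 9, 9, 9, 9, 9, 4, 9, 9, 7, 8, 8, 9, 9, 9, 9, 8, 9, 9, 9, 9, 9, 9, 9, 10, 6, 8, 9, 9, 9, 10, 8, 9, 10, 9, 9, 9, 10, 9, 9, 10, 9, 9],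
  [9, 9, 9, 9, 7, 7, 10, 9, 8, 9, 8, 9, 8, 9, 9, 9, 6, 9, 9, 9, 8, 9, 9, 9, 9, 9, 9, 9, 9, 9, 6, 10, 10, 6, 8, 9, 9, 9, 10, 9, 9, 9, 9, 9, 9, 9, 9, 9, 8, 6, 9, 9, 9, 9, 9, 9],
  [9, 10, 9, 9, 9, 9, 9, 10, 9, 9, 9, 9, 9, 9, 9, 9, 10, 9, 9, 10, 9, 9, 9, 10, 6, 9, 9, 9, 6, 10, 8, 9, 9, 9, 9, 9, 7, 9, 9, 10, 8, 9, 9, 6, 6, 9, 9, 7, 9, 10, 9, 9, 9, 9, 9, 9],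
  [9, 7, 9, 9, 10, 9, 9, 9, 9, 9, 9, 8, 9, 9, 9, 9, 9, 9, 9, 6, 9, 9, 9, 9, 10, 9, 10, 4, 9, 7, 9, 9, 10, 9, 9, 9, 9, 9, 6, 10, 9, 9, 6, 9, 10, 9, 9, 9, 9, 10, 9, 9, 9, 6, 7, 9],
  [9, 9, 4, 10, 9, 9, 9, 9, 9, 9, 9, 9, 9, 9, 9, 9, 9, 8, 9, 8, 6, 9, 9, 9, 8, 4, 6, 9, 9, 9, 9, 10, 9, 9, 9, 9, 9, 10, 7, 9, 9, 9, 9, 9, 9, 9, 9, 9, 9, 7, 7, 9, 9, 9, 9, 4],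
  [4, 9, 8, 9, 9, 9, 4, 10, 9, 9, 8, 9, 9, 9, 9, 9, 9, 9, 9, 9, 9, 9, 9, 9, 8, 9, 9, 6, 9, 9, 8, 9, 8, 6, 9, 8, 9, 9, 9, 9, 9, 8, 6, 9, 9, 9, 9, 9, 8, 9, 9, 9, 9, 10, 9, 6],
  [9, 7, 9, 9, 3, 6, 9, 9, 9, 9, 8, 8, 9, 9, 9, 9, 9, 9, 9, 9, 8, 9, 9, 9, 9, 6, 9, 9, 9, 9, 9, 7, 9, 9, 9, 8, 9, 3, 9, 9, 9, 8, 9, 9, 9, 8, 9, 8, 8, 9, 9, 8, 9, 9, 9, 8],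
  [9, 9, 9, 10, 9, 9, 9, 8, 9, 3, 9, 9, 9, 9, 3, 9, 9, 9, 9, 8, 9, 9, 10, 9, 9, 9, 9, 8, 9, 9, 9, 9, 10, 8, 10, 9, 9, 9, 9, 9, 9, 9, 9, 9, 9, 9, 9, 9, 9, 9, 9, 9, 9, 9, 9, 9],
  [9, 7, 9, 9, 10, 9, 9, 9, 9, 9, 9, 9, 9, 9, 6, 9, 9, 9, 9, 9, 8, 9, 9, 9, 9, 9, 9, 9, 9, 9, 9, 7, 9, 6, 9, 9, 9, 10, 7, 9, 9, 9, 9, 10, 9, 9, 7, 9, 9, 10, 10, 9, 9, 9, 10, 8],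
  [9, 9, 9, 9, 10, 9, 9, 3, 9, 7, 10, 6, 9, 9, 9, 9, 9, 9, 9, 10, 9, 4, 9, 9, 10, 9, 9, 9, 9, 9, 9, 9, 10, 10, 7, 9, 8, 9, 6, 9, 9, 7, 9, 9, 9, 9, 9, 9, 9, 9, 9, 3, 9, 9, 10, 9],
  [9, 9, 9, 10, 9, 9, 9, 9, 9, 9, 9, 8, 9, 9, 9, 9, 9, 9, 9, 9, 9, 7, 9, 9, 9, 9, 9, 9, 9, 7, 9, 9, 9, 9, 10, 9, 9, 9, 8, 9, 9, 9, 9, 9, 9, 9, 8, 8, 9, 9, 9, 9, 9, 9, 9, 9],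
  [9, 9, 8, 8, 9, 9, 9, 9, 9, 6, 9, 6, 9, 9, 9, 9, 9, 9, 9, 9, 9, 9, 9, 10, 6, 9, 9, 9, 9, 3, 9, 10, 3, 9, 8, 9, 8, 9, 9, 9, 9, 9, 9, 9, 9, 9, 6, 9, 9, 9, 9, 9, 9, 10, 9, 10],
  [9, 9, 9, 10, 9, 7, 6, 9, 9, 9, 9, 9, 8, 6, 9, 9, 9, 9, 9, 9, 9, 9, 9, 9, 9, 8, 9, 9, 9, 7, 9, 9, 10, 9, 9, 10, 7, 9, 10, 9, 9, 9, 9, 9, 7, 9, 9, 10, 9, 10, 9, 9, 9, 9, 9, 9],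
  [9, 10, 9, 6, 9, 9, 9, 9, 9, 9, 9, 9, 6, 9, 9, 9, 9, 9, 9, 9, 9, 9, 9, 9, 9, 9, 7, 9, 9, 9, 9, 10, 9, 9, 9, 9, 9, 7, 7, 9, 9, 8, 9, 10, 9, 9, 7, 3, 9, 7, 9, 8, 9, 10, 10, 9],
  [9, 9, 6, 6, 9, 9, 9, 9, 9, 10, 9, 9, 9, 9, 7, 9, 9, 9, 9, 9, 9, 9, 9, 9, 6, 8, 9, 9, 9, 9, 9, 9, 9, 9, 9, 7, 9, 9, 9, 9, 9, 8, 9, 10, 9, 9, 9, 9, 9, 6, 8, 9, 8, 9, 9, 9],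
  [9, 9, 9, 9, 9, 9, 6, 9, 8, 7, 9, 6, 9, 9, 9, 9, 9, 9, 8, 9, 9, 9, 8, 8, 9, 9, 7, 8, 9, 9, 9, 9, 9, 9, 9, 8, 8, 9, 9, 9, 9, 9, 9, 9, 9, 8, 9, 9, 8, 3, 9, 8, 9, 9, 3, 9],
  [9, 10, 9, 6, 9, 8, 9, 9, 9, 8, 4, 6, 9, 9, 9, 9, 9, 3, 9, 9, 8, 10, 9, 9, 9, 9, 9, 9, 6, 9, 9, 9, 8, 8, 9, 8, 9, 9, 9, 9, 9, 8, 9, 9, 6, 9, 9, 8, 9, 9, 9, 9, 8, 9, 9, 9],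
  [9, 8, 9, 9, 8, 6, 9, 9, 9, 8, 9, 9, 9, 9, 9, 6, 4, 9, 9, 8, 9, 7, 9, 9, 9, 9, 9, 9, 8, 9, 9, 9, 9, 9, 8, 10, 9, 9, 9, 9, 9, 9, 9, 9, 9, 9, 9, 9, 9, 8, 9, 9, 9, 8, 8, 9],
  [9, 9, 9, 9, 9, 4, 7, 9, 9, 9, 9, 6, 9, 9, 9, 9, 10, 8, 3, 9, 9, 9, 9, 9, 9, 8, 9, 6, 7, 9, 7, 9, 9, 9, 9, 9, 9, 3, 9, 9, 9, 9, 9, 9, 9, 9, 9, 9, 9, 9, 9, 9, 8, 9, 9, 9],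
  [9, 9, 10, 9, 9, 9, 9, 8, 9, 9, 3, 9, 9, 9, 9, 9, 9, 9, 9, 8, 6, 10, 9, 9, 9, 9, 9, 8, 9, 10, 9, 9, 9, 8, 9, 9, 7, 9, 9, 9, 6, 9, 9, 9, 9, 9, 9, 9, 9, 9, 9, 9, 9, 9, 9, 9],
  [10, 9, 7, 10, 9, 9, 9, 9, 9, 9, 9, 9, 9, 9, 9, 9, 8, 9, 8, 9, 9, 7, 9, 9, 6, 9, 10, 9, 9, 3, 7, 10, 7, 9, 9, 9, 9, 6, 9, 9, 9, 9, 10, 9, 9, 9, 9, 9, 9, 9, 9, 9, 9, 9, 9, 7],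
  [9, 9, 9, 9, 9, 9, 9, 9, 9, 6, 9, 8, 9, 9, 9, 9, 9, 9, 9, 9, 10, 9, 9, 9, 9, 9, 7, 6, 9, 9, 6, 9, 9, 9, 9, 8, 9, 9, 8, 9, 9, 9, 6, 8, 9, 9, 9, 9, 9, 9, 9, 9, 9, 10, 9, 7],
  [9, 8, 9, 9, 9, 10, 9, 8, 9, 9, 9, 8, 9, 9, 9, 9, 8, 9, 9, 8, 9, 9, 8, 4, 9, 8, 9, 9, 9, 9, 7, 9, 9, 9, 8, 9, 9, 9, 9, 9, 9, 9, 6, 8, 9, 9, 9, 9, 9, 9, 9, 9, 9, 9, 9, 6],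
  [10, 7, 9, 9, 9, 9, 9, 9, 4, 9, 6, 9, 9, 9, 9, 9, 3, 9, 9, 9, 7, 9, 9, 9, 9, 9, 10, 9, 8, 9, 8, 9, 9, 9, 9, 9, 9, 9, 9, 9, 9, 9, 8, 9, 9, 9, 9, 9, 9, 9, 6, 9, 9, 9, 9, 9],
  [9, 8, 9, 9, 9, 9, 10, 9, 4, 9, 9, 10, 9, 9, 9, 9, 9, 9, 9, 9, 9, 9, 9, 9, 9, 9, 9, 9, 9, 8, 9, 9, 9, 9, 9, 9, 8, 9, 9, 9, 9, 9, 3, 9, 8, 9, 9, 9, 9, 8, 8, 9, 8, 8, 8, 9],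
  [9, 9, 9, 3, 9, 9, 9, 9, 8, 6, 9, 9, 9, 9, 9, 9, 9, 9, 9, 9, 9, 7, 7, 9, 9, 9, 9, 9, 8, 10, 4, 9, 7, 9, 9, 9, 9, 9, 9, 9, 9, 9, 8, 9, 9, 9, 9, 9, 9, 9, 9, 6, 9, 9, 9, 3],
  [9, 8, 9, 9, 9, 6, 9, 9, 9, 9, 9, 9, 9, 9, 9, 9, 9, 9, 4, 8, 9, 9, 9, 9, 8, 8, 9, 9, 8, 8, 9, 7, 9, 9, 8, 9, 9, 9, 9, 8, 9, 8, 9, 9, 9, 9, 9, 6, 9, 9, 9, 10, 9, 9, 9, 9],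
  [9, 9, 10, 9, 9, 9, 6, 7, 9, 9, 9, 8, 9, 9, 9, 9, 9, 9, 9, 9, 8, 9, 9, 9, 9, 9, 8, 9, 9, 9, 9, 9, 9, 10, 9, 9, 10, 6, 8, 9, 9, 9, 9, 9, 9, 9, 9, 9, 9, 9, 9, 9, 9, 3, 9, 9],
  [8, 8, 9, 9, 9, 6, 10, 9, 9, 9, 9, 9, 9, 10, 9, 9, 10, 9, 7, 9, 8, 9, 9, 9, 9, 9, 8, 9, 9, 9, 9, 9, 9, 9, 9, 9, 9, 9, 9, 9, 9, 9, 3, 9, 9, 9, 9, 9, 9, 9, 9, 9, 6, 9, 9, 9],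
  [9, 9, 9, 9, 9, 9, 8, 9, 9, 9, 10, 9, 9, 9, 9, 9, 8, 9, 9, 9, 9, 9, 6, 9, 9, 9, 9, 9, 8, 9, 8, 9, 9, 9, 6, 9, 9, 10, 9, 9, 9, 10, 9, 9, 9, 3, 9, 9, 9, 9, 7, 9, 9, 9, 9, 9],
  [9, 9, 9, 9, 9, 9, 9, 10, 9, 9, 9, 9, 9, 9, 7, 7, 9, 9, 9, 9, 9, 10, 9, 9, 9, 9, 9, 10, 9, 9, 9, 9, 8, 9, 8, 9, 10, 10, 9, 9, 9, 9, 9, 9, 9, 7, 6, 9, 9, 6, 10, 7, 9, 9, 9, 9],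
  [9, 9, 9, 9, 9, 9, 9, 9, 9, 9, 9, 9, 9, 7, 9, 8, 9, 9, 7, 8, 9, 9, 9, 9, 8, 9, 9, 8, 10, 9, 10, 9, 9, 9, 9, 9, 9, 9, 9, 9, 9, 9, 9, 9, 9, 9, 9, 9, 9, 9, 9, 9, 9, 9, 9, 9],
  [9, 9, 10, 10, 9, 9, 9, 9, 4, 9, 9, 9, 9, 9, 9, 6, 9, 9, 3, 6, 9, 9, 9, 9, 9, 9, 9, 9, 8, 9, 8, 9, 9, 9, 7, 9, 7, 9, 9, 9, 9, 9, 8, 9, 9, 9, 9, 9, 9, 9, 9, 9, 9, 9, 9, 9],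
  [9, 9, 6, 9, 9, 9, 9, 10, 9, 7, 9, 10, 9, 10, 9, 10, 7, 9, 9, 7, 9, 9, 9, 9, 9, 9, 9, 9, 10, 6, 9, 9, 9, 9, 9, 8, 9, 9, 9, 9, 9, 9, 7, 9, 9, 9, 8, 9, 9, 10, 9, 9, 9, 9, 9, 9],
  [9, 9, 8, 9, 9, 10, 9, 9, 9, 9, 9, 9, 9, 9, 9, 9, 9, 9, 9, 6, 9, 9, 9, 9, 9, 4, 9, 9, 9, 7, 9, 9, 10, 9, 8, 9, 9, 9, 10, 7, 8, 9, 9, 8, 9, 9, 8, 9, 9, 7, 9, 9, 9, 9, 9, 3],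
  [9, 9, 9, 9, 9, 9, 9, 7, 8, 9, 9, 9, 9, 3, 9, 9, 9, 9, 9, 9, 9, 9, 9, 7, 9, 10, 9, 8, 9, 9, 8, 9, 9, 9, 9, 9, 9, 9, 8, 7, 9, 9, 9, 9, 6, 10, 8, 9, 9, 9, 4, 9, 9, 9, 9, 10],
  [9, 10, 3, 9, 9, 9, 9, 7, 9, 8, 4, 9, 9, 6, 9, 9, 9, 7, 9, 9, 8, 9, 10, 9, 9, 9, 9, 9, 9, 8, 9, 9, 9, 9, 9, 9, 9, 9, 9, 9, 9, 9, 9, 10, 9, 9, 9, 8, 9, 9, 7, 9, 8, 9, 9, 9],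
  [9, 9, 9, 9, 9, 9, 8, 9, 6, 9, 9, 6, 9, 9, 9, 10, 9, 9, 9, 9, 7, 9, 7, 9, 6, 9, 9, 9, 9, 9, 8, 8, 9, 8, 9, 9, 10, 9, 8, 9, 9, 9, 3, 9, 9, 7, 8, 9, 9, 9, 9, 7, 9, 9, 9, 9],
  [9, 9, 9, 9, 9, 9, 9, 9, 9, 9, 9, 9, 9, 9, 8, 10, 9, 8, 9, 3, 9, 9, 9, 9, 9, 9, 9, 9, 6, 9, 8, 10, 9, 9, 9, 9, 9, 7, 9, 9, 7, 9, 7, 10, 9, 9, 9, 3, 8, 9, 9, 8, 9, 9, 9, 8],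
  [9, 9, 9, 8, 9, 9, 9, 8, 9, 7, 9, 9, 9, 9, 9, 9, 10, 9, 9, 9, 9, 9, 9, 3, 9, 9, 8, 9, 6, 7, 9, 9, 9, 9, 9, 9, 9, 8, 9, 4, 9, 9, 8, 9, 9, 9, 9, 9, 9, 9, 9, 9, 10, 7, 10, 9],
  [9, 9, 9, 9, 9, 9, 9, 9, 9, 8, 9, 9, 9, 10, 9, 9, 9, 7, 9, 9, 8, 7, 9, 9, 9, 9, 9, 9, 9, 9, 7, 9, 9, 8, 8, 9, 9, 9, 9, 6, 8, 9, 9, 9, 9, 9, 6, 9, 9, 9, 7, 10, 9, 4, 9, 6],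
  [9, 9, 9, 9, 7, 7, 9, 9, 8, 9, 8, 9, 6, 9, 9, 9, 8, 9, 10, 9, 9, 9, 9, 6, 9, 9, 9, 9, 10, 9, 9, 9, 9, 9, 9, 9, 9, 9, 9, 10, 9, 7, 9, 9, 8, 9, 9, 9, 9, 9, 9, 9, 8, 6, 8, 9],
  [8, 7, 9, 9, 9, 8, 9, 9, 10, 8, 9, 8, 9, 9, 10, 8, 9, 10, 9, 9, 8, 9, 9, 9, 7, 9, 10, 9, 4, 6, 7, 9, 9, 9, 9, 9, 9, 9, 7, 9, 8, 8, 8, 9, 10, 8, 10, 8, 9, 9, 10, 6, 9, 9, 7, 9],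
  [9, 8, 9, 9, 9, 9, 9, 9, 9, 9, 9, 9, 10, 9, 9, 9, 8, 9, 9, 9, 9, 9, 9, 8, 9, 9, 9, 10, 9, 4, 10, 6, 9, 7, 9, 9, 8, 9, 9, 9, 9, 9, 9, 9, 8, 9, 10, 9, 7, 9, 9, 9, 9, 9, 9, 9],
  [9, 9, 8, 9, 9, 10, 7, 9, 9, 8, 8, 8, 9, 9, 9, 9, 9, 9, 10, 4, 9, 9, 9, 9, 9, 9, 9, 9, 9, 9, 9, 9, 9, 9, 8, 10, 6, 9, 9, 7, 9, 9, 9, 9, 9, 10, 9, 9, 9, 9, 9, 9, 9, 9, 9, 9],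
  [9, 7, 9, 9, 9, 9, 9, 9, 9, 9, 9, 8, 9, 9, 9, 9, 9, 9, 6, 9, 8, 9, 9, 8, 9, 9, 9, 9, 9, 9, 9, 9, 9, 3, 9, 9, 9, 7, 9, 9, 9, 9, 9, 10, 9, 8, 7, 9, 4, 9, 10, 8, 9, 10, 9, 9],
  [8, 9, 8, 9, 9, 9, 8, 9, 7, 9, 9, 9, 9, 9, 9, 9, 9, 9, 10, 9, 10, 8, 7, 10, 9, 9, 9, 9, 9, 9, 4, 9, 6, 9, 10, 9, 9, 9, 3, 9, 9, 6, 9, 9, 9, 9, 6, 9, 9, 9, 9, 9, 9, 9, 3, 8],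
  [9, 9, 9, 9, 9, 7, 9, 8, 9, 9, 9, 8, 9, 8, 9, 9, 9, 9, 9, 9, 10, 8, 9, 9, 9, 9, 9, 7, 9, 9, 9, 6, 3, 9, 9, 9, 10, 9, 9, 9, 9, 9, 4, 8, 9, 9, 9, 9, 9, 9, 9, 9, 10, 7, 9, 9],
  [6, 9, 9, 7, 9, 9, 9, 9, 9, 9, 8, 6, 9, 8, 9, 9, 9, 9, 8, 9, 9, 9, 9, 9, 9, 9, 9, 9, 9, 9, 9, 9, 9, 3, 10, 10, 9, 8, 9, 9, 9, 9, 9, 10, 9, 9, 9, 9, 9, 9, 9, 9, 9, 9, 9, 9],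
  [9, 9, 9, 9, 9, 6, 9, 9, 8, 9, 9, 9, 9, 9, 6, 4, 9, 9, 9, 9, 3, 9, 7, 9, 8, 10, 9, 9, 9, 9, 9, 9, 7, 9, 9, 9, 9, 9, 9, 9, 9, 9, 8, 9, 9, 9, 9, 9, 9, 9, 9, 9, 7, 3, 9, 9],
  [7, 9, 9, 10, 8, 9, 9, 9, 9, 9, 9, 9, 9, 7, 9, 9, 9, 9, 9, 9, 9, 6, 6, 9, 9, 8, 9, 9, 8, 9, 9, 9, 10, 9, 9, 9, 9, 8, 9, 6, 8, 9, 9, 8, 9, 9, 9, 7, 9, 9, 9, 9, 9, 9, 9, 10],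
  [9, 9, 4, 9, 8, 6, 8, 9, 9, 9, 9, 7, 9, 3, 9, 9, 9, 9, 9, 6, 10, 9, 9, 7, 8, 9, 9, 9, 10, 9, 9, 6, 8, 8, 9, 9, 9, 9, 9, 9, 9, 9, 9, 3, 9, 10, 9, 10, 9, 9, 9, 9, 9, 9, 9, 9],
  [9, 9, 9, 3, 6, 9, 9, 8, 7, 9, 9, 9, 9, 9, 10, 9, 8, 9, 10, 8, 9, 9, 9, 9, 10, 9, 9, 9, 8, 9, 9, 9, 9, 9, 9, 9, 9, 9, 7, 9, 9, 9, 9, 8, 9, 9, 10, 9, 9, 8, 9, 9, 9, 9, 9, 9],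
  [6, 9, 9, 8, 9, 9, 9, 8, 9, 9, 10, 9, 9, 8, 9, 9, 9, 6, 9, 9, 9, 8, 9, 7, 7, 9, 8, 9, 9, 9, 9, 9, 9, 9, 9, 7, 9, 9, 9, 9, 9, 10, 8, 9, 9, 9, 9, 9, 10, 9, 6, 9, 9, 9, 9, 9],
  [10, 9, 10, 9, 9, 9, 9, 9, 8, 7, 9, 9, 7, 9, 9, 9, 9, 9, 8, 9, 6, 9, 9, 9, 8, 9, 3, 9, 9, 8, 9, 7, 9, 9, 9, 8, 6, 9, 8, 9, 7, 9, 9, 6, 9, 9, 9, 9, 9, 9, 9, 9, 9, 9, 9, 9],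
  [9, 9, 9, 8, 9, 9, 9, 9, 9, 9, 9, 9, 9, 9, 9, 9, 9, 9, 7, 9, 9, 9, 9, 7, 9, 10, 8, 9, 10, 9, 9, 9, 8, 9, 9, 9, 9, 9, 4, 9, 6, 10, 9, 9, 8, 10, 9, 9, 9, 8, 9, 9, 9, 9, 9, 9],
  [9, 9, 4, 9, 9, 9, 9, 6, 9, 9, 9, 9, 9, 8, 10, 9, 9, 9, 9, 8, 6, 9, 9, 10, 9, 9, 8, 9, 9, 9, 9, 9, 8, 9, 9, 10, 9, 9, 9, 9, 9, 9, 8, 6, 9, 10, 3, 9, 7, 9, 9, 10, 9, 9, 9, 9],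
  [9, 9, 9, 9, 9, 9, 10, 9, 9, 9, 9, 9, 9, 9, 9, 9, 7, 9, 9, 9, 6, 9, 9, 8, 9, 10, 9, 9, 9, 9, 9, 8, 9, 3, 9, 8, 9, 9, 9, 9, 9, 9, 9, 8, 9, 6, 9, 9, 9, 9, 9, 9, 10, 9, 9, 9],
  [9, 10, 9, 9, 9, 9, 9, 9, 9, 9, 8, 8, 9, 9, 9, 9, 6, 9, 9, 9, 9, 9, 9, 8, 9, 9, 10, 9, 9, 9, 9, 9, 3, 9, 9, 9, 9, 9, 9, 9, 9, 9, 9, 10, 9, 9, 7, 9, 8, 9, 10, 8, 9, 9, 7, 8],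
  [7, 9, 9, 9, 8, 9, 9, 9, 9, 9, 9, 9, 7, 6, 9, 7, 9, 9, 8, 9, 9, 10, 9, 9, 9, 8, 9, 10, 8, 9, 9, 10, 3, 9, 8, 9, 9, 9, 9, 9, 9, 8, 9, 9, 9, 9, 9, 9, 9, 9, 9, 9, 9, 9, 9, 3],
  [3, 9, 9, 9, 10, 9, 9, 9, 9, 9, 9, 9, 9, 9, 9, 9, 8, 9, 7, 6, 9, 9, 9, 9, 10, 9, 9, 9, 9, 9, 9, 9, 9, 10, 10, 9, 8, 9, 9, 9, 9, 7, 9, 9, 8, 9, 9, 8, 9, 8, 9, 9, 8, 9, 9, 9],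
  [8, 9, 8, 9, 7, 10, 6, 6, 9, 9, 8, 9, 8, 9, 9, 9, 9, 9, 10, 3, 9, 9, 9, 9, 9, 9, 9, 9, 9, 10, 8, 9, 9, 9, 9, 9, 6, 9, 10, 9, 9, 9, 9, 3, 9, 9, 9, 9, 8, 9, 9, 9, 9, 10, 9, 9],
  [9, 9, 9, 7, 9, 9, 9, 9, 9, 9, 9, 8, 8, 9, 7, 8, 8, 9, 9, 9, 8, 9, 8, 9, 9, 9, 9, 9, 9, 9, 10, 3, 9, 9, 9, 10, 9, 9, 9, 9, 9, 9, 9, 9, 10, 9, 9, 6, 9, 9, 9, 9, 9, 9, 9, 10],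
  [9, 9, 9, 9, 10, 6, 7, 9, 8, 3, 9, 9, 8, 9, 9, 9, 9, 8, 10, 9, 3, 9, 9, 9, 9, 10, 9, 9, 9, 9, 8, 9, 9, 9, 9, 9, 9, 7, 9, 9, 7, 9, 9, 9, 9, 9, 9, 9, 9, 9, 8, 9, 9, 9, 8, 9],
  [4, 9, 9, 9, 10, 9, 8, 9, 9, 7, 9, 3, 9, 9, 9, 9, 9, 9, 9, 9, 9, 6, 9, 9, 9, 9, 9, 8, 9, 7, 8, 9, 9, 9, 10, 8, 9, 9, 9, 9, 9, 6, 3, 9, 9, 9, 6, 9, 8, 9, 9, 9, 9, 10, 10, 9],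
  [8, 9, 6, 9, 10, 9, 9, 3, 9, 9, 9, 9, 9, 9, 9, 9, 9, 9, 9, 9, 9, 8, 9, 9, 10, 9, 7, 8, 9, 9, 9, 9, 10, 9, 9, 9, 9, 9, 7, 10, 8, 9, 9, 9, 9, 8, 9, 9, 8, 9, 9, 9, 9, 9, 9, 9],
  [9, 9, 9, 8, 10, 10, 9, 8, 3, 9, 9, 9, 9, 9, 8, 9, 9, 9, 7, 9, 9, 8, 9, 9, 9, 9, 8, 9, 10, 9, 9, 9, 9, 9, 9, 9, 9, 9, 9, 6, 7, 9, 9, 9, 9, 9, 9, 9, 9, 9, 8, 9, 9, 10, 9, 9],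
  [9, 9, 9, 9, 9, 6, 9, 9, 9, 9, 8, 8, 9, 9, 10, 9, 4, 8, 10, 8, 9, 9, 9, 9, 9, 6, 9, 9, 9, 9, 9, 9, 9, 9, 8, 10, 7, 9, 9, 10, 9, 9, 9, 6, 9, 10, 9, 9, 9, 9, 3, 9, 9, 9, 9, 9],
  [9, 9, 9, 9, 4, 9, 3, 9, 7, 8, 9, 9, 9, 6, 9, 9, 9, 9, 7, 9, 10, 9, 7, 9, 9, 9, 9, 10, 9, 9, 9, 8, 9, 9, 9, 9, 7, 9, 9, 9, 9, 3, 9, 8, 9, 9, 9, 9, 9, 8, 9, 9, 9, 9, 8, 9],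
  [10, 9, 9, 9, 9, 10, 9, 6, 9, 10, 9, 9, 9, 9, 9, 9, 9, 9, 9, 8, 9, 9, 9, 9, 8, 9, 8, 9, 9, 9, 9, 10, 9, 7, 9, 9, 9, 9, 9, 8, 9, 9, 9, 9, 8, 9, 9, 9, 9, 9, 9, 9, 10, 9, 9, 8],
  [9, 9, 9, 9, 8, 8, 8, 9, 7, 9, 10, 9, 7, 7, 9, 9, 7, 7, 8, 6, 9, 9, 9, 9, 9, 8, 9, 9, 8, 9, 7, 9, 9, 6, 9, 9, 9, 8, 9, 8, 8, 8, 8, 6, 10, 8, 9, 9, 6, 9, 7, 7, 10, 9, 10, 9],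
  [9, 9, 9, 9, 9, 9, 7, 9, 8, 6, 9, 9, 9, 8, 9, 9, 7, 9, 8, 9, 9, 9, 9, 9, 6, 9, 9, 9, 7, 9, 7, 9, 9, 9, 9, 6, 9, 6, 9, 9, 9, 9, 8, 9, 6, 6, 9, 9, 9, 6, 9, 9, 6, 9, 9, 9],
  [9, 9, 9, 9, 9, 9, 6, 10, 9, 8, 6, 9, 9, 6, 8, 7, 9, 9, 9, 8, 6, 9, 9, 6, 7, 9, 9, 8, 9, 9, 9, 9, 9, 10, 9, 9, 9, 9, 9, 9, 9, 9, 9, 9, 9, 6, 9, 9, 9, 9, 9, 9, 9, 9, 9, 9],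
  [7, 10, 9, 9, 9, 9, 9, 9, 9, 9, 9, 9, 9, 9, 9, 6, 6, 9, 6, 9, 8, 9, 9, 8, 6, 9, 8, 9, 9, 9, 9, 8, 9, 9, 9, 9, 9, 9, 9, 9, 9, 6, 9, 9, 9, 9, 9, 9, 9, 9, 9, 6, 9, 10, 9, 7],
  [9, 9, 8, 9, 9, 9, 9, 9, 9, 9, 9, 9, 9, 9, 9, 9, 9, 8, 9, 9, 9, 9, 9, 6, 9, 8, 6, 9, 9, 7, 9, 6, 7, 9, 8, 7, 9, 9, 10, 7, 9, 9, 6, 9, 10, 9, 8, 9, 8, 9, 9, 9, 9, 9, 9, 9],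
  [9, 8, 9, 9, 8, 9, 9, 8, 9, 9, 9, 9, 9, 6, 9, 9, 9, 9, 9, 8, 9, 6, 6, 9, 9, 9, 8, 9, 8, 9, 6, 9, 9, 9, 9, 6, 9, 8, 9, 8, 9, 9, 8, 8, 6, 9, 9, 9, 7, 9, 9, 9, 7, 9, 9, 9],
  [9, 9, 6, 7, 9, 6, 9, 9, 6, 9, 9, 6, 9, 7, 9, 9, 9, 9, 9, 9, 9, 9, 9, 8, 9, 9, 10, 9, 9, 9, 10, 9, 10, 9, 9, 9, 9, 9, 7, 9, 8, 9, 9, 6, 9, 9, 9, 9, 9, 7, 7, 9, 7, 9, 7, 9],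
  [9, 9, 6, 9, 9, 7, 7, 9, 9, 9, 9, 9, 9, 8, 9, 9, 9, 9, 6, 9, 9, 9, 9, 9, 9, 9, 9, 9, 9, 6, 8, 9, 9, 9, 9, 9, 9, 7, 9, 7, 9, 6, 10, 9, 8, 10, 9, 9, 9, 9, 8, 8, 8, 9, 9, 9],
  [9, 9, 9, 7, 9, 9, 9, 9, 7, 8, 6, 9, 9, 6, 8, 9, 9, 9, 9, 9, 9, 9, 9, 9, 9, 8, 9, 9, 9, 6, 6, 9, 9, 9, 10, 9, 9, 9, 9, 9, 9, 9, 7, 9, 9, 6, 9, 9, 9, 9, 9, 9, 8, 9, 9, 9],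
  [8, 8, 9, 9, 9, 9, 6, 9, 9, 10, 9, 9, 9, 9, 7, 9, 9, 9, 9, 10, 6, 9, 9, 9, 6, 9, 9, 7, 9, 9, 9, 9, 9, 9, 9, 9, 9, 9, 9, 9, 9, 6, 9, 9, 9, 9, 9, 9, 9, 9, 6, 9, 9, 8, 6, 8],
  [8, 8, 9, 6, 9, 9, 9, 9, 9, 9, 10, 9, 9, 6, 6, 9, 6, 9, 9, 9, 9, 9, 6, 7, 9, 9, 9, 9, 9, 9, 9, 7, 9, 9, 9, 6, 9, 7, 9, 9, 9, 9, 6, 9, 9, 8, 9, 9, 6, 9, 9, 9, 9, 6, 8, 9],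
  [9, 9, 9, 9, 7, 9, 9, 9, 9, 9, 9, 6, 9, 9, 9, 6, 9, 9, 9, 9, 9, 6, 8, 9, 9, 8, 9, 9, 6, 9, 9, 9, 8, 9, 9, 9, 9, 9, 9, 6, 9, 9, 9, 9, 9, 9, 6, 9, 9, 9, 9, 7, 8, 10, 9, 10],
  [9, 9, 9, 9, 9, 9, 9, 7, 9, 9, 9, 9, 7, 10, 9, 7, 10, 7, 9, 9, 9, 7, 7, 9, 6, 9, 6, 6, 9, 9, 9, 9, 9, 9, 6, 9, 9, 9, 8, 9, 9, 8, 9, 10, 9, 9, 9, 9, 9, 9, 9, 7, 6, 9, 9, 9],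
  [6, 10, 9, 8, 9, 9, 6, 9, 7, 9, 9, 9, 7, 9, 9, 9, 7, 7, 9, 9, 9, 9, 7, 6, 6, 9, 9, 9, 9, 9, 9, 6, 9, 9, 9, 9, 9, 9, 9, 9, 9, 8, 9, 10, 9, 9, 10, 9, 9, 9, 9, 9, 6, 7, 10, 9],
  [9, 7, 8, 6, 9, 6, 9, 7, 6, 9, 9, 9, 8, 9, 9, 9, 7, 9, 6, 7, 9, 8, 9, 10, 9, 9, 9, 9, 9, 9, 8, 9, 9, 9, 9, 9, 9, 9, 9, 9, 9, 9, 9, 9, 7, 9, 8, 6, 8, 9, 9, 9, 9, 6, 6, 9],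
  [9, 9, 9, 9, 9, 8, 9, 9, 9, 9, 9, 7, 9, 9, 9, 10, 9, 8, 9, 9, 9, 9, 6, 6, 7, 9, 6, 6, 9, 9, 9, 9, 9, 9, 6, 9, 9, 9, 7, 9, 9, 8, 9, 9, 9, 9, 9, 9, 9, 9, 8, 9, 9, 9, 9, 9],
  [9, 6, 9, 7, 9, 9, 9, 9, 9, 6, 6, 8, 8, 9, 9, 9, 9, 8, 9, 9, 9, 8, 8, 9, 9, 9, 9, 6, 9, 9, 9, 9, 9, 9, 6, 7, 7, 9, 9, 6, 9, 9, 9, 9, 7, 9, 9, 7, 8, 9, 9, 9, 7, 9, 9, 9],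
  [10, 6, 9, 10, 9, 9, 9, 9, 8, 9, 9, 9, 9, 7, 8, 9, 9, 8, 9, 9, 9, 9, 9, 9, 8, 9, 9, 9, 9, 6, 9, 7, 7, 9, 9, 6, 9, 6, 9, 9, 9, 6, 6, 6, 6, 9, 8, 9, 8, 9, 9, 9, 7, 9, 9, 9],
  [9, 9, 9, 9, 8, 9, 8, 6, 10, 9, 9, 9, 10, 6, 9, 9, 9, 7, 8, 9, 9, 9, 6, 9, 9, 8, 9, 9, 6, 9, 10, 9, 6, 9, 9, 9, 9, 8, 6, 9, 8, 9, 9, 9, 9, 9, 9, 9, 9, 9, 10, 9, 9, 9, 7, 9],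
  [9, 9, 9, 8, 8, 9, 8, 9, 9, 9, 9, 9, 9, 9, 6, 9, 9, 7, 9, 9, 10, 9, 6, 9, 9, 6, 9, 9, 9, 9, 9, 8, 8, 6, 9, 9, 6, 8, 8, 8, 9, 6, 8, 9, 9, 9, 9, 9, 9, 8, 9, 9, 9, 9, 6, 9],
  [9, 7, 9, 6, 9, 8, 9, 9, 9, 9, 9, 9, 9, 6, 10, 8, 6, 6, 9, 9, 9, 9, 9, 9, 9, 9, 10, 9, 8, 9, 9, 9, 9, 9, 9, 6, 9, 9, 7, 9, 8, 9, 8, 9, 9, 8, 10, 9, 9, 9, 7, 9, 9, 9, 9, 9],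
  [6, 9, 10, 9, 9, 9, 9, 8, 9, 9, 7, 9, 6, 9, 9, 9, 9, 10, 9, 9, 9, 9, 9, 9, 7, 9, 9, 6, 8, 6, 9, 9, 6, 9, 7, 9, 9, 9, 9, 8, 9, 9, 8, 9, 9, 9, 9, 8, 9, 8, 9, 9, 9, 9, 10, 9],
  [9, 8, 9, 9, 6, 7, 9, 8, 9, 9, 9, 9, 9, 9, 8, 9, 9, 9, 9, 9, 9, 9, 6, 6, 9, 8, 8, 9, 9, 10, 9, 9, 10, 9, 9, 7, 9, 8, 9, 9, 9, 7, 6, 9, 6, 9, 6, 7, 9, 9, 9, 6, 9, 6, 9, 9],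
  [9, 9, 9, 10, 9, 9, 9, 9, 8, 9, 8, 9, 9, 9, 9, 9, 9, 9, 8, 9, 8, 9, 9, 8, 8, 9, 6, 9, 6, 8, 9, 9, 9, 8, 9, 9, 9, 9, 9, 6, 9, 8, 9, 7, 9, 9, 9, 9, 8, 9, 9, 9, 9, 9, 9, 9],
  [9, 9, 7, 9, 9, 9, 9, 9, 8, 10, 9, 9, 9, 7, 9, 9, 6, 9, 9, 9, 8, 9, 8, 9, 9, 9, 9, 8, 9, 9, 6, 7, 9, 6, 9, 9, 6, 9, 9, 9, 9, 6, 9, 10, 9, 9, 9, 9, 8, 9, 9, 8, 9, 9, 10, 9],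
  [8, 6, 9, 9, 10, 9, 9, 9, 9, 9, 8, 9, 6, 9, 9, 9, 9, 9, 7, 9, 9, 9, 9, 9, 9, 9, 9, 9, 9, 9, 8, 9, 8, 9, 7, 8, 6, 6, 9, 9, 10, 6, 9, 9, 9, 6, 7, 9, 9, 9, 9, 6, 8, 7, 9, 6],
  [9, 8, 9, 9, 9, 7, 9, 9, 9, 10, 9, 6, 9, 9, 9, 9, 9, 9, 9, 9, 9, 9, 9, 9, 8, 9, 8, 9, 7, 9, 9, 9, 9, 9, 9, 6, 9, 6, 8, 9, 7, 7, 7, 9, 9, 9, 8, 9, 9, 9, 9, 9, 9, 9, 8, 9],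
  [7, 9, 10, 9, 9, 9, 7, 9, 9, 9, 6, 9, 9, 9, 9, 9, 9, 9, 9, 8, 9, 9, 6, 8, 9, 6, 6, 9, 8, 8, 9, 9, 9, 7, 9, 9, 9, 9, 6, 8, 7, 9, 9, 9, 6, 6, 9, 8, 7, 9, 9, 9, 9, 9, 9, 9],
  [9, 9, 9, 8, 9, 9, 9, 9, 9, 9, 6, 9, 9, 9, 9, 9, 9, 10, 6, 9, 9, 9, 9, 7, 7, 10, 9, 8, 9, 9, 9, 6, 9, 9, 9, 9, 8, 8, 8, 9, 9, 9, 9, 9, 9, 9, 6, 9, 7, 9, 8, 9, 9, 9, 9, 7],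
  [9, 9, 9, 9, 9, 9, 9, 9, 9, 7, 9, 9, 9, 9, 9, 9, 7, 9, 9, 9, 10, 9, 9, 9, 9, 9, 9, 8, 7, 7, 6, 8, 9, 9, 7, 9, 6, 8, 8, 9, 9, 9, 9, 9, 6, 9, 8, 9, 9, 9, 8, 9, 9, 9, 9, 9],
  [9, 9, 9, 9, 6, 9, 9, 8, 10, 9, 9, 9, 6, 9, 9, 8, 9, 9, 9, 9, 9, 6, 8, 9, 9, 9, 9, 9, 8, 7, 9, 9, 9, 9, 9, 7, 9, 8, 10, 9, 9, 6, 9, 9, 10, 8, 9, 6, 9, 9, 9, 9, 7, 9, 9, 9],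
  [8, 8, 9, 9, 7, 9, 10, 9, 9, 8, 9, 9, 9, 9, 8, 9, 7, 6, 9, 9, 9, 9, 9, 9, 9, 9, 9, 9, 9, 6, 9, 9, 9, 9, 9, 9, 9, 9, 9, 9, 9, 6, 9, 9, 6, 9, 6, 9, 9, 9, 9, 7, 9, 9, 9, 9]]

/-- the intersection matrix -/
def TT : Fin 11 → Fin 11 → ℕ := ![![0, 45864, 0, 0, 0, 0, 0, 0, 0, 0, 0],
  ![1, 684, 27, 864, 2816, 0, 0, 0, 20736, 20736, 0],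
  ![0, 72, 480, 2304, 0, 0, 0, 6144, 0, 18432, 18432],
  ![0, 18, 18, 1380, 720, 48, 1776, 1008, 3312, 34560, 3024],
  ![0, 99, 0, 1215, 1134, 0, 1458, 486, 6966, 33048, 1458],
  ![0, 0, 0, 588, 0, 588, 2352, 0, 0, 42336, 0],
  ![0, 0, 0, 444, 216, 48, 4332, 1944, 3672, 33264, 1944],
  ![0, 0, 21, 441, 126, 0, 3402, 3570, 1638, 32004, 4662],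
  ![0, 81, 0, 621, 774, 0, 2754, 702, 7290, 32508, 1134],
  ![0, 9, 3, 720, 408, 72, 2772, 1524, 3612, 34224, 2520],
  ![0, 0, 39, 819, 234, 0, 2106, 2886, 1638, 32760, 5382]]

theorem KP_gl : ∀ j < 13, ∀ i ∈ gl (j + 11), KP j (tri act120 (unl (tab i).w2) 0) = (tab i).n1 := by
  decide +kernel

theorem KP_st : ∀ j < 13, ∀ i ∈ st (j + 11), ∀ q < 120, KP j (tr act120 (unl (tab i).w1) q) = KP j q := by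
  decide +kernel

theorem f_mem : ∀ p ∈ AL, p.2.f ∈ gl (p.1 + 11) := by decide +kernel

theorem LQ_eq : AL.map (fun p => OT.map (fun q => KP p.1 (tri act120 (unl (tab p.2.f).w2) q))) = LQ := by
  decide +kernel

theorem OW_len : OW.length = 56 := by decide +kernel

theorem OT_len : OT.length = 56 := by decide +kernel

theorem OW_C : ∀ w ∈ OW, ∀ x ∈ w, isC x = true := by decide +kernel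

theorem OW_eq : OW.map (fun w => tri act120 w 0) = OT := by decide +kernel

theorem OW_K : ∀ w ∈ OW, KP 0 (tr act120 w 0) = 1 := by decide +kernel

theorem OT_lt : ∀ q ∈ OT, q < 120 := by decide +kernel

theorem tw_C : ∀ x ∈ tw, isC x = true := by decide +kernel

theorem tw_mem : tri act120 tw 0 ∈ OT := by decide +kernel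

theorem tw_K : KP 0 (tr act120 tw 0) = 1 := by decide +kernel

theorem OT_B : ∀ q ∈ OT, ∀ x < 16, isB x = true → act120 x q ∈ OT := by decide +kernel

theorem isB_lt : ∀ x, isB x = true → x < 16 := by
  intro x h
  have := (isB_iff x).1 h
  omega

/-- counting in a list -/
def cnt (l : List ℕ) (i : ℕ) : ℕ := List.rec 0 (fun x _ ih => bif Nat.beq x i then Nat.succ ih else ih) l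

/-- the number of the elements of the label `i'` at distance one from the flags of label `i`, weighted -/
def MM (i i' : ℕ) : ℕ := ((tN.zip LQ).map fun p => bif Nat.beq p.1.1 i then p.1.2.2 * cnt p.2 i' else 0).sum

theorem MM_eq : ∀ i i' : Fin 11, 819 * MM i i' = bb i * TT i i' := by decide +kernel

theorem flag_unique : ((tN.map fun t => Nat.beq t.1 1 && Nat.beq t.2.1 0).zipIdx.filter fun p => p.1) =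
    [(true, 1)] := by decide +kernel

end Cfsg.Agent.H492.ThLineData
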